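/-
Witt's extension theorem, proved once for alternating, symmetric (characteristic not two),
Hermitian and quadratic forms (non-degenerate polar form, any characteristic, any field).

A `FormPair σ V` packages a reflexive `σ`-sesquilinear form `B` together with a "norm" `N`.
Main results: `FormPair.witt_family` (tuples), `FormPair.witt_subspace` (subspaces), and the
specialisations `witt_quadratic`, `witt_alt`, `witt_herm`, with their `FormPair` constructors
`ofQuadratic`, `ofAlt`, `ofHerm`, `ofSymm`.
-/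
import Mathlib

set_option autoImplicit false

namespace Cfsg.Agent.Lib.Forms

open Module

/-- A reflexive sesquilinear form `B` with a compatible norm function `N`. -/
structure FormPair {F : Type*} [Field F] (σ : F →+* F) (V : Type*) [AddCommGroup V] [Module F V]
    where
  B : V →ₛₗ[σ] V →ₗ[F] F
  N : V → F
  ε : F
  ρ : F → F
  σσ : ∀ a, σ (σ a) = a
  flip : ∀ x y, B y x = ε * σ (B x y)
  N_smul : ∀ (a : F) (x : V), N (a • x) = σ a * a * N x
  N_add : ∀ x y, N (x + y) = N x + N y + ρ (B x y)
  ρ_smul : ∀ r x, σ r = r → ρ (r * x) = r * ρ x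
  diag : ∀ x y, N x = N y → B x x = B y y
  range : ∀ x y, ∃ t, ρ t = N x - N y
  nondeg : ∀ x, (∀ y, B x y = 0) → x = 0

namespace FormPair

variable {F V : Type*} [Field F] [AddCommGroup V] [Module F V] {σ : F →+* F} (P : FormPair σ V)

theorem ρ_zero : P.ρ 0 = 0 := by simpa using P.ρ_smul 0 0 (map_zero σ)

theorem B_smul_left (a : F) (x y : V) : P.B (a • x) y = σ a * P.B x y := by
  rw [LinearMap.map_smulₛₗ, LinearMap.smul_apply, smul_eq_mul]

theorem B_smul_right (a : F) (x y : V) : P.B x (a • y) = a * P.B x y := by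
  rw [map_smul, smul_eq_mul]

theorem eq_zero_symm {x y : V} (h : P.B x y = 0) : P.B y x = 0 := by
  rw [P.flip, h, map_zero, mul_zero]

theorem ne_zero_symm {x y : V} (h : P.B x y ≠ 0) : P.B y x ≠ 0 := fun h' => h (P.eq_zero_symm h')

theorem nondeg_right (y : V) (h : ∀ x, P.B x y = 0) : y = 0 :=
  P.nondeg y fun x => P.eq_zero_symm (h x)

theorem exists_rep [FiniteDimensional F V] (f : V →ₗ[F] F) :
    ∃ v, ∀ x, P.B x v = σ (f x) := by
  let b := Module.finBasis F V
  let L : V →ₗ[F] (Fin (finrank F V) → F) := LinearMap.pi fun i => P.B (b i)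
  have hexp : ∀ v x, P.B x v = ∑ i, σ (b.repr x i) * P.B (b i) v := by
    intro v x
    conv_lhs => rw [← b.sum_repr x]
    rw [map_sum, LinearMap.sum_apply]
    simp
  have hinj : Function.Injective L := by
    rw [injective_iff_map_eq_zero]
    intro v hv
    apply P.nondeg_right
    intro x
    rw [hexp]
    exact Finset.sum_eq_zero fun i _ => by
      have : P.B (b i) v = 0 := congrFun hv i
      rw [this, mul_zero]
  have hsurj : Function.Surjective L :=
    (LinearMap.injective_iff_surjective_of_finrank_eq_finrank (by simp)).1 hinj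
  obtain ⟨v, hv⟩ := hsurj fun i => σ (f (b i))
  refine ⟨v, fun x => ?_⟩
  rw [hexp]
  conv_rhs => rw [← b.sum_repr x]
  rw [map_sum, map_sum]
  refine Finset.sum_congr rfl fun i _ => ?_
  have : P.B (b i) v = σ (f (b i)) := congrFun hv i
  rw [this, map_smul, smul_eq_mul, map_mul]

/-- An isometry of `P`. -/
def IsIsom (g : V ≃ₗ[F] V) : Prop :=
  (∀ x y, P.B (g x) (g y) = P.B x y) ∧ ∀ x, P.N (g x) = P.N x

/-- The isometry group of `P`. -/
def isom : Subgroup (V ≃ₗ[F] V) where
  carrier := {g | P.IsIsom g}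
  mul_mem' {a b} ha hb := ⟨fun x y => (ha.1 (b x) (b y)).trans (hb.1 x y),
    fun x => (ha.2 (b x)).trans (hb.2 x)⟩
  one_mem' := ⟨fun _ _ => rfl, fun _ => rfl⟩
  inv_mem' {a} ha := by
    refine ⟨fun x y => ?_, fun x => ?_⟩
    · have := ha.1 (a.symm x) (a.symm y)
      rw [a.apply_symm_apply, a.apply_symm_apply] at this
      exact this.symm
    · have := ha.2 (a.symm x)
      rw [a.apply_symm_apply] at this
      exact this.symm

theorem mem_isom {g : V ≃ₗ[F] V} : g ∈ P.isom ↔ P.IsIsom g := Iff.rfl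

/-- A linear map preserving `B` and `N` is an automorphism. -/
theorem exists_isom_of_map [FiniteDimensional F V] (g : V →ₗ[F] V)
    (hB : ∀ x y, P.B (g x) (g y) = P.B x y) (hN : ∀ x, P.N (g x) = P.N x) :
    ∃ e : V ≃ₗ[F] V, P.IsIsom e ∧ ∀ x, e x = g x := by
  have hinj : Function.Injective g := by
    rw [injective_iff_map_eq_zero]
    intro x hx
    apply P.nondeg
    intro y
    rw [← hB, hx, map_zero, LinearMap.zero_apply]
  exact ⟨LinearEquiv.ofInjectiveEndo g hinj, ⟨hB, hN⟩, fun x => rfl⟩

/-- First case of the extension step: one (quasi-)reflection or transvection suffices. -/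
theorem step_nonperp [FiniteDimensional F V] (x₀ d : V) (hN : P.N (x₀ + d) = P.N x₀)
    (hb : P.B d x₀ ≠ 0) :
    ∃ g : V ≃ₗ[F] V, P.IsIsom g ∧ (∀ v, P.B d v = 0 → g v = v) ∧ g x₀ = x₀ + d := by
  set b := P.B d x₀ with hbdef
  have hσb : σ b ≠ 0 := fun h => hb (by rw [← P.σσ b, h, map_zero])
  have hNd : P.N d = -P.ρ (P.B x₀ d) := by
    have := P.N_add x₀ d
    rw [hN] at this
    linear_combination this.symm
  have hBd : P.B x₀ d + b + P.B d d = 0 := by
    have := P.diag _ _ hN
    simp only [map_add, LinearMap.add_apply] at this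
    rw [← hbdef] at this
    linear_combination this
  let g : V →ₗ[F] V :=
    { toFun := fun v => v + (b⁻¹ * P.B d v) • d
      map_add' := fun x y => by simp only [map_add, mul_add, add_smul]; abel
      map_smul' := fun r x => by
        simp only [map_smul, smul_eq_mul, RingHom.id_apply, smul_add, smul_smul]
        congr 2; ring }
  have hg : ∀ v, g v = v + (b⁻¹ * P.B d v) • d := fun v => rfl
  obtain ⟨e, he, heq⟩ := P.exists_isom_of_map g
    (fun v w => by
      have h1 : P.B v d = P.ε * σ (P.B d v) := P.flip d v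
      have h2 : P.B x₀ d = P.ε * σ b := P.flip d x₀
      rw [hg, hg]
      simp only [map_add, LinearMap.add_apply, P.B_smul_left, P.B_smul_right, map_mul, map_inv₀]
      rw [h1]
      rw [h2] at hBd
      field_simp
      linear_combination (σ (P.B d v) * P.B d w) * hBd)
    (fun v => by
      have h1 : P.B v d = P.ε * σ (P.B d v) := P.flip d v
      have h2 : P.B x₀ d = P.ε * σ b := P.flip d x₀
      rw [hg, P.N_add, P.B_smul_right, P.N_smul, hNd, h1, h2]
      set c := P.B d v with hc
      set r := (σ b * b)⁻¹ * (σ c * c) with hr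
      have hrfix : σ r = r := by
        simp only [hr, map_mul, map_inv₀, P.σσ]; ring
      have e1 : b⁻¹ * c * (P.ε * σ c) = r * (P.ε * σ b) := by
        rw [hr]; field_simp
      have e2 : σ (b⁻¹ * c) * (b⁻¹ * c) = r := by
        rw [hr, map_mul, map_inv₀]; field_simp
      rw [e1, e2, P.ρ_smul r _ hrfix]
      ring)
  refine ⟨e, he, fun v hv => ?_, ?_⟩
  · rw [heq, hg, hv, mul_zero, zero_smul, add_zero]
  · rw [heq, hg, inv_mul_cancel₀ hb, one_smul]

/-- Second case of the extension step: `x₀` is perpendicular to `d`. -/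
theorem step_perp [FiniteDimensional F V] (H : Submodule F V) (x₀ d : V) (hd : d ≠ 0)
    (hH : ∀ h ∈ H, P.B d h = 0) (hdx : P.B d x₀ = 0) (hN : P.N (x₀ + d) = P.N x₀)
    (hx₀ : x₀ ∉ H) (hy₀ : x₀ + d ∉ H) :
    ∃ g : V ≃ₗ[F] V, P.IsIsom g ∧ (∀ h ∈ H, g h = h) ∧ g x₀ = x₀ + d := by
  have hxd : P.B x₀ d = 0 := P.eq_zero_symm hdx
  have hNd : P.N d = 0 := by
    have := P.N_add x₀ d
    rw [hN, hxd, P.ρ_zero] at this
    linear_combination this.symm
  have hdd : P.B d d = 0 := by
    have := P.diag _ _ hN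
    simp only [map_add, LinearMap.add_apply, hxd, hdx] at this
    linear_combination this
  -- the functional `l`
  obtain ⟨l, hlH, hlx, hld⟩ : ∃ l : V →ₗ[F] F, (∀ h ∈ H, l h = 0) ∧ l x₀ = 1 ∧ 1 + l d ≠ 0 := by
    by_cases hx : x₀ ∈ H ⊔ Submodule.span F {d}
    · obtain ⟨f, hfx, hfH⟩ := Submodule.exists_le_ker_of_notMem hx₀
      refine ⟨(f x₀)⁻¹ • f, fun h hh => by simp [LinearMap.mem_ker.1 (hfH hh)], by simp [hfx], ?_⟩
      obtain ⟨h, hh, z, hz, hsum⟩ := Submodule.mem_sup.1 hx
      obtain ⟨c, rfl⟩ := Submodule.mem_span_singleton.1 hz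
      have hfc : f x₀ = c * f d := by
        rw [← hsum, map_add, LinearMap.mem_ker.1 (hfH hh), map_smul, smul_eq_mul, zero_add]
      intro h0
      simp only [LinearMap.smul_apply, smul_eq_mul] at h0
      have hfd : f d = -f x₀ := by
        field_simp at h0
        linear_combination h0
      rw [hfd] at hfc
      have hc : c = -1 := by
        apply mul_right_cancel₀ hfx
        linear_combination hfc
      apply hy₀
      rw [← hsum, hc]
      simpa using hh
    · obtain ⟨f, hfx, hfH⟩ := Submodule.exists_le_ker_of_notMem hx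
      have hfd : f d = 0 := LinearMap.mem_ker.1
        (hfH (Submodule.mem_sup_right (Submodule.mem_span_singleton_self d)))
      exact ⟨(f x₀)⁻¹ • f,
        fun h hh => by simp [LinearMap.mem_ker.1 (hfH (Submodule.mem_sup_left hh))],
        by simp [hfx], by simp [hfd]⟩
  set m := 1 + l d with hmdef
  have hσm : σ m ≠ 0 := fun h => hld (by rw [← P.σσ m, h, map_zero])
  obtain ⟨z, hz⟩ : ∃ z, P.B d z ≠ 0 := by
    by_contra hcon
    push Not at hcon
    exact hd (P.nondeg d hcon)
  set b := P.B d z with hbdef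
  obtain ⟨v₀, hv₀⟩ := P.exists_rep ((σ b / m) • l)
  have hv₀' : ∀ x, P.B x v₀ = b / σ m * σ (l x) := fun x => by
    rw [hv₀, LinearMap.smul_apply, smul_eq_mul, map_mul, map_div₀, P.σσ]
  set w := z - v₀ with hwdef
  have hdw : P.B d w = b / σ m := by
    rw [hwdef, map_sub, hv₀', ← hbdef]
    have : σ m = 1 + σ (l d) := by rw [hmdef, map_add, map_one]
    field_simp
    linear_combination this
  obtain ⟨t₀, ht₀⟩ := P.range z w
  have hwd : P.B w d ≠ 0 := P.ne_zero_symm (by rw [hdw]; exact div_ne_zero hz hσm)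
  set z' := w + (t₀ / P.B w d) • d with hz'def
  have hNz' : P.N z' = P.N z := by
    rw [hz'def, P.N_add, P.N_smul, hNd, P.B_smul_right, div_mul_cancel₀ _ hwd, ht₀]
    ring
  have hBz' : P.B z' z' = P.B z z := P.diag _ _ hNz'
  -- the map
  have hTz' : ∀ x, P.B d x = 0 → P.B (x + l x • d) z' = P.B x z := by
    intro x hx
    rw [hz'def, hwdef]
    simp only [map_add, map_sub, LinearMap.add_apply, P.B_smul_left, P.B_smul_right,
      P.eq_zero_symm hx, hdd, hv₀', ← hbdef]
    have : σ m = 1 + σ (l d) := by rw [hmdef, map_add, map_one]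
    field_simp
    linear_combination (σ (l x)) * b * this
  have hTT : ∀ x y, P.B d x = 0 → P.B d y = 0 →
      P.B (x + l x • d) (y + l y • d) = P.B x y := by
    intro x y hx hy
    simp [P.B_smul_right, P.eq_zero_symm hx, hy, hdd]
  have hTN : ∀ x, P.B d x = 0 → P.N (x + l x • d) = P.N x := by
    intro x hx
    rw [P.N_add, P.N_smul, hNd, P.B_smul_right, P.eq_zero_symm hx]
    simp only [mul_zero, P.ρ_zero]
    ring
  let c : V →ₗ[F] F := b⁻¹ • P.B d
  have hdT : ∀ v, P.B d (v - c v • z) = 0 := fun v => by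
    simp only [c, map_sub, LinearMap.smul_apply, smul_eq_mul, P.B_smul_right, ← hbdef]
    field_simp
    ring
  let T : V →ₗ[F] V := LinearMap.id - c.smulRight z
  let g : V →ₗ[F] V := T + (l.comp T).smulRight d + c.smulRight z'
  have hg : ∀ v, g v = (v - c v • z) + l (v - c v • z) • d + c v • z' := fun v => rfl
  obtain ⟨e, he, heq⟩ := P.exists_isom_of_map g
    (fun u v => by
      set x := u - c u • z with hx
      set y := v - c v • z with hy
      have hu : u = x + c u • z := by rw [hx]; abel
      have hv : v = y + c v • z := by rw [hy]; abel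
      conv_rhs => rw [hu, hv]
      rw [hg, hg, ← hx, ← hy]
      set x' := x + l x • d
      set y' := y + l y • d
      have h1 : P.B x' y' = P.B x y := hTT x y (hdT u) (hdT v)
      have h2 : P.B x' z' = P.B x z := hTz' x (hdT u)
      have h3 : P.B z' y' = P.B z y := by
        rw [P.flip y' z', hTz' y (hdT v), ← P.flip]
      simp only [map_add, LinearMap.add_apply, P.B_smul_left, P.B_smul_right, h1, h2, h3, hBz'])
    (fun u => by
      set x := u - c u • z with hx
      have hu : u = x + c u • z := by rw [hx]; abel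
      conv_rhs => rw [hu]
      rw [hg, ← hx, P.N_add, P.N_add x (c u • z), P.N_smul, P.N_smul, hNz', P.B_smul_right,
        P.B_smul_right, hTz' x (hdT u), hTN x (hdT u)])
  refine ⟨e, he, fun h hh => ?_, ?_⟩
  · have hc : c h = 0 := by simp [c, hH h hh]
    rw [heq, hg, hc]
    simp [hlH h hh]
  · have hc : c x₀ = 0 := by simp [c, hdx]
    rw [heq, hg, hc]
    simp [hlx]

/-- The extension step of Witt's theorem. -/
theorem step [FiniteDimensional F V] (H : Submodule F V) (x₀ y₀ : V) (hx₀ : x₀ ∉ H)
    (hy₀ : y₀ ∉ H) (hB : ∀ h ∈ H, P.B h x₀ = P.B h y₀) (hN : P.N x₀ = P.N y₀) :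
    ∃ g : V ≃ₗ[F] V, P.IsIsom g ∧ (∀ h ∈ H, g h = h) ∧ g x₀ = y₀ := by
  obtain ⟨d, rfl⟩ : ∃ d, y₀ = x₀ + d := ⟨y₀ - x₀, by abel⟩
  have hH : ∀ h ∈ H, P.B d h = 0 := fun h hh => P.eq_zero_symm (by
    have := hB h hh
    rw [map_add] at this
    linear_combination this.symm)
  by_cases hdx : P.B d x₀ = 0
  · by_cases hd : d = 0
    · exact ⟨LinearEquiv.refl F V, ⟨fun _ _ => rfl, fun _ => rfl⟩, fun _ _ => rfl, by simp [hd]⟩
    exact P.step_perp H x₀ d hd hH hdx hN.symm hx₀ hy₀
  · obtain ⟨g, hg, hfix, hgx⟩ := P.step_nonperp x₀ d hN.symm hdx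
    exact ⟨g, hg, fun h hh => hfix h (hH h hh), hgx⟩

/-- Witt's theorem for tuples: two linearly independent tuples with the same Gram data are
in one orbit of the isometry group. -/
theorem witt_family [FiniteDimensional F V] :
    ∀ {n : ℕ} (v w : Fin n → V), LinearIndependent F v → LinearIndependent F w →
      (∀ i j, P.B (v i) (v j) = P.B (w i) (w j)) → (∀ i, P.N (v i) = P.N (w i)) →
      ∃ g : V ≃ₗ[F] V, P.IsIsom g ∧ ∀ i, g (v i) = w i
  | 0, _, _, _, _, _, _ => ⟨LinearEquiv.refl F V, ⟨fun _ _ => rfl, fun _ => rfl⟩, fun i => i.elim0⟩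
  | n + 1, v, w, hv, hw, hB, hN => by
    obtain ⟨g, hg, hgv⟩ := witt_family (fun i => v i.castSucc) (fun i => w i.castSucc)
      (hv.comp _ (Fin.castSucc_injective n)) (hw.comp _ (Fin.castSucc_injective n))
      (fun i j => hB _ _) (fun i => hN _)
    set H := Submodule.span F (Set.range fun i : Fin n => v i.castSucc)
    set y₀ := g.symm (w (Fin.last n))
    have hgy : g y₀ = w (Fin.last n) := g.apply_symm_apply _
    have hnm : ∀ u : Fin (n + 1) → V, LinearIndependent F u →
        u (Fin.last n) ∉ Submodule.span F (Set.range fun i : Fin n => u i.castSucc) := by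
      intro u hu
      exact (linearIndependent_finSucc'.1 hu).2
    have hH : ∀ h ∈ H, g h ∈ Submodule.span F (Set.range fun i : Fin n => w i.castSucc) := by
      intro h hh
      refine Submodule.span_induction ?_ (by simp) (fun a b _ _ ha hb => ?_)
        (fun c a _ ha => ?_) hh
      · rintro _ ⟨i, rfl⟩
        rw [hgv i]; exact Submodule.subset_span ⟨i, rfl⟩
      · rw [map_add]; exact Submodule.add_mem _ ha hb
      · rw [map_smul]; exact Submodule.smul_mem _ c ha
    obtain ⟨k, hk, hkfix, hkx⟩ := P.step H (v (Fin.last n)) y₀ (hnm v hv)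
      (fun hy => hnm w hw (hgy ▸ hH y₀ hy))
      (fun h hh => by
        rw [← hg.1 h y₀, hgy]
        refine Submodule.span_induction ?_ (by simp) (fun a b _ _ ha hb => ?_)
          (fun c a _ ha => ?_) hh
        · rintro _ ⟨i, rfl⟩
          rw [hgv i]; exact hB _ _
        · simp only [map_add, LinearMap.add_apply, ha, hb]
        · simp only [map_smul, P.B_smul_left, ha])
      (by rw [hN, ← hgy, hg.2])
    refine ⟨g * k, P.isom.mul_mem hg hk, fun i => ?_⟩
    show g (k (v i)) = w i
    induction i using Fin.lastCases with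
    | last => rw [hkx, hgy]
    | cast i => rw [hkfix _ (Submodule.subset_span ⟨i, rfl⟩), hgv i]

/-- Witt's theorem: an isometry between subspaces extends to the whole space. -/
theorem witt_subspace [FiniteDimensional F V] (X Y : Submodule F V) (φ : X ≃ₗ[F] Y)
    (hB : ∀ x x' : X, P.B (φ x : V) (φ x' : V) = P.B (x : V) (x' : V))
    (hN : ∀ x : X, P.N (φ x : V) = P.N (x : V)) :
    ∃ g : V ≃ₗ[F] V, P.IsIsom g ∧ ∀ x : X, g (x : V) = (φ x : V) := by
  let b := Module.finBasis F X
  have hv : LinearIndependent F (fun i => (b i : V)) :=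
    b.linearIndependent.map' X.subtype X.ker_subtype
  have hw : LinearIndependent F (fun i => (φ (b i) : V)) :=
    b.linearIndependent.map' (Y.subtype ∘ₗ φ.toLinearMap) (by
      rw [LinearMap.ker_eq_bot]
      exact Subtype.val_injective.comp φ.injective)
  obtain ⟨g, hg, hgb⟩ := P.witt_family _ _ hv hw (fun i j => (hB _ _).symm) fun i => (hN _).symm
  refine ⟨g, hg, fun x => ?_⟩
  have : g.toLinearMap ∘ₗ X.subtype = Y.subtype ∘ₗ φ.toLinearMap := b.ext hgb
  exact LinearMap.congr_fun this x

end FormPair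

section Instances

variable {F V : Type*} [Field F] [AddCommGroup V] [Module F V]

/-- The pair of a quadratic form with non-degenerate polar form. -/
def ofQuadratic (Q : QuadraticForm F V) (hQ : (QuadraticMap.polarBilin Q).Nondegenerate) :
    FormPair (RingHom.id F) V where
  B := QuadraticMap.polarBilin Q
  N := Q
  ε := 1
  ρ := id
  σσ _ := rfl
  flip x y := by
    simp only [QuadraticMap.polarBilin_apply_apply, RingHom.id_apply, one_mul]
    exact QuadraticMap.polar_comm _ _ _
  N_smul a x := by rw [QuadraticMap.map_smul]; rfl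
  N_add x y := by
    simp only [QuadraticMap.polarBilin_apply_apply, QuadraticMap.polar, id]
    abel
  ρ_smul _ _ _ := rfl
  diag x y h := by simp [QuadraticMap.polar_self, h]
  range x y := ⟨Q x - Q y, rfl⟩
  nondeg := hQ.1

/-- The pair of a non-degenerate alternating form. -/
def ofAlt (B : LinearMap.BilinForm F V) (hB : B.Nondegenerate) (hA : B.IsAlt) :
    FormPair (RingHom.id F) V where
  B := B
  N _ := 0
  ε := -1
  ρ _ := 0
  σσ _ := rfl
  flip x y := by
    simp only [RingHom.id_apply, neg_mul, one_mul]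
    exact (LinearMap.IsAlt.neg hA x y).symm
  N_smul _ _ := by simp
  N_add _ _ := by simp
  ρ_smul _ _ _ := by simp
  diag x y _ := by rw [hA x, hA y]
  range _ _ := ⟨0, by simp⟩
  nondeg := hB.1

/-- The pair of a non-degenerate symmetric form in characteristic not two. -/
def ofSymm (h2 : (2 : F) ≠ 0) (B : LinearMap.BilinForm F V) (hB : B.Nondegenerate)
    (hS : B.IsSymm) : FormPair (RingHom.id F) V where
  B := B
  N x := B x x
  ε := 1
  ρ c := 2 * c
  σσ _ := rfl
  flip x y := by
    simp only [RingHom.id_apply, one_mul]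
    exact hS.eq y x
  N_smul a x := by simp [mul_assoc]
  N_add x y := by
    simp only [map_add, LinearMap.add_apply]
    rw [hS.eq y x]
    ring
  ρ_smul r x _ := mul_left_comm _ _ _
  diag _ _ h := h
  range x y := ⟨(B x x - B y y) / 2, mul_div_cancel₀ _ h2⟩
  nondeg := hB.1

/-- Some element has non-zero trace to the fixed field of a non-identity involution. -/
theorem exists_trace_ne_zero (σ : F →+* F) (hσ : σ ≠ RingHom.id F) : ∃ c, c + σ c ≠ 0 := by
  by_contra h
  push Not at h
  apply hσ
  ext a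
  have h1 := h 1
  rw [map_one] at h1
  have := h a
  rw [RingHom.id_apply]
  linear_combination this - a * h1

/-- The pair of a non-degenerate Hermitian form. -/
def ofHerm (σ : F →+* F) (hσ : σ ≠ RingHom.id F) (hσ2 : ∀ a : F, σ (σ a) = a)
    (B : V →ₛₗ[σ] V →ₗ[F] F) (hS : B.IsSymm) (hB : B.Nondegenerate) : FormPair σ V where
  B := B
  N x := B x x
  ε := 1
  ρ c := c + σ c
  σσ := hσ2
  flip x y := by rw [hS.eq, one_mul]
  N_smul a x := by simp [LinearMap.map_smulₛₗ, mul_left_comm, mul_assoc]
  N_add x y := by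
    simp only [map_add, LinearMap.add_apply]
    rw [← hS.eq x y]
    ring
  ρ_smul r x hr := by simp [map_mul, hr, mul_add]
  diag _ _ h := h
  range x y := by
    obtain ⟨c, hc⟩ := exists_trace_ne_zero σ hσ
    set r := (B x x - B y y) / (c + σ c) with hrdef
    have hr : σ r = r := by
      rw [hrdef, map_div₀, map_sub, map_add, hS.eq, hS.eq, hσ2, add_comm (σ c)]
    refine ⟨r * c, ?_⟩
    rw [map_mul, hr, ← mul_add, hrdef, div_mul_cancel₀ _ hc]
  nondeg := hB.1

/-- Witt's theorem for quadratic forms with non-degenerate polar form. -/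
theorem witt_quadratic [FiniteDimensional F V] (Q : QuadraticForm F V)
    (hQ : (QuadraticMap.polarBilin Q).Nondegenerate) (X Y : Submodule F V) (φ : X ≃ₗ[F] Y)
    (hφ : ∀ x : X, Q (φ x : V) = Q (x : V)) :
    ∃ g : V ≃ₗ[F] V, (∀ v : V, Q (g v) = Q v) ∧ ∀ x : X, g (x : V) = (φ x : V) := by
  obtain ⟨g, hg, hgx⟩ := (ofQuadratic Q hQ).witt_subspace X Y φ (fun x x' => by
    show QuadraticMap.polar Q _ _ = QuadraticMap.polar Q _ _
    have := hφ (x + x')
    simp only [map_add, Submodule.coe_add] at this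
    simp only [QuadraticMap.polar, this, hφ]) hφ
  exact ⟨g, hg.2, hgx⟩

end Instances

end Cfsg.Agent.Lib.Forms
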