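/-
Quadratic forms with non-degenerate polar form: orthogonal group `orth Q` on an abstract space,
hyperbolic pairs and splitting, Witt decomposition, reflections, representation of field elements,
and the bridge to `Cfsg.isometryGroup`.
-/
import Mathlib
import Cfsg.Prelude.Def_Classical
import Cfsg.Prelude.Def_ClassicalGeometry
import Cfsg.Agent.Lib.Forms.Witt

set_option autoImplicit false

namespace Cfsg.Agent.Lib.Forms

open Module QuadraticMap
open scoped Matrix

variable {F : Type*} [Field F] {V : Type*} [AddCommGroup V] [Module F V]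
variable {V' : Type*} [AddCommGroup V'] [Module F V']

/-- The polar form of `Q` is non-degenerate. -/
def Nondeg (Q : QuadraticForm F V) : Prop := ∀ x, (∀ y, polar Q x y = 0) → x = 0

theorem nondeg_iff (Q : QuadraticForm F V) : (polarBilin Q).Nondegenerate ↔ Nondeg Q := by
  refine ⟨fun h => h.1, fun h => ⟨h, fun y hy => h y fun x => ?_⟩⟩
  rw [polar_comm]; exact hy x

theorem Nondeg.polarBilin {Q : QuadraticForm F V} (h : Nondeg Q) :
    (QuadraticMap.polarBilin Q).Nondegenerate := (nondeg_iff Q).2 h

theorem Q_add (Q : QuadraticForm F V) (x y : V) : Q (x + y) = Q x + Q y + polar Q x y := by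
  rw [polar]; abel

theorem Q_smul (Q : QuadraticForm F V) (a : F) (x : V) : Q (a • x) = a * a * Q x := by
  rw [QuadraticMap.map_smul]; rfl

theorem Q_comb (Q : QuadraticForm F V) (a b : F) (x y : V) :
    Q (a • x + b • y) = a * a * Q x + b * b * Q y + a * b * polar Q x y := by
  rw [Q_add, Q_smul, Q_smul, polar_smul_left, polar_smul_right, smul_eq_mul, smul_eq_mul]
  ring

theorem polar_self' (Q : QuadraticForm F V) (x : V) : polar Q x x = 2 * Q x := by
  rw [polar_self, nsmul_eq_mul]; norm_num

theorem polar_map {Q : QuadraticForm F V} {Q' : QuadraticForm F V'} (g : V →ₗ[F] V')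
    (hg : ∀ x, Q' (g x) = Q x) (x y : V) : polar Q' (g x) (g y) = polar Q x y := by
  simp only [polar, ← map_add, hg]

theorem injective_of_isometry {Q : QuadraticForm F V} {Q' : QuadraticForm F V'} (hQ : Nondeg Q)
    (g : V →ₗ[F] V') (hg : ∀ x, Q' (g x) = Q x) : Function.Injective g := by
  rw [injective_iff_map_eq_zero]
  intro x hx
  refine hQ x fun y => ?_
  rw [← polar_map g hg, hx, polar_zero_left]

theorem Nondeg.of_equiv {Q : QuadraticForm F V} {Q' : QuadraticForm F V'} (hQ : Nondeg Q)
    (e : Q.IsometryEquiv Q') : Nondeg Q' := by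
  intro x hx
  have h : polar Q (e.toLinearEquiv.symm x) = fun _ => (0 : F) := by
    funext y
    rw [← polar_map e.toLinearEquiv.toLinearMap e.map_app' (e.toLinearEquiv.symm x) y]
    simpa using hx (e y)
  have := hQ _ fun y => congrFun h y
  simpa using this

theorem Nondeg.smul {Q : QuadraticForm F V} (hQ : Nondeg Q) {c : F} (hc : c ≠ 0) :
    Nondeg (c • Q) := by
  refine fun x hx => hQ x fun y => ?_
  have := hx y
  rw [FunLike.coe_smul, polar_smul] at this
  simpa [hc] using this

/-! ### The orthogonal group -/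

/-- The orthogonal group of `Q`. -/
def orth (Q : QuadraticForm F V) : Subgroup (V ≃ₗ[F] V) where
  carrier := {g | ∀ v, Q (g v) = Q v}
  mul_mem' {a b} ha hb := fun v => (ha (b v)).trans (hb v)
  one_mem' := fun _ => rfl
  inv_mem' {a} ha := fun v => by
    conv_rhs => rw [← a.apply_symm_apply v]
    exact (ha _).symm

theorem mem_orth {Q : QuadraticForm F V} {g : V ≃ₗ[F] V} :
    g ∈ orth Q ↔ ∀ v, Q (g v) = Q v := Iff.rfl

theorem orth_polar {Q : QuadraticForm F V} {g : V ≃ₗ[F] V} (hg : g ∈ orth Q) (x y : V) :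
    polar Q (g x) (g y) = polar Q x y := polar_map g.toLinearMap hg x y

/-- An isometric equivalence transports the orthogonal group. -/
def orthCongr {Q : QuadraticForm F V} {Q' : QuadraticForm F V'} (e : Q.IsometryEquiv Q') :
    orth Q ≃* orth Q' where
  toFun g := ⟨(e.toLinearEquiv.symm.trans g.1).trans e.toLinearEquiv, fun v => by
    show Q' (e (g.1 (e.toLinearEquiv.symm v))) = Q' v
    rw [e.map_app, g.2, ← e.map_app]
    exact congrArg Q' (e.toLinearEquiv.apply_symm_apply v)⟩
  invFun g := ⟨(e.toLinearEquiv.trans g.1).trans e.toLinearEquiv.symm, fun v => by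
    show Q (e.toLinearEquiv.symm (g.1 (e v))) = Q v
    rw [← e.map_app]
    show Q' (e.toLinearEquiv (e.toLinearEquiv.symm _)) = _
    rw [LinearEquiv.apply_symm_apply, g.2, e.map_app]⟩
  left_inv g := by ext v; simp
  right_inv g := by ext v; simp
  map_mul' g h := by ext v; simp [LinearEquiv.mul_apply]

theorem card_orth_congr {Q : QuadraticForm F V} {Q' : QuadraticForm F V'}
    (h : Q.Equivalent Q') : Nat.card (orth Q) = Nat.card (orth Q') :=
  h.elim fun e => Nat.card_congr (orthCongr e).toEquiv

theorem card_level_congr {Q : QuadraticForm F V} {Q' : QuadraticForm F V'}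
    (h : Q.Equivalent Q') (c : F) :
    Nat.card {v // Q v = c} = Nat.card {v // Q' v = c} := by
  obtain ⟨e⟩ := h
  refine Nat.card_congr (e.toLinearEquiv.toEquiv.subtypeEquiv fun v => ?_)
  show Q v = c ↔ Q' (e v) = c
  rw [e.map_app]

theorem orth_smul (Q : QuadraticForm F V) {c : F} (hc : c ≠ 0) : orth (c • Q) = orth Q := by
  ext g; simp [mem_orth, hc]

/-- Witt: the orthogonal group is transitive on tuples with the same data. -/
theorem witt_orth [FiniteDimensional F V] {Q : QuadraticForm F V} (hQ : Nondeg Q) {n : ℕ}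
    (v w : Fin n → V) (hv : LinearIndependent F v) (hw : LinearIndependent F w)
    (hN : ∀ i, Q (v i) = Q (w i)) (hB : ∀ i j, polar Q (v i) (v j) = polar Q (w i) (w j)) :
    ∃ g ∈ orth Q, ∀ i, g (v i) = w i := by
  obtain ⟨g, hg, hgv⟩ := (ofQuadratic Q hQ.polarBilin).witt_family v w hv hw hB hN
  exact ⟨g, hg.2, hgv⟩

/-- Witt: transitivity on non-zero vectors with the same value of `Q`. -/
theorem witt_one [FiniteDimensional F V] {Q : QuadraticForm F V} (hQ : Nondeg Q) {v w : V}
    (hv : v ≠ 0) (hw : w ≠ 0) (h : Q v = Q w) : ∃ g ∈ orth Q, g v = w := by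
  obtain ⟨g, hg, hgv⟩ := witt_orth hQ ![v] ![w] (by simp [hv]) (by simp [hw])
    (by simp [h]) (by simp [polar_self', h])
  exact ⟨g, hg, hgv 0⟩

/-! ### Reflections -/

/-- The reflection in `v` (the identity if `Q v = 0`). -/
def reflMap (Q : QuadraticForm F V) (v : V) : V →ₗ[F] V :=
  LinearMap.id - ((Q v)⁻¹ • polarBilin Q v).smulRight v

theorem reflMap_apply (Q : QuadraticForm F V) (v x : V) :
    reflMap Q v x = x - ((Q v)⁻¹ * polar Q v x) • v := rfl

theorem reflMap_involutive (Q : QuadraticForm F V) (v : V) : Function.Involutive (reflMap Q v) := by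
  intro x
  simp only [reflMap_apply, polar_sub_right, polar_smul_right, polar_self', smul_eq_mul]
  by_cases h : Q v = 0
  · simp [h]
  · rw [sub_sub, ← add_smul]
    have : (Q v)⁻¹ * polar Q v x +
        (Q v)⁻¹ * (polar Q v x - (Q v)⁻¹ * polar Q v x * (2 * Q v)) = 0 := by
      field_simp; ring
    rw [this, zero_smul, sub_zero]

/-- The reflection in `v` as an automorphism. -/
def refl (Q : QuadraticForm F V) (v : V) : V ≃ₗ[F] V :=
  LinearEquiv.ofInvolutive (reflMap Q v) (reflMap_involutive Q v)

theorem refl_apply (Q : QuadraticForm F V) (v x : V) :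
    refl Q v x = x - ((Q v)⁻¹ * polar Q v x) • v := rfl

theorem refl_mem (Q : QuadraticForm F V) (v : V) : refl Q v ∈ orth Q := by
  intro x
  rw [refl_apply, sub_eq_add_neg, ← neg_smul, Q_add, Q_smul, polar_smul_right, polar_comm Q x v,
    smul_eq_mul]
  by_cases h : Q v = 0
  · simp [h]
  · field_simp; ring

theorem refl_inv (Q : QuadraticForm F V) (v : V) : (refl Q v)⁻¹ = refl Q v := by
  rw [inv_eq_iff_mul_eq_one]
  ext x; exact reflMap_involutive Q v x

theorem refl_mul_self (Q : QuadraticForm F V) (v : V) : refl Q v * refl Q v = 1 := by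
  ext x; exact reflMap_involutive Q v x

theorem refl_fix (Q : QuadraticForm F V) {v x : V} (h : polar Q v x = 0) : refl Q v x = x := by
  simp [refl_apply, h]

theorem refl_self (Q : QuadraticForm F V) {v : V} (h : Q v ≠ 0) : refl Q v v = -v := by
  rw [refl_apply, polar_self', mul_comm 2, ← mul_assoc, inv_mul_cancel₀ h, one_mul, two_smul]
  abel

theorem refl_conj {Q : QuadraticForm F V} {g : V ≃ₗ[F] V} (hg : g ∈ orth Q) (v : V) :
    g * refl Q v * g⁻¹ = refl Q (g v) := by
  ext x
  show g (refl Q v (g.symm x)) = refl Q (g v) x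
  rw [refl_apply, refl_apply, map_sub, g.apply_symm_apply, map_smul, hg,
    ← orth_polar hg v (g.symm x), g.apply_symm_apply]

theorem refl_smul (Q : QuadraticForm F V) {a : F} (ha : a ≠ 0) (v : V) :
    refl Q (a • v) = refl Q v := by
  ext x
  simp only [refl_apply, Q_smul, polar_smul_left, smul_smul, smul_eq_mul]
  congr 2
  field_simp

/-- The reflection as an element of the orthogonal group. -/
def orefl (Q : QuadraticForm F V) (v : V) : orth Q := ⟨refl Q v, refl_mem Q v⟩

/-! ### Hyperbolic pairs -/

/-- A hyperbolic pair. -/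
structure HypPair (Q : QuadraticForm F V) (e f : V) : Prop where
  left : Q e = 0
  right : Q f = 0
  pol : polar Q e f = 1

theorem exists_hypPair {Q : QuadraticForm F V} (hQ : Nondeg Q) {e : V} (he : e ≠ 0)
    (h : Q e = 0) : ∃ f, HypPair Q e f := by
  obtain ⟨f₀, hf₀⟩ : ∃ f, polar Q e f ≠ 0 := by
    by_contra hc
    push Not at hc
    exact he (hQ e hc)
  refine ⟨(polar Q e f₀)⁻¹ • f₀ + (-((polar Q e f₀)⁻¹ * (polar Q e f₀)⁻¹ * Q f₀)) • e, h, ?_, ?_⟩
  · rw [Q_comb, h, polar_comm Q f₀ e]
    field_simp
    ring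
  · simp only [polar_add_right, polar_smul_right, polar_self', h, smul_eq_mul]
    rw [inv_mul_cancel₀ hf₀]; ring

/-- The orthogonal complement of a pair of vectors. -/
def core (Q : QuadraticForm F V) (e f : V) : Submodule F V :=
  LinearMap.ker (polarBilin Q e) ⊓ LinearMap.ker (polarBilin Q f)

theorem mem_core {Q : QuadraticForm F V} {e f v : V} :
    v ∈ core Q e f ↔ polar Q e v = 0 ∧ polar Q f v = 0 := Iff.rfl

/-- The restriction of `Q` to a subspace. -/
abbrev res (Q : QuadraticForm F V) (W : Submodule F V) : QuadraticForm F W := Q.comp W.subtype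

theorem res_apply (Q : QuadraticForm F V) (W : Submodule F V) (w : W) : res Q W w = Q w := rfl

theorem res_polar (Q : QuadraticForm F V) (W : Submodule F V) (u w : W) :
    polar (res Q W) u w = polar Q (u : V) (w : V) := rfl

namespace HypPair

variable {Q : QuadraticForm F V} {e f : V} (hp : HypPair Q e f)
include hp

theorem symm : HypPair Q f e := ⟨hp.right, hp.left, (polar_comm Q f e).trans hp.pol⟩

theorem pol' : polar Q f e = 1 := hp.symm.pol

theorem pol_ee : polar Q e e = 0 := by rw [polar_self', hp.left, mul_zero]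

theorem pol_ff : polar Q f f = 0 := by rw [polar_self', hp.right, mul_zero]

theorem left_ne : e ≠ 0 := fun h => by simpa [h] using hp.pol

theorem proj_mem (v : V) : v - polar Q f v • e - polar Q e v • f ∈ core Q e f := by
  simp [mem_core, polar_sub_right, polar_smul_right, hp.pol, hp.pol', hp.pol_ee, hp.pol_ff]

theorem linearIndependent : LinearIndependent F ![e, f] := by
  refine LinearIndependent.pair_iff.2 fun s t hst => ?_
  have h1 := congrArg (polar Q e) hst
  have h2 := congrArg (polar Q f) hst
  simp only [polar_add_right, polar_smul_right, hp.pol, hp.pol', hp.pol_ee, hp.pol_ff,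
    polar_zero_right, smul_eq_mul] at h1 h2
  constructor
  · linear_combination h2
  · linear_combination h1

/-- `V` splits as the hyperbolic plane times `core Q e f`. -/
def split : V ≃ₗ[F] (F × F) × core Q e f where
  toFun v := ((polar Q f v, polar Q e v), ⟨v - polar Q f v • e - polar Q e v • f, hp.proj_mem v⟩)
  map_add' x y := by
    ext <;> simp only [polar_add_right, Prod.fst_add, Prod.snd_add, Submodule.coe_add, add_smul]
    abel
  map_smul' a x := by
    ext <;> simp only [polar_smul_right, RingHom.id_apply, Prod.smul_fst, Prod.smul_snd,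
      SetLike.val_smul, smul_eq_mul, smul_sub, smul_smul]
  invFun p := p.1.1 • e + p.1.2 • f + (p.2 : V)
  left_inv v := by simp only; abel
  right_inv p := by
    obtain ⟨⟨a, b⟩, w, hw⟩ := p
    have h1 : polar Q e w = 0 := hw.1
    have h2 : polar Q f w = 0 := hw.2
    ext <;>
      simp only [polar_add_right, polar_smul_right, hp.pol, hp.pol', hp.pol_ee, hp.pol_ff, h1, h2,
        smul_eq_mul, mul_one, mul_zero, add_zero, zero_add]
    abel

theorem Q_comb_core (a b : F) {w : V} (hw : w ∈ core Q e f) :
    Q (a • e + b • f + w) = a * b + Q w := by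
  have h1 : polar Q e w = 0 := hw.1
  have h2 : polar Q f w = 0 := hw.2
  rw [Q_add, Q_comb, hp.left, hp.right, hp.pol, polar_add_left, polar_smul_left, polar_smul_left,
    h1, h2]
  simp

theorem Q_eq (v : V) : Q v = (hp.split v).1.1 * (hp.split v).1.2 + Q ((hp.split v).2 : V) := by
  conv_lhs => rw [← hp.split.symm_apply_apply v]
  exact hp.Q_comb_core _ _ (hp.split v).2.2

theorem nondeg_core (hQ : Nondeg Q) : Nondeg (res Q (core Q e f)) := by
  intro w hw
  refine Subtype.ext (hQ (w : V) fun y => ?_)
  have h1 : polar Q (w : V) e = 0 := (polar_comm Q _ _).trans w.2.1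
  have h2 : polar Q (w : V) f = 0 := (polar_comm Q _ _).trans w.2.2
  have h3 := hw ⟨_, hp.proj_mem y⟩
  rw [res_polar] at h3
  simpa [polar_sub_right, polar_smul_right, h1, h2] using h3

theorem finrank_core [FiniteDimensional F V] :
    finrank F (core Q e f) + 2 = finrank F V := by
  rw [hp.split.finrank_eq, Module.finrank_prod, Module.finrank_prod, finrank_self]
  omega

end HypPair

/-- The hyperbolic plane `(a, b) ↦ a * b`. -/
def qHyp : QuadraticForm F (F × F) :=
  QuadraticMap.linMulLin (LinearMap.fst F F F) (LinearMap.snd F F F)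

theorem qHyp_apply (p : F × F) : qHyp p = p.1 * p.2 := rfl

/-- The hyperbolic form `∑ x_i y_i`. -/
def qPlus (m : ℕ) : QuadraticForm F (Fin m ⊕ Fin m → F) :=
  ∑ i : Fin m, QuadraticMap.linMulLin (LinearMap.proj (Sum.inl i)) (LinearMap.proj (Sum.inr i))

theorem qPlus_apply (m : ℕ) (v : Fin m ⊕ Fin m → F) :
    qPlus m v = ∑ i : Fin m, v (.inl i) * v (.inr i) := by
  simp [qPlus]

theorem qPlus_polar (m : ℕ) (u v : Fin m ⊕ Fin m → F) : polar (qPlus m) u v =
    ∑ i : Fin m, (u (.inl i) * v (.inr i) + v (.inl i) * u (.inr i)) := by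
  simp only [polar, qPlus_apply, Pi.add_apply, ← Finset.sum_sub_distrib]
  exact Finset.sum_congr rfl fun i _ => by ring

theorem qPlus_nondeg (m : ℕ) : Nondeg (qPlus (F := F) m) := by
  intro x hx
  funext j
  rcases j with i | i
  · simpa [qPlus_polar, Finset.sum_add_distrib, Pi.single_apply] using hx (Pi.single (Sum.inr i) 1)
  · simpa [qPlus_polar, Finset.sum_add_distrib, Pi.single_apply] using hx (Pi.single (Sum.inl i) 1)

theorem prod_nondeg {Q : QuadraticForm F V} {Q' : QuadraticForm F V'} (h : Nondeg Q)
    (h' : Nondeg Q') : Nondeg (Q.prod Q') := by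
  intro x hx
  ext
  · refine h _ fun y => ?_
    simpa [polar] using hx (y, 0)
  · refine h' _ fun y => ?_
    simpa [polar] using hx (0, y)

theorem hypPair_equivalent {Q : QuadraticForm F V} {e f : V} (hp : HypPair Q e f) :
    Q.Equivalent (qHyp.prod (res Q (core Q e f))) :=
  ⟨{ hp.split with map_app' := fun v => (hp.Q_eq v).symm }⟩

/-- Peeling off one hyperbolic plane from `qPlus`. -/
def qPlusSuccEquiv (m : ℕ) :
    (qPlus (F := F) (m + 1)).IsometryEquiv (qHyp.prod (qPlus m)) where
  toFun v := ((v (.inl 0), v (.inr 0)), Sum.elim (fun i => v (.inl i.succ)) (fun i => v (.inr i.succ)))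
  map_add' x y := by
    refine Prod.ext rfl ?_
    funext i; rcases i with i | i <;> rfl
  map_smul' a x := by
    refine Prod.ext rfl ?_
    funext i; rcases i with i | i <;> rfl
  invFun p := Sum.elim (Fin.cases p.1.1 fun i => p.2 (.inl i)) (Fin.cases p.1.2 fun i => p.2 (.inr i))
  left_inv v := by
    funext i
    rcases i with i | i <;> induction i using Fin.cases <;> rfl
  right_inv p := by
    refine Prod.ext (Prod.ext rfl rfl) ?_
    funext i; rcases i with i | i <;> rfl
  map_app' v := by
    simp [QuadraticMap.prod_apply, qPlus_apply, qHyp_apply, Fin.sum_univ_succ]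

/-- Witt decomposition: hyperbolic part plus anisotropic kernel. -/
theorem exists_decomp [FiniteDimensional F V] (Q : QuadraticForm F V) (hQ : Nondeg Q) :
    ∃ (m : ℕ) (W : Submodule F V), (res Q W).Anisotropic ∧ Nondeg (res Q W) ∧
      2 * m + finrank F W = finrank F V ∧ Q.Equivalent ((qPlus m).prod (res Q W)) := by
  generalize hn : finrank F V = n
  induction n using Nat.strong_induction_on generalizing V with
  | _ n ih =>
    by_cases hA : Q.Anisotropic
    · let t : (⊤ : Submodule F V) ≃ₗ[F] V := LinearEquiv.ofTop ⊤ rfl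
      refine ⟨0, ⊤, fun w hw => Subtype.ext (hA _ hw), ?_, by simp [hn], ⟨?_⟩⟩
      · exact hQ.of_equiv { t.symm with map_app' := fun v => rfl }
      · exact
          { toLinearEquiv :=
              { toFun := fun v => (0, ⟨v, trivial⟩)
                map_add' := fun x y => Prod.ext (by simp) rfl
                map_smul' := fun a x => Prod.ext (by simp) rfl
                invFun := fun p => p.2
                left_inv := fun v => rfl
                right_inv := fun p => Prod.ext (Subsingleton.elim _ _) rfl }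
            map_app' := fun v => by simp [QuadraticMap.prod_apply] }
    · obtain ⟨e, he, he0⟩ : ∃ e, Q e = 0 ∧ e ≠ 0 := by
        simp only [QuadraticMap.Anisotropic] at hA
        push Not at hA
        exact hA
      obtain ⟨f, hp⟩ := exists_hypPair hQ he0 he
      have hfr := hp.finrank_core
      obtain ⟨m, W, hWa, hWn, hdim, heq⟩ :=
        ih _ (by omega) (res Q (core Q e f)) (hp.nondeg_core hQ) rfl
      let W' := W.map (core Q e f).subtype
      let eW : W ≃ₗ[F] W' := Submodule.equivMapOfInjective _ Subtype.val_injective W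
      let iW : (res (res Q (core Q e f)) W).IsometryEquiv (res Q W') :=
        { eW with map_app' := fun w => rfl }
      refine ⟨m + 1, W', ?_, hWn.of_equiv iW, ?_, ?_⟩
      · intro w hw
        have : eW.symm w = 0 := hWa _ (by
          rw [← iW.map_app]
          show Q (eW (eW.symm w) : V) = 0
          rw [LinearEquiv.apply_symm_apply]; exact hw)
        simpa using this
      · rw [← eW.finrank_eq]; omega
      · refine (hypPair_equivalent hp).trans ?_
        refine ((Equivalent.refl qHyp).prod (heq.trans ((Equivalent.refl _).prod ⟨iW⟩))).trans ?_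
        refine Equivalent.trans ?_ (Equivalent.prod ⟨(qPlusSuccEquiv m).symm⟩ (Equivalent.refl _))
        exact ⟨{ (LinearEquiv.prodAssoc F _ _ _).symm with
          map_app' := fun p => add_assoc _ _ _ }⟩

/-! ### Representation of field elements -/

/-- Two non-zero squares-coefficients represent everything over a finite field. -/
theorem exists_sq_add_sq [Finite F] (h2 : (2 : F) ≠ 0) {A B : F} (hA : A ≠ 0) (hB : B ≠ 0)
    (c : F) : ∃ x y, A * (x * x) + B * (y * y) = c := by
  have := Fintype.ofFinite F
  obtain ⟨x, y, h⟩ := FiniteField.exists_root_sum_quadratic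
    (f := Polynomial.C A * Polynomial.X ^ 2 - Polynomial.C c)
    (g := Polynomial.C B * Polynomial.X ^ 2)
    (by
      have hlt : (Polynomial.C c).degree < (Polynomial.C A * Polynomial.X ^ 2).degree := by
        rw [Polynomial.degree_C_mul_X_pow 2 hA]
        exact lt_of_le_of_lt Polynomial.degree_C_le (by norm_num)
      rw [Polynomial.degree_sub_eq_left_of_degree_lt hlt, Polynomial.degree_C_mul_X_pow 2 hA]
      rfl)
    (Polynomial.degree_C_mul_X_pow 2 hB)
    (FiniteField.odd_card_of_char_ne_two fun h => h2 (by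
      have := ringChar.Nat.cast_ringChar (R := F)
      rw [h] at this; exact_mod_cast this))
  refine ⟨x, y, ?_⟩
  simp at h
  linear_combination h

theorem exists_sqrt [Finite F] (h2 : (2 : F) = 0) (a : F) : ∃ r, r * r = a := by
  have := Fintype.ofFinite F
  obtain ⟨r, hr⟩ := FiniteField.isSquare_of_char_two
    (F := F) (CharP.ringChar_of_prime_eq_zero Nat.prime_two (by exact_mod_cast h2)) a
  exact ⟨r, hr.symm⟩

theorem exists_Q_eq [Finite F] [FiniteDimensional F V] {Q : QuadraticForm F V} (hQ : Nondeg Q)
    (hn : 2 ≤ finrank F V) (c : F) : ∃ v, Q v = c := by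
  by_cases hA : Q.Anisotropic
  · have : Nontrivial V := Module.nontrivial_of_finrank_pos (R := F) (by omega)
    obtain ⟨v, hv⟩ := exists_ne (0 : V)
    have hv' : Q v ≠ 0 := fun h => hv (hA v h)
    by_cases h2 : (2 : F) = 0
    · obtain ⟨r, hr⟩ := exists_sqrt h2 (c / Q v)
      exact ⟨r • v, by rw [Q_smul, hr, div_mul_cancel₀ _ hv']⟩
    · have hker : LinearMap.ker (polarBilin Q v) ≠ ⊥ := fun hb => by
        have hi := LinearMap.finrank_range_add_finrank_ker (polarBilin Q v)
        rw [hb, finrank_bot] at hi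
        have := Submodule.finrank_le (LinearMap.range (polarBilin Q v))
        rw [finrank_self] at this
        omega
      obtain ⟨w, hw, hw0⟩ := Submodule.exists_mem_ne_zero_of_ne_bot hker
      have hvw : polar Q v w = 0 := hw
      obtain ⟨x, y, hxy⟩ := exists_sq_add_sq h2 hv' (fun h => hw0 (hA w h)) c
      exact ⟨x • v + y • w, by rw [Q_comb, hvw]; linear_combination hxy⟩
  · obtain ⟨e, he, he0⟩ : ∃ e, Q e = 0 ∧ e ≠ 0 := by
      simp only [QuadraticMap.Anisotropic] at hA
      push Not at hA
      exact hA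
    obtain ⟨f, hp⟩ := exists_hypPair hQ he0 he
    exact ⟨c • e + (1 : F) • f, by rw [Q_comb, hp.left, hp.right, hp.pol]; ring⟩

theorem exists_singular_of_char_two [Finite F] [FiniteDimensional F V] (h2 : (2 : F) = 0)
    (Q : QuadraticForm F V) (hn : 3 ≤ finrank F V) : ∃ v, v ≠ 0 ∧ Q v = 0 := by
  have : Nontrivial V := Module.nontrivial_of_finrank_pos (R := F) (by omega)
  obtain ⟨v, hv⟩ := exists_ne (0 : V)
  by_cases hQv : Q v = 0
  · exact ⟨v, hv, hQv⟩
  obtain ⟨u, hu, huv⟩ : ∃ u ∈ LinearMap.ker (polarBilin Q v), u ∉ Submodule.span F {v} := by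
    by_contra hc
    push Not at hc
    have h1 := Submodule.finrank_mono (show LinearMap.ker (polarBilin Q v) ≤ Submodule.span F {v}
      from hc)
    have h2 : finrank F (Submodule.span F ({v} : Set V)) = 1 := finrank_span_singleton hv
    have h3 := LinearMap.finrank_range_add_finrank_ker (polarBilin Q v)
    have h4 := Submodule.finrank_le (LinearMap.range (polarBilin Q v))
    rw [finrank_self] at h4
    omega
  have hvu : polar Q v u = 0 := hu
  obtain ⟨r, hr⟩ := exists_sqrt h2 (Q u / Q v)
  refine ⟨r • v + (1 : F) • u, fun h => huv ?_, ?_⟩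
  · rw [one_smul] at h
    rw [eq_neg_of_add_eq_zero_right h]
    exact Submodule.neg_mem _ (Submodule.smul_mem _ _ (Submodule.mem_span_singleton_self v))
  · rw [Q_comb, hr, hvu, div_mul_cancel₀ _ hQv]
    linear_combination Q u * h2

theorem anisotropic_finrank_le_two [Finite F] [FiniteDimensional F V] {Q : QuadraticForm F V}
    (hQ : Nondeg Q) (hA : Q.Anisotropic) : finrank F V ≤ 2 := by
  by_contra hn
  by_cases h2 : (2 : F) = 0
  · obtain ⟨v, hv, h⟩ := exists_singular_of_char_two h2 Q (by omega)
    exact hv (hA v h)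
  have : Nontrivial V := Module.nontrivial_of_finrank_pos (R := F) (by omega)
  obtain ⟨v, hv⟩ := exists_ne (0 : V)
  have hQv : Q v ≠ 0 := fun h => hv (hA v h)
  set K := LinearMap.ker (polarBilin Q v)
  have hK : 2 ≤ finrank F K := by
    have h3 := LinearMap.finrank_range_add_finrank_ker (polarBilin Q v)
    have h4 := Submodule.finrank_le (LinearMap.range (polarBilin Q v))
    rw [finrank_self] at h4
    show 2 ≤ finrank F (LinearMap.ker (polarBilin Q v))
    omega
  have hpv : polar Q v v ≠ 0 := by rw [polar_self']; exact mul_ne_zero h2 hQv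
  have hKn : Nondeg (res Q K) := by
    intro w hw
    have hwv : polar Q (w : V) v = 0 := (polar_comm Q _ _).trans w.2
    refine Subtype.ext (hQ _ fun y => ?_)
    have hy : y - (polar Q v y / polar Q v v) • v ∈ K := by
      show polar Q v _ = 0
      rw [polar_sub_right, polar_smul_right, smul_eq_mul, div_mul_cancel₀ _ hpv, sub_self]
    have := hw ⟨_, hy⟩
    rw [res_polar] at this
    simpa [polar_sub_right, polar_smul_right, hwv] using this
  obtain ⟨⟨u, hu⟩, hQu⟩ := exists_Q_eq hKn hK (-Q v)
  have hQu' : Q u = -Q v := hQu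
  have h0 := hA (v + u) (by rw [Q_add, hQu', show polar Q v u = 0 from hu]; ring)
  apply hpv
  have hu' : u = -v := eq_neg_of_add_eq_zero_right h0
  have : polar Q v u = 0 := hu
  rw [hu', polar_neg_right, neg_eq_zero] at this
  exact this

/-! ### Bridge to `Cfsg.isometryGroup` -/

variable {ι : Type} [Fintype ι] [DecidableEq ι]

/-- The general linear group as linear automorphisms. -/
def glEquiv : Matrix.GeneralLinearGroup ι F ≃* ((ι → F) ≃ₗ[F] (ι → F)) :=
  Matrix.GeneralLinearGroup.toLin.trans (LinearMap.GeneralLinearGroup.generalLinearEquiv F _)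

theorem glEquiv_apply (g : Matrix.GeneralLinearGroup ι F) (v : ι → F) :
    glEquiv g v = (g : Matrix ι ι F) *ᵥ v := rfl

theorem map_isometryGroup (Q : QuadraticForm F (ι → F)) {f : (ι → F) → F} (hf : ∀ v, f v = Q v) :
    (Cfsg.isometryGroup F f).map (glEquiv (F := F) (ι := ι)).toMonoidHom = orth Q := by
  ext g
  constructor
  · rintro ⟨a, ha, rfl⟩ v
    have h : f ((a : Matrix ι ι F) *ᵥ v) = f v := ha v v
    rw [hf, hf] at h
    exact h
  · intro hg
    refine ⟨glEquiv.symm g, fun u _ => ?_, glEquiv.apply_symm_apply g⟩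
    show f ((glEquiv.symm g : Matrix ι ι F) *ᵥ u) = f u
    rw [hf, hf, ← glEquiv_apply, MulEquiv.apply_symm_apply]
    exact hg u

/-- `Cfsg.isometryGroup` is the orthogonal group. -/
noncomputable def isoOrth (Q : QuadraticForm F (ι → F)) {f : (ι → F) → F}
    (hf : ∀ v, f v = Q v) : Cfsg.isometryGroup F f ≃* orth Q :=
  ((Cfsg.isometryGroup F f).equivMapOfInjective _ glEquiv.injective).trans
    (MulEquiv.subgroupCongr (map_isometryGroup Q hf))

theorem isoOrth_apply (Q : QuadraticForm F (ι → F)) {f : (ι → F) → F} (hf : ∀ v, f v = Q v)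
    (g : Cfsg.isometryGroup F f) (v : ι → F) :
    (isoOrth Q hf g).1 v = ((g : Matrix.GeneralLinearGroup ι F) : Matrix ι ι F) *ᵥ v := rfl

theorem polarVec_dotProduct (Q : QuadraticForm F (ι → F)) (v x : ι → F) :
    Cfsg.polarVec (⇑Q) v ⬝ᵥ x = polar Q v x := by
  have : polar Q v x = polarBilin Q v (∑ j, x j • (Pi.single j (1 : F) : ι → F)) := by
    congr 1
    exact pi_eq_sum_univ' x
  rw [this, map_sum]
  simp only [map_smul, polarBilin_apply_apply, smul_eq_mul, Cfsg.polarVec, dotProduct]
  exact Finset.sum_congr rfl fun j _ => mul_comm _ _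

theorem reflectionMatrix_mulVec (Q : QuadraticForm F (ι → F)) (v x : ι → F) :
    Cfsg.reflectionMatrix (⇑Q) v *ᵥ x = refl Q v x := by
  rw [Cfsg.reflectionMatrix, Matrix.sub_mulVec, Matrix.one_mulVec, Matrix.smul_mulVec,
    Matrix.vecMulVec_mulVec, polarVec_dotProduct, refl_apply, op_smul_eq_smul, smul_smul]

theorem coe_eq_reflectionMatrix_iff (Q : QuadraticForm F (ι → F))
    (g : Cfsg.isometryGroup F (⇑Q)) (v : ι → F) :
    ((g : Matrix.GeneralLinearGroup ι F) : Matrix ι ι F) = Cfsg.reflectionMatrix (⇑Q) v ↔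
      isoOrth Q (fun _ => rfl) g = orefl Q v := by
  constructor
  · intro h
    apply Subtype.ext
    ext x : 1
    rw [isoOrth_apply, h, reflectionMatrix_mulVec]; rfl
  · intro h
    apply Matrix.ext_of_mulVec_single
    intro j
    rw [reflectionMatrix_mulVec, ← isoOrth_apply Q (fun _ => rfl) g, h]; rfl

end Cfsg.Agent.Lib.Forms
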