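/-
Counting in finite quadratic spaces: level sets and orders of orthogonal groups.
-/
import Cfsg.Agent.Lib.Forms.Quad

set_option autoImplicit false

namespace Cfsg.Agent.Lib.Forms

open Module QuadraticMap

variable {F : Type*} [Field F] [Finite F] {V : Type*} [AddCommGroup V] [Module F V]

/-- The binary form `x² + a x y + b y²`. -/
def qBin (a b : F) : QuadraticForm F (Fin 2 → F) :=
  QuadraticMap.linMulLin (LinearMap.proj 0) (LinearMap.proj 0) +
    a • QuadraticMap.linMulLin (LinearMap.proj 0) (LinearMap.proj 1) +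
    b • QuadraticMap.linMulLin (LinearMap.proj 1) (LinearMap.proj 1)

omit [Finite F] in
theorem qBin_apply (a b : F) (z : Fin 2 → F) :
    qBin a b z = z 0 ^ 2 + a * z 0 * z 1 + b * z 1 ^ 2 := by
  simp [qBin]; ring

/-- The one-dimensional form `c x²`. -/
def qOne (c : F) : QuadraticForm F F := c • QuadraticMap.sq

omit [Finite F] in
theorem qOne_apply (c x : F) : qOne c x = c * (x * x) := by simp [qOne]

omit [Finite F] in
theorem qBin_anisotropic {a b : F}
    (hab : ∀ z₁ z₂ : F, z₁ ^ 2 + a * z₁ * z₂ + b * z₂ ^ 2 = 0 → z₁ = 0 ∧ z₂ = 0) :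
    (qBin a b).Anisotropic := by
  intro z hz
  rw [qBin_apply] at hz
  funext i
  fin_cases i
  · exact (hab _ _ hz).1
  · exact (hab _ _ hz).2

theorem qBin_nondeg {a b : F}
    (hab : ∀ z₁ z₂ : F, z₁ ^ 2 + a * z₁ * z₂ + b * z₂ ^ 2 = 0 → z₁ = 0 ∧ z₂ = 0) :
    Nondeg (qBin a b) := by
  have hd : (4 : F) * b - a ^ 2 ≠ 0 := by
    intro hd
    by_cases h2 : (2 : F) = 0
    · obtain ⟨r, hr⟩ := exists_sqrt h2 b
      have ha : a = 0 := pow_eq_zero_iff two_ne_zero |>.1 (by linear_combination (2 * b) * h2 - hd)
      exact one_ne_zero (hab r 1 (by rw [ha]; linear_combination hr + b * h2)).2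
    · exact h2 (neg_eq_zero.1 (hab a (-2) (by linear_combination hd)).2)
  intro x hx
  have h0 := hx ![1, 0]
  have h1 := hx ![0, 1]
  simp [polar, qBin_apply, Matrix.vecHead, Matrix.vecTail] at h0 h1
  have e0 : 2 * x 0 + a * x 1 = 0 := by linear_combination h0
  have e1 : a * x 0 + 2 * b * x 1 = 0 := by linear_combination h1
  have x1 : x 1 = 0 := (mul_eq_zero.1 (by linear_combination 2 * e1 - a * e0 :
    ((4 : F) * b - a ^ 2) * x 1 = 0)).resolve_left hd
  have x0 : x 0 = 0 := (mul_eq_zero.1 (by linear_combination 2 * b * e0 - a * e1 :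
    ((4 : F) * b - a ^ 2) * x 0 = 0)).resolve_left hd
  funext i
  fin_cases i
  · exact x0
  · exact x1

omit [Finite F] in
theorem qOne_nondeg {c : F} (hc : c ≠ 0) (h2 : (2 : F) ≠ 0) : Nondeg (qOne c) := by
  intro x hx
  have := hx x
  rw [polar_self', qOne_apply] at this
  simpa [hc, h2] using this

theorem exists_qBin_equiv {Q : QuadraticForm F V} (hQ : Nondeg Q) (h : finrank F V = 2)
    (hA : Q.Anisotropic) :
    ∃ a b : F, (∀ z₁ z₂ : F, z₁ ^ 2 + a * z₁ * z₂ + b * z₂ ^ 2 = 0 → z₁ = 0 ∧ z₂ = 0) ∧
      Q.Equivalent (qBin a b) := by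
  have : FiniteDimensional F V := Module.finite_of_finrank_pos (by omega)
  obtain ⟨v, hv⟩ := exists_Q_eq hQ (by omega) 1
  have hv0 : v ≠ 0 := fun h => by simp [h] at hv
  obtain ⟨w, hw⟩ : ∃ w, w ∉ Submodule.span F {v} := by
    by_contra hc
    push Not at hc
    have := Submodule.finrank_mono (show (⊤ : Submodule F V) ≤ Submodule.span F {v} from fun x _ => hc x)
    rw [finrank_top, finrank_span_singleton hv0] at this
    omega
  have hli : LinearIndependent F ![v, w] := by
    refine LinearIndependent.pair_iff.2 fun s t hst => ?_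
    have ht : t = 0 := by
      by_contra ht
      apply hw
      have : w = (-(t⁻¹ * s)) • v := by
        rw [neg_smul, mul_smul, ← smul_neg, ← eq_neg_of_add_eq_zero_right hst, smul_smul,
          inv_mul_cancel₀ ht, one_smul]
      rw [this]; exact Submodule.smul_mem _ _ (Submodule.mem_span_singleton_self v)
    refine ⟨?_, ht⟩
    rw [ht, zero_smul, add_zero] at hst
    exact (smul_eq_zero.1 hst).resolve_right hv0
  let B := basisOfLinearIndependentOfCardEqFinrank hli (by simp [h])
  have hB : ∀ z : Fin 2 → F, B.equivFun.symm z = z 0 • v + z 1 • w := fun z => by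
    rw [Basis.equivFun_symm_apply, Fin.sum_univ_two]; simp [B]
  have key : ∀ z : Fin 2 → F, Q (B.equivFun.symm z) = qBin (polar Q v w) (Q w) z := fun z => by
    rw [hB, Q_comb, qBin_apply, hv]; ring
  refine ⟨polar Q v w, Q w, fun z₁ z₂ hz => ?_,
    ⟨{ B.equivFun with map_app' := fun x => ?_ }⟩⟩
  · have h0 : B.equivFun.symm ![z₁, z₂] = 0 := hA _ (by
      rw [key, qBin_apply]; exact hz)
    have := congrArg B.equivFun h0
    rw [LinearEquiv.apply_symm_apply, map_zero] at this
    exact ⟨congrFun this 0, congrFun this 1⟩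
  · show qBin _ _ (B.equivFun x) = Q x
    rw [← key, LinearEquiv.symm_apply_apply]

/-- The three models. -/
theorem classify [FiniteDimensional F V] (Q : QuadraticForm F V) (hQ : Nondeg Q) :
    (∃ m, finrank F V = 2 * m ∧ Q.Equivalent (qPlus m)) ∨
    (∃ (m : ℕ) (c : F), c ≠ 0 ∧ (2 : F) ≠ 0 ∧ finrank F V = 2 * m + 1 ∧
      Q.Equivalent ((qPlus m).prod (qOne c))) ∨
    (∃ (m : ℕ) (a b : F), (∀ z₁ z₂ : F, z₁ ^ 2 + a * z₁ * z₂ + b * z₂ ^ 2 = 0 → z₁ = 0 ∧ z₂ = 0) ∧
      finrank F V = 2 * m + 2 ∧ Q.Equivalent ((qPlus m).prod (qBin a b))) := by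
  obtain ⟨m, W, hA, hW, hdim, heq⟩ := exists_decomp Q hQ
  have hle := anisotropic_finrank_le_two hW hA
  interval_cases hk : finrank F W
  · left
    refine ⟨m, by omega, heq.trans ⟨?_⟩⟩
    have : Subsingleton W := finrank_zero_iff.1 hk
    exact
      { toLinearEquiv :=
          { toFun := fun p => p.1
            map_add' := fun x y => rfl
            map_smul' := fun a x => rfl
            invFun := fun x => (x, 0)
            left_inv := fun p => Prod.ext rfl (Subsingleton.elim _ _)
            right_inv := fun x => rfl }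
        map_app' := fun p => by
          show qPlus m p.1 = qPlus m p.1 + res Q W p.2
          rw [Subsingleton.elim p.2 0, QuadraticMap.map_zero, add_zero] }
  · right; left
    obtain ⟨w, hw⟩ := (finrank_eq_one_iff' (K := F) (V := W)).1 hk
    let e : F ≃ₗ[F] W := LinearEquiv.ofBijective (LinearMap.toSpanSingleton F W w)
      ⟨fun a b h => smul_left_injective F hw.1 h, fun x => hw.2 x⟩
    have hc : res Q W w ≠ 0 := fun h => hw.1 (hA w h)
    refine ⟨m, res Q W w, hc, ?_, by omega, heq.trans ((Equivalent.refl _).prod ⟨?_⟩)⟩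
    · intro h2
      refine hw.1 (hW w fun y => ?_)
      obtain ⟨t, ht⟩ := hw.2 y
      rw [← ht, polar_smul_right, polar_self', h2, zero_mul, smul_zero]
    · let iso : (qOne (res Q W w)).IsometryEquiv (res Q W) :=
        { toLinearEquiv := e
          map_app' := fun x =>
            ((Q_smul (res Q W) x w).trans (mul_comm _ _)).trans (qOne_apply (res Q W w) x).symm }
      exact iso.symm
  · right; right
    obtain ⟨a, b, hab, he⟩ := exists_qBin_equiv hW hk hA
    exact ⟨m, a, b, hab, by omega, heq.trans ((Equivalent.refl _).prod he)⟩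

/-! ### Level sets -/

/-- The number of vectors with a given value. -/
noncomputable def levelCard (Q : QuadraticForm F V) (c : F) : ℕ := Nat.card {v // Q v = c}

theorem levelCard_hyp_prod [Finite V] (Q : QuadraticForm F V) (c : F) :
    levelCard (qHyp.prod Q) c = (Nat.card F - 1) * Nat.card V + Nat.card F * levelCard Q c := by
  classical
  have := Fintype.ofFinite F
  let T : F → Type _ := fun a => {p : F × V // a * p.1 + Q p.2 = c}
  have e : {p : (F × F) × V // qHyp.prod Q p = c} ≃ Σ a, T a :=
    { toFun := fun p => ⟨p.1.1.1, (p.1.1.2, p.1.2), p.2⟩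
      invFun := fun s => ⟨((s.1, s.2.1.1), s.2.1.2), s.2.2⟩
      left_inv := fun p => rfl
      right_inv := fun s => rfl }
  rw [levelCard, Nat.card_congr e, Nat.card_sigma, ← Finset.sum_erase_add _ _ (Finset.mem_univ 0)]
  congr 1
  · rw [Finset.sum_congr rfl (g := fun _ => Nat.card V), Finset.sum_const,
      Finset.card_erase_of_mem (Finset.mem_univ _), Finset.card_univ, smul_eq_mul,
      Nat.card_eq_fintype_card (α := F)]
    intro a ha
    have ha0 : a ≠ 0 := Finset.ne_of_mem_erase ha
    refine Nat.card_congr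
      { toFun := fun p => p.1.2
        invFun := fun v => ⟨((c - Q v) / a, v), by simp [mul_div_cancel₀ _ ha0]⟩
        left_inv := fun p => by
          obtain ⟨⟨b, v⟩, hp⟩ := p
          refine Subtype.ext (Prod.ext ?_ rfl)
          simp only at hp ⊢
          rw [← hp]; field_simp; ring
        right_inv := fun v => rfl }
  · rw [levelCard, ← Nat.card_prod]
    exact Nat.card_congr
      { toFun := fun p => (p.1.1, ⟨p.1.2, by simpa using p.2⟩)
        invFun := fun p => ⟨(p.1, p.2.1), by simpa using p.2.2⟩
        left_inv := fun p => rfl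
        right_inv := fun p => rfl }

/-- Reassociating a hyperbolic plane out of `qPlus (m+1) ⊕ R`. -/
noncomputable def qPlusProdSucc (m : ℕ) (R : QuadraticForm F V) :
    ((qPlus (m + 1)).prod R).IsometryEquiv (qHyp.prod ((qPlus (F := F) m).prod R)) where
  toLinearEquiv := ((qPlusSuccEquiv (F := F) m).toLinearEquiv.prodCongr (LinearEquiv.refl F V)).trans
    (LinearEquiv.prodAssoc F _ _ _)
  map_app' p := by
    show qHyp ((qPlusSuccEquiv m) p.1).1 + (qPlus m ((qPlusSuccEquiv m) p.1).2 + R p.2) =
      qPlus (m + 1) p.1 + R p.2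
    rw [← (qPlusSuccEquiv (F := F) m).map_app p.1, ← add_assoc]
    rfl

omit [Finite F] in
theorem finrank_plus_prod [FiniteDimensional F V] (m : ℕ) :
    finrank F ((Fin m ⊕ Fin m → F) × V) = 2 * m + finrank F V := by
  rw [finrank_prod, Module.finrank_fintype_fun_eq_card]
  simp [two_mul]

theorem levelCard_plus_prod [FiniteDimensional F V] (m : ℕ) (R : QuadraticForm F V) (c : F) :
    levelCard ((qPlus (F := F) m).prod R) c = Nat.card F ^ m * levelCard R c +
      (Nat.card F ^ m - 1) * Nat.card F ^ (m + finrank F V - 1) := by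
  have := Module.finite_of_finite F (M := V)
  induction m with
  | zero =>
    simp only [pow_zero, one_mul, Nat.sub_self, zero_mul, add_zero]
    refine Nat.card_congr
      { toFun := fun p => ⟨p.1.2, by
          have := p.2
          simpa [QuadraticMap.prod_apply, qPlus_apply] using this⟩
        invFun := fun v => ⟨(0, v.1), by simpa using v.2⟩
        left_inv := fun p => Subtype.ext (Prod.ext (Subsingleton.elim _ _) rfl)
        right_inv := fun v => rfl }
  | succ m ih =>
    rw [levelCard, card_level_congr ⟨qPlusProdSucc m R⟩ c]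
    show levelCard _ c = _
    rw [levelCard_hyp_prod, ih, Module.natCard_eq_pow_finrank (K := F)
      (V := (Fin m ⊕ Fin m → F) × V), finrank_plus_prod]
    rcases m with _ | k
    · simp only [pow_zero, Nat.sub_self, zero_mul, add_zero, one_mul, pow_one, mul_zero, zero_add,
        Nat.add_sub_cancel_left]
      rw [add_comm]
    have h1 : 1 ≤ Nat.card F ^ (k + 1) := Nat.one_le_pow _ _ Nat.card_pos
    have hq : 1 ≤ Nat.card F := Nat.card_pos
    have h2 : 1 ≤ Nat.card F ^ (k + 1 + 1) := Nat.one_le_pow _ _ Nat.card_pos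
    have e1 : k + 1 + 1 + finrank F V - 1 = k + finrank F V + 1 := by omega
    have e2 : k + 1 + finrank F V - 1 = k + finrank F V := by omega
    rw [e1, e2]
    zify [h1, h2, hq]
    ring

omit [Finite F] in
theorem levelCard_zero_anisotropic {R : QuadraticForm F V} (hA : R.Anisotropic) :
    levelCard R 0 = 1 :=
  (Nat.card_eq_one_iff_unique).2 ⟨⟨fun a b => Subtype.ext ((hA _ a.2).trans (hA _ b.2).symm)⟩,
    ⟨⟨0, QuadraticMap.map_zero R⟩⟩⟩

theorem levelCard_qBin {a b : F}
    (hab : ∀ z₁ z₂ : F, z₁ ^ 2 + a * z₁ * z₂ + b * z₂ ^ 2 = 0 → z₁ = 0 ∧ z₂ = 0) {c : F}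
    (hc : c ≠ 0) : levelCard (qBin a b) c = Nat.card F + 1 := by
  classical
  have := Fintype.ofFinite F
  have hA := qBin_anisotropic hab
  have hN := qBin_nondeg hab
  have hconst : ∀ d : F, d ≠ 0 → levelCard (qBin a b) d = levelCard (qBin a b) 1 := by
    intro d hd
    obtain ⟨u, hu⟩ := exists_Q_eq hN (by simp) d
    let L : (Fin 2 → F) →ₗ[F] (Fin 2 → F) :=
      { toFun := fun z => ![u 0 * z 0 - b * u 1 * z 1, u 0 * z 1 + u 1 * z 0 + a * u 1 * z 1]
        map_add' := fun x y => by ext i; fin_cases i <;> simp <;> ring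
        map_smul' := fun t x => by ext i; fin_cases i <;> simp <;> ring }
    have hL : ∀ z, qBin a b (L z) = d * qBin a b z := fun z => by
      rw [← hu]; simp [L, qBin_apply]; ring
    have hinj : Function.Injective L := by
      rw [injective_iff_map_eq_zero]
      intro z hz
      refine hA z ?_
      have := hL z
      rw [hz, QuadraticMap.map_zero] at this
      exact (mul_eq_zero.1 this.symm).resolve_left hd
    let e := LinearEquiv.ofInjectiveEndo L hinj
    refine (Nat.card_congr (e.toEquiv.subtypeEquiv fun z => ?_)).symm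
    show qBin a b z = 1 ↔ qBin a b (L z) = d
    rw [hL, mul_eq_left₀ hd]
  rw [hconst c hc]
  have htot : Nat.card (Fin 2 → F) = ∑ d : F, levelCard (qBin a b) d := by
    rw [← Nat.card_congr (Equiv.sigmaFiberEquiv (qBin a b)), Nat.card_sigma]
    rfl
  rw [← Finset.sum_erase_add _ _ (Finset.mem_univ (0 : F)), levelCard_zero_anisotropic hA,
    Finset.sum_congr rfl (g := fun _ => levelCard (qBin a b) 1)
      (fun d hd => hconst d (Finset.ne_of_mem_erase hd)), Finset.sum_const, smul_eq_mul,
    Finset.card_erase_of_mem (Finset.mem_univ _), Finset.card_univ,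
    Module.natCard_eq_pow_finrank (K := F), Module.finrank_fintype_fun_eq_card, Fintype.card_fin,
    Nat.card_eq_fintype_card] at htot
  rw [Nat.card_eq_fintype_card]
  obtain ⟨q, hq⟩ : ∃ q, Fintype.card F = q + 2 := ⟨Fintype.card F - 2, by
    have := Fintype.one_lt_card (α := F); omega⟩
  rw [hq] at htot ⊢
  simp only [Nat.add_succ_sub_one] at htot
  apply Nat.eq_of_mul_eq_mul_left (Nat.succ_pos q)
  linarith [htot]

/-! ### Orders -/

omit [Finite F] in
/-- Hyperbolic pairs correspond to a non-zero singular vector and a vector of the complement. -/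
theorem card_hypPair [Finite V] {Q : QuadraticForm F V} (hQ : Nondeg Q) :
    Nat.card {p : V × V // HypPair Q p.1 p.2} =
      (levelCard Q 0 - 1) * Nat.card F ^ (finrank F V - 2) := by
  classical
  have : FiniteDimensional F V := Module.Finite.of_finite
  have := Fintype.ofFinite V
  let S := {e : V // Q e = 0 ∧ e ≠ 0}
  have e1 : {p : V × V // HypPair Q p.1 p.2} ≃ Σ e : S, {f : V // HypPair Q e.1 f} :=
    { toFun := fun p => ⟨⟨p.1.1, p.2.left, p.2.left_ne⟩, p.1.2, p.2⟩
      invFun := fun s => ⟨(s.1.1, s.2.1), s.2.2⟩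
      left_inv := fun p => rfl
      right_inv := fun s => rfl }
  have hS : Nat.card S = levelCard Q 0 - 1 := by
    show Nat.card {e : V // Q e = 0 ∧ e ≠ 0} = Nat.card {v // Q v = 0} - 1
    rw [Nat.card_eq_fintype_card, Nat.card_eq_fintype_card, Fintype.card_subtype, Fintype.card_subtype,
      ← Finset.card_erase_of_mem (a := (0 : V)) (by simp)]
    congr 1
    ext v; simp [and_comm]
  have hfib : ∀ e : S, Nat.card {f : V // HypPair Q e.1 f} = Nat.card F ^ (finrank F V - 2) := by
    rintro ⟨e, he, he0⟩
    obtain ⟨f, hp⟩ := exists_hypPair hQ he0 he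
    rw [show finrank F V - 2 = finrank F (core Q e f) by have := hp.finrank_core; omega,
      ← Module.natCard_eq_pow_finrank (K := F)]
    refine Nat.card_congr
      { toFun := fun g => (hp.split g.1).2
        invFun := fun w => ⟨(-(Q (w : V))) • e + (1 : F) • f + (w : V), he, by
          rw [hp.Q_comb_core _ _ w.2]; ring, by
          have : polar Q e (w : V) = 0 := w.2.1
          simp [polar_add_right, polar_smul_right, hp.pol, hp.pol_ee, this]⟩
        left_inv := fun g => by
          obtain ⟨g, hg⟩ := g
          refine Subtype.ext ?_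
          have h1 := hp.Q_eq g
          have h2 : (hp.split g).1.2 = 1 := hg.pol
          rw [hg.right, h2, mul_one] at h1
          have h3 : (hp.split g).1.1 = -(Q ((hp.split g).2 : V)) := by linear_combination -h1
          refine Eq.trans ?_ (hp.split.symm_apply_apply g)
          show _ = (hp.split g).1.1 • e + (hp.split g).1.2 • f + _
          rw [h3, h2]
        right_inv := fun w => by
          apply Subtype.ext
          show _ - polar Q f _ • e - polar Q e _ • f = _
          have h1 : polar Q e (w : V) = 0 := w.2.1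
          have h2 : polar Q f (w : V) = 0 := w.2.2
          simp only [polar_add_right, polar_smul_right, hp.pol, hp.pol', hp.pol_ee, hp.pol_ff, h1, h2,
            smul_eq_mul, mul_zero, mul_one, zero_add, add_zero]
          abel }
  rw [Nat.card_congr e1, Nat.card_sigma, Finset.sum_congr rfl (fun e _ => hfib e), Finset.sum_const,
    smul_eq_mul, Finset.card_univ, ← Nat.card_eq_fintype_card, hS]

omit [Finite F] in
/-- Orbit-stabiliser on hyperbolic pairs. -/
theorem card_orth_hypPair [Finite V] {Q : QuadraticForm F V} (hQ : Nondeg Q) {e f : V}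
    (hp : HypPair Q e f) : Nat.card (orth Q) =
      Nat.card {p : V × V // HypPair Q p.1 p.2} * Nat.card (orth (res Q (core Q e f))) := by
  classical
  have : FiniteDimensional F V := Module.Finite.of_finite
  have hex : ∀ p : {p : V × V // HypPair Q p.1 p.2}, ∃ g ∈ orth Q, g e = p.1.1 ∧ g f = p.1.2 := by
    intro p
    obtain ⟨g, hg, hgi⟩ := witt_orth hQ ![e, f] ![p.1.1, p.1.2] hp.linearIndependent
      p.2.linearIndependent (by intro i; fin_cases i <;> simp [hp.left, hp.right, p.2.left, p.2.right])
      (by intro i j; fin_cases i <;> fin_cases j <;>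
            simp [hp.pol, hp.pol', hp.pol_ee, hp.pol_ff, p.2.pol, p.2.pol', p.2.pol_ee, p.2.pol_ff])
    exact ⟨g, hg, hgi 0, hgi 1⟩
  choose G hG hGe hGf using hex
  let ext_ : orth (res Q (core Q e f)) → orth Q := fun k =>
    ⟨(hp.split.trans ((LinearEquiv.refl F (F × F)).prodCongr k.1)).trans hp.split.symm, fun v => by
      rw [hp.Q_eq v, hp.Q_eq]
      simp only [LinearEquiv.trans_apply, LinearEquiv.apply_symm_apply, LinearEquiv.prodCongr_apply,
        LinearEquiv.refl_apply]
      exact congrArg _ (k.2 _)⟩
  have hext : ∀ k, (ext_ k).1 e = e ∧ (ext_ k).1 f = f ∧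
      ∀ w : core Q e f, (ext_ k).1 w = (k.1 w : core Q e f) := by
    intro k
    have hs : ∀ p, (ext_ k).1 (hp.split.symm p) = hp.split.symm (p.1, k.1 p.2) := fun p => by
      simp [ext_]
    refine ⟨?_, ?_, fun w => ?_⟩
    · have : hp.split.symm ((1, 0), 0) = e := by simp [HypPair.split]
      rw [← this, hs, map_zero]
    · have : hp.split.symm ((0, 1), 0) = f := by simp [HypPair.split]
      rw [← this, hs, map_zero]
    · have h : ∀ u : core Q e f, hp.split.symm ((0, 0), u) = u := fun u => by simp [HypPair.split]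
      exact ((congrArg (ext_ k).1 (h w).symm).trans (hs _)).trans (h _)
  rw [← Nat.card_prod]
  refine (Nat.card_eq_of_bijective
    (fun pk => (⟨G pk.1, hG pk.1⟩ : orth Q) * ext_ pk.2) ⟨?_, ?_⟩).symm
  · rintro ⟨p, k⟩ ⟨p', k'⟩ h
    have hv : ∀ v, G p ((ext_ k).1 v) = G p' ((ext_ k').1 v) := fun v =>
      LinearEquiv.congr_fun (congrArg Subtype.val h) v
    have hpp : p = p' := by
      refine Subtype.ext (Prod.ext ?_ ?_)
      · simpa [(hext k).1, (hext k').1, hGe] using hv e
      · simpa [(hext k).2.1, (hext k').2.1, hGf] using hv f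
    subst hpp
    refine Prod.ext rfl (Subtype.ext (LinearEquiv.ext fun w => Subtype.ext ?_))
    have := (G p).injective (hv w)
    rwa [(hext k).2.2, (hext k').2.2] at this
  · intro g
    let p : {p : V × V // HypPair Q p.1 p.2} := ⟨(g.1 e, g.1 f), (g.2 e).trans hp.left,
      (g.2 f).trans hp.right, (orth_polar g.2 e f).trans hp.pol⟩
    let h : orth Q := (⟨G p, hG p⟩ : orth Q)⁻¹ * g
    have he : h.1 e = e := (LinearEquiv.symm_apply_eq _).2 (hGe p).symm
    have hf : h.1 f = f := (LinearEquiv.symm_apply_eq _).2 (hGf p).symm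
    have hcore : ∀ w : core Q e f, h.1 w ∈ core Q e f := fun w => by
      constructor
      · exact ((congrArg (fun x => polar Q x (h.1 w)) he.symm).trans (orth_polar h.2 e w)).trans w.2.1
      · exact ((congrArg (fun x => polar Q x (h.1 w)) hf.symm).trans (orth_polar h.2 f w)).trans w.2.2
    let kk : core Q e f →ₗ[F] core Q e f := (h.1.toLinearMap.comp (core Q e f).subtype).codRestrict _ hcore
    let k : orth (res Q (core Q e f)) :=
      ⟨LinearEquiv.ofInjectiveEndo kk fun x y hxy =>
        Subtype.ext (h.1.injective (congrArg Subtype.val hxy)), fun w => h.2 w⟩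
    refine ⟨(p, k), ?_⟩
    have hk : ext_ k = h := by
      refine Subtype.ext (LinearEquiv.ext fun v => ?_)
      rw [← hp.split.symm_apply_apply v]
      show (ext_ k).1 ((hp.split v).1.1 • e + (hp.split v).1.2 • f + (hp.split v).2) = h.1 _
      rw [map_add, map_add, map_smul, map_smul, (hext k).1, (hext k).2.1, (hext k).2.2]
      show _ = h.1 ((hp.split v).1.1 • e + (hp.split v).1.2 • f + (hp.split v).2)
      rw [map_add, map_add, map_smul, map_smul, he, hf]
      rfl
    show (⟨G p, hG p⟩ : orth Q) * ext_ k = g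
    rw [hk, mul_inv_cancel_left]

theorem card_orth_plus_prod [FiniteDimensional F V] {R : QuadraticForm F V} (hR : Nondeg R)
    (hA : R.Anisotropic) (m : ℕ) :
    Nat.card (orth ((qPlus (F := F) m).prod R)) = Nat.card (orth R) *
      ∏ i ∈ Finset.range m, ((Nat.card F ^ (i + 1) - 1) * (Nat.card F ^ (i + finrank F V) + 1) *
        Nat.card F ^ (2 * i + finrank F V)) := by
  have := Module.finite_of_finite F (M := V)
  induction m with
  | zero =>
    rw [Finset.prod_range_zero, mul_one]
    exact card_orth_congr (Equivalent.symm ⟨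
      { toLinearEquiv :=
          { toFun := fun v => (0, v)
            map_add' := fun x y => by simp
            map_smul' := fun a x => by simp
            invFun := fun p => p.2
            left_inv := fun v => rfl
            right_inv := fun p => Prod.ext (Subsingleton.elim _ _) rfl }
        map_app' := fun v => by simp [QuadraticMap.prod_apply] }⟩)
  | succ m ih =>
    set Q := qHyp.prod ((qPlus (F := F) m).prod R) with hQdef
    have hN : Nondeg Q := ((prod_nondeg (qPlus_nondeg (m + 1)) hR)).of_equiv (qPlusProdSucc m R)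
    have hp : HypPair Q ((1, 0), 0) ((0, 1), 0) :=
      ⟨by simp [hQdef, qHyp_apply], by simp [hQdef, qHyp_apply], by simp [hQdef, polar, qHyp_apply]⟩
    have hcore : Nat.card (orth (res Q (core Q ((1, 0), 0) ((0, 1), 0)))) =
        Nat.card (orth ((qPlus (F := F) m).prod R)) := by
      have hmem : ∀ u : (Fin m ⊕ Fin m → F) × V,
          (((0, 0), u) : (F × F) × ((Fin m ⊕ Fin m → F) × V)) ∈ core Q ((1, 0), 0) ((0, 1), 0) :=
        fun u => by constructor <;>
          simp [hQdef, polar, qHyp_apply]
      refine card_orth_congr (Equivalent.symm ⟨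
        { toLinearEquiv :=
            { toFun := fun u => ⟨((0, 0), u), hmem u⟩
              map_add' := fun x y => by ext <;> simp
              map_smul' := fun a x => by ext <;> simp
              invFun := fun w => w.1.2
              left_inv := fun u => rfl
              right_inv := fun w => by
                obtain ⟨⟨⟨x, y⟩, u⟩, h1, h2⟩ := w
                simp [hQdef, polar, qHyp_apply] at h1 h2
                refine Subtype.ext (Prod.ext (Prod.ext ?_ ?_) rfl)
                · show (0 : F) = x
                  linear_combination -h2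
                · show (0 : F) = y
                  linear_combination -h1 }
          map_app' := fun u => by simp [hQdef, qHyp_apply] }⟩)
    rw [card_orth_congr ⟨qPlusProdSucc m R⟩, card_orth_hypPair hN hp, hcore, ih,
      Finset.prod_range_succ, card_hypPair hN,
      show levelCard Q 0 = levelCard ((qPlus (F := F) (m + 1)).prod R) 0 from
        (card_level_congr ⟨qPlusProdSucc m R⟩ 0).symm,
      levelCard_plus_prod, levelCard_zero_anisotropic hA, mul_one, finrank_prod, finrank_prod,
      finrank_self, finrank_plus_prod]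
    rw [show 1 + 1 + (2 * m + finrank F V) - 2 = 2 * m + finrank F V by omega,
      show m + 1 + finrank F V - 1 = m + finrank F V by omega]
    have h1 : 1 ≤ Nat.card F ^ (m + 1) := Nat.one_le_pow _ _ Nat.card_pos
    have e : Nat.card F ^ (m + 1) + (Nat.card F ^ (m + 1) - 1) * Nat.card F ^ (m + finrank F V) - 1 =
        (Nat.card F ^ (m + 1) - 1) * (Nat.card F ^ (m + finrank F V) + 1) := by
      rw [mul_add, mul_one]; omega
    rw [e]; ring

omit [Finite F] in
theorem card_orth_subsingleton [Subsingleton V] (R : QuadraticForm F V) :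
    Nat.card (orth R) = 1 :=
  Nat.card_eq_one_iff_unique.2
    ⟨⟨fun a b => Subtype.ext (LinearEquiv.ext fun v => Subsingleton.elim _ _)⟩, ⟨1⟩⟩

omit [Finite F] in
theorem card_orth_qOne {c : F} (hc : c ≠ 0) (h2 : (2 : F) ≠ 0) : Nat.card (orth (qOne c)) = 2 := by
  have hne : (1 : F) ≠ -1 := fun h => h2 (by linear_combination h)
  rw [Nat.card_eq_two_iff]
  refine ⟨1, ⟨LinearEquiv.neg F, fun v => by simp [qOne_apply]⟩, fun h => hne ?_, ?_⟩
  · simpa using LinearEquiv.congr_fun (congrArg Subtype.val h) (1 : F)
  · refine Set.eq_univ_of_forall fun g => ?_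
    have h1 := g.2 1
    rw [qOne_apply, qOne_apply, mul_one] at h1
    have hg : ∀ x, g.1 x = x * g.1 1 := fun x => by
      conv_lhs => rw [show x = x • (1 : F) by simp]
      rw [map_smul, smul_eq_mul]
    rcases mul_self_eq_one_iff.1 (mul_left_cancel₀ hc h1) with h | h
    · left
      exact Subtype.ext (LinearEquiv.ext fun x => by rw [hg, h, mul_one]; rfl)
    · right
      exact Subtype.ext (LinearEquiv.ext fun x => by rw [hg, h]; simp)

theorem card_orth_qBin {a b : F}
    (hab : ∀ z₁ z₂ : F, z₁ ^ 2 + a * z₁ * z₂ + b * z₂ ^ 2 = 0 → z₁ = 0 ∧ z₂ = 0) :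
    Nat.card (orth (qBin a b)) = 2 * (Nat.card F + 1) := by
  classical
  have hN := qBin_nondeg hab
  have hA := qBin_anisotropic hab
  set v : Fin 2 → F := ![1, 0]
  set w : Fin 2 → F := ![0, 1]
  have hv : qBin a b v = 1 := by simp [v, qBin_apply]
  let f : orth (qBin a b) → {z // qBin a b z = 1} := fun g => ⟨g.1 v, (g.2 v).trans hv⟩
  have hne : ∀ z, qBin a b z = 1 → z ≠ 0 := fun z hz h => by simp [h] at hz
  have hsurj : ∀ z : {z // qBin a b z = 1}, ∃ g, f g = z := fun z => by
    obtain ⟨g, hg, hgv⟩ := witt_one hN (hne v hv) (hne z.1 z.2) (hv.trans z.2.symm)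
    exact ⟨⟨g, hg⟩, Subtype.ext hgv⟩
  have hstab : Nat.card {g : orth (qBin a b) // g.1 v = v} = 2 := by
    set u : Fin 2 → F := ![a, -2]
    have hu : u ≠ 0 := fun h => by
      have h0 : a = 0 := congrFun h 0
      have h1 : (2 : F) = 0 := neg_eq_zero.1 (congrFun h 1)
      obtain ⟨r, hr⟩ := exists_sqrt h1 b
      exact one_ne_zero (hab r 1 (by rw [h0]; linear_combination hr + b * h1)).2
    have hQu : qBin a b u ≠ 0 := fun h => hu (hA u h)
    have hperp : polar (qBin a b) u v = 0 := by simp [polar, qBin_apply, u, v]; ring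
    have hrw : refl (qBin a b) u w ≠ w := by
      intro he
      rw [refl_apply, sub_eq_self, smul_eq_zero] at he
      rcases he with h | h
      · have h' := (mul_eq_zero.1 h).resolve_left (inv_ne_zero hQu)
        simp [polar, qBin_apply, u, w] at h'
        by_cases h2 : (2 : F) = 0
        · obtain ⟨r, hr⟩ := exists_sqrt h2 b
          have ha : a = 0 := pow_eq_zero_iff two_ne_zero |>.1 (by linear_combination h' + (2 * b) * h2)
          exact one_ne_zero (hab r 1 (by rw [ha]; linear_combination hr + b * h2)).2
        · exact hQu (by simp [qBin_apply, u]; linear_combination (-1 : F) * h')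
      · exact hu h
    rw [Nat.card_eq_two_iff]
    refine ⟨⟨1, rfl⟩, ⟨orefl _ u, refl_fix _ hperp⟩, fun h => hrw ?_, ?_⟩
    · exact (LinearEquiv.congr_fun (congrArg Subtype.val (congrArg Subtype.val h)) w).symm
    · refine Set.eq_univ_of_forall fun g => ?_
      obtain ⟨g, hg⟩ := g
      set z := g.1 w - w
      have hz1 : polar (qBin a b) v (g.1 w) = polar (qBin a b) v w := by
        conv_lhs => rw [← hg, orth_polar g.2]
      have hz0 : 2 * z 0 + a * z 1 = 0 := by
        simp [polar, qBin_apply, v, w, Matrix.vecHead, Matrix.vecTail] at hz1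
        simp [z, w, Matrix.vecHead, Matrix.vecTail]
        linear_combination hz1
      obtain ⟨t, ht⟩ : ∃ t : F, z = t • u := by
        by_cases h2 : (2 : F) = 0
        · have ha : a ≠ 0 := fun h => hu (by funext i; fin_cases i <;> simp [u, h, h2])
          have hz1' : z 1 = 0 := by
            rw [h2, zero_mul, zero_add] at hz0
            exact (mul_eq_zero.1 hz0).resolve_left ha
          refine ⟨z 0 / a, ?_⟩
          funext i; fin_cases i
          · simp [u, div_mul_cancel₀ _ ha]
          · simp [u, hz1', h2]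
        · refine ⟨-(z 1) / 2, ?_⟩
          funext i; fin_cases i
          · simp [u]; field_simp; linear_combination hz0
          · simp [u]; field_simp
      have hgw : g.1 w = w + t • u := by rw [← ht]; simp [z]
      have hQ' := g.2 w
      rw [hgw, Q_add, Q_smul, polar_smul_right, smul_eq_mul] at hQ'
      have hdet : ∀ h : orth (qBin a b), h.1 v = v → h.1 w = g.1 w → h = g := by
        intro h hv' hw'
        refine Subtype.ext (LinearEquiv.ext fun x => ?_)
        have : x = x 0 • v + x 1 • w := by funext i; fin_cases i <;> simp [v, w]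
        rw [this]; simp [hv', hw', hg]
      rcases mul_eq_zero.1 (by linear_combination hQ' :
          t * (t * qBin a b u + polar (qBin a b) w u) = 0) with h | h
      · left
        exact Subtype.ext (hdet 1 rfl (by rw [hgw, h, zero_smul, add_zero]; rfl)).symm
      · right
        refine Subtype.ext (hdet (orefl _ u) (refl_fix _ hperp) ?_).symm
        show refl _ u w = _
        rw [hgw, refl_apply, sub_eq_add_neg, ← neg_smul, polar_comm]
        congr 2
        field_simp
        linear_combination -h
  have e : orth (qBin a b) ≃ {z // qBin a b z = 1} × {g : orth (qBin a b) // g.1 v = v} := by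
    choose s hs using hsurj
    exact
      { toFun := fun g => (f g, ⟨(s (f g))⁻¹ * g, (LinearEquiv.symm_apply_eq _).2
          (congrArg Subtype.val (hs (f g))).symm⟩)
        invFun := fun p => s p.1 * p.2.1
        left_inv := fun g => mul_inv_cancel_left _ _
        right_inv := fun p => by
          have : f (s p.1 * p.2.1) = p.1 := Subtype.ext (by
            show (s p.1).1 (p.2.1.1 v) = _
            rw [p.2.2]; exact congrArg Subtype.val (hs p.1))
          refine Prod.ext this (Subtype.ext ?_)
          show (s (f (s p.1 * p.2.1)))⁻¹ * _ = _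
          rw [this, inv_mul_cancel_left] }
  rw [Nat.card_congr e, Nat.card_prod, hstab,
    show Nat.card {z // qBin a b z = 1} = Nat.card F + 1 from levelCard_qBin hab one_ne_zero,
    mul_comm]

end Cfsg.Agent.Lib.Forms
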