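/-
Determinants in orthogonal groups, Gram matrices, totally singular subspaces and the Witt index.
-/
import Cfsg.Agent.Lib.Forms.Quad

set_option autoImplicit false

namespace Cfsg.Agent.Lib.Forms

open Module QuadraticMap
open scoped Matrix

variable {F : Type*} [Field F] {ι : Type} [Fintype ι] [DecidableEq ι]

/-- The Gram matrix of the polar form. -/
def gram (Q : QuadraticForm F (ι → F)) : Matrix ι ι F :=
  Matrix.of fun i => Cfsg.polarVec (⇑Q) (Pi.single i 1)

theorem gram_mulVec (Q : QuadraticForm F (ι → F)) (v : ι → F) (i : ι) :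
    (gram Q *ᵥ v) i = polar Q (Pi.single i 1) v :=
  polarVec_dotProduct Q (Pi.single i 1) v

theorem polar_eq_gram (Q : QuadraticForm F (ι → F)) (u v : ι → F) :
    polar Q u v = u ⬝ᵥ gram Q *ᵥ v := by
  rw [polar_comm, ← polarVec_dotProduct, dotProduct_comm]
  congr 1
  funext i
  rw [gram_mulVec, polar_comm]
  rfl

theorem gram_det_ne_zero {Q : QuadraticForm F (ι → F)} (hQ : Nondeg Q) : (gram Q).det ≠ 0 := by
  intro h
  obtain ⟨v, hv, hMv⟩ := Matrix.exists_mulVec_eq_zero_iff.2 h
  exact hv (hQ v fun u => by rw [polar_comm, polar_eq_gram, hMv, dotProduct_zero])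

theorem det_sq_of_isometry {Q : QuadraticForm F (ι → F)} (hQ : Nondeg Q) (G : Matrix ι ι F)
    (hG : ∀ v, Q (G *ᵥ v) = Q v) : G.det = 1 ∨ G.det = -1 := by
  have h : Gᵀ * gram Q * G = gram Q := by
    ext i j
    have := polar_map (Matrix.mulVecLin G) hG (Pi.single i 1) (Pi.single j 1)
    rw [polar_eq_gram, polar_eq_gram, Matrix.mulVecLin_apply, Matrix.mulVecLin_apply,
      Matrix.dotProduct_mulVec, Matrix.dotProduct_mulVec, ← Matrix.vecMul_transpose,
      Matrix.vecMul_vecMul, Matrix.dotProduct_mulVec, Matrix.vecMul_vecMul,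
      ← Matrix.dotProduct_mulVec, ← Matrix.dotProduct_mulVec] at this
    simpa [Matrix.mul_assoc] using this
  have h' := congrArg Matrix.det h
  rw [Matrix.det_mul, Matrix.det_mul, Matrix.det_transpose] at h'
  have h1 : G.det * G.det = 1 * 1 := by
    apply mul_right_cancel₀ (gram_det_ne_zero hQ)
    linear_combination h'
  exact mul_self_eq_mul_self_iff.1 h1

theorem det_reflectionMatrix (Q : QuadraticForm F (ι → F)) {v : ι → F} (hv : Q v ≠ 0) :
    (Cfsg.reflectionMatrix (⇑Q) v).det = -1 := by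
  have : Cfsg.reflectionMatrix (⇑Q) v =
      1 + Matrix.replicateCol Unit ((-(Q v)⁻¹) • v) * Matrix.replicateRow Unit (Cfsg.polarVec (⇑Q) v)
      := by
    ext i j
    simp [Cfsg.reflectionMatrix, Matrix.vecMulVec_apply, Matrix.mul_apply, mul_assoc, sub_eq_add_neg]
  rw [this, Matrix.det_one_add_replicateCol_mul_replicateRow, dotProduct_smul, polarVec_dotProduct,
    polar_self', smul_eq_mul]
  field_simp
  ring

variable {V : Type*} [AddCommGroup V] [Module F V] [FiniteDimensional F V]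

theorem two_mul_finrank_le {Q : QuadraticForm F V} (hQ : Nondeg Q) (W : Submodule F V)
    (hW : ∀ w ∈ W, Q w = 0) : 2 * finrank F W ≤ finrank F V := by
  have hle : W ≤ LinearMap.BilinForm.orthogonal (polarBilin Q) W := fun x hx n hn => by
    show polar Q n x = 0
    simp [polar, hW _ (W.add_mem hn hx), hW n hn, hW x hx]
  have := Submodule.finrank_mono hle
  rw [LinearMap.BilinForm.finrank_orthogonal hQ.polarBilin] at this
  have := W.finrank_le
  omega

omit [FiniteDimensional F V] in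
theorem singular_polar {Q : QuadraticForm F V} {W : Submodule F V} (hW : ∀ w ∈ W, Q w = 0) {u w : V}
    (hu : u ∈ W) (hw : w ∈ W) : polar Q u w = 0 := by
  simp [polar, hW _ (W.add_mem hu hw), hW u hu, hW w hw]

/-- A totally singular subspace can be moved into any other one of at least its dimension. -/
theorem exists_orth_map_le {Q : QuadraticForm F V} (hQ : Nondeg Q) (W₁ W₂ : Submodule F V)
    (h₁ : ∀ w ∈ W₁, Q w = 0) (h₂ : ∀ w ∈ W₂, Q w = 0) (h : finrank F W₁ ≤ finrank F W₂) :
    ∃ g ∈ orth Q, W₁.map (g : V ≃ₗ[F] V).toLinearMap ≤ W₂ := by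
  let b := Module.finBasis F W₁
  let c := Module.finBasis F W₂
  have hv : LinearIndependent F fun i => (b i : V) :=
    b.linearIndependent.map' W₁.subtype W₁.ker_subtype
  have hw : LinearIndependent F fun i => (c (Fin.castLE h i) : V) :=
    (c.linearIndependent.comp _ (Fin.castLE_injective h)).map' W₂.subtype W₂.ker_subtype
  obtain ⟨g, hg, hgb⟩ := witt_orth hQ _ _ hv hw
    (fun i => by rw [h₁ _ (b i).2, h₂ _ (c _).2])
    (fun i j => by rw [singular_polar h₁ (b i).2 (b j).2, singular_polar h₂ (c _).2 (c _).2])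
  refine ⟨g, hg, ?_⟩
  rintro _ ⟨x, hx, rfl⟩
  have hx' : x = ∑ i, b.repr ⟨x, hx⟩ i • (b i : V) := by
    have h3 : W₁.subtype (∑ i, b.repr ⟨x, hx⟩ i • b i) = x := by rw [b.sum_repr]; rfl
    rw [map_sum] at h3
    exact h3.symm
  rw [hx', LinearEquiv.coe_coe, map_sum]
  exact Submodule.sum_mem _ fun i _ => by
    rw [map_smul, hgb]; exact Submodule.smul_mem _ _ (c _).2

/-- Maximal totally singular subspaces have the same dimension. -/
theorem finrank_eq_of_maximal {Q : QuadraticForm F V} (hQ : Nondeg Q) (W₁ W₂ : Submodule F V)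
    (h₁ : ∀ w ∈ W₁, Q w = 0) (h₂ : ∀ w ∈ W₂, Q w = 0)
    (hmax₁ : ∀ W : Submodule F V, W₁ ≤ W → (∀ w ∈ W, Q w = 0) → W = W₁)
    (hle : finrank F W₁ ≤ finrank F W₂) : finrank F W₁ = finrank F W₂ := by
  obtain ⟨g, hg, hgle⟩ := exists_orth_map_le hQ W₁ W₂ h₁ h₂ hle
  have h := hmax₁ (W₂.comap (g : V ≃ₗ[F] V).toLinearMap) (Submodule.map_le_iff_le_comap.1 hgle)
    fun w hw => by
      have := h₂ _ hw
      rwa [LinearEquiv.coe_coe, hg] at this
  rw [← h, Submodule.comap_equiv_eq_map_symm, LinearEquiv.finrank_map_eq]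

end Cfsg.Agent.Lib.Forms
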