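/-
Generation of orthogonal groups by reflections (any field, non-degenerate polar form, excluding
four-dimensional spaces over the field of two elements) and the Dickson invariant.
-/
import Cfsg.Agent.Lib.Forms.Det

set_option autoImplicit false

namespace Cfsg.Agent.Lib.Forms

open Module QuadraticMap

variable {F : Type*} [Field F] {V : Type*} [AddCommGroup V] [Module F V]

/-- `g - 1` as a linear map. -/
def dev (g : V ≃ₗ[F] V) : V →ₗ[F] V := g.toLinearMap - LinearMap.id

theorem dev_apply (g : V ≃ₗ[F] V) (x : V) : dev g x = g x - x := rfl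

theorem apply_eq_add_dev (g : V ≃ₗ[F] V) (x : V) : g x = x + dev g x := by rw [dev_apply]; abel

/-- The fixed space of `g`. -/
def fixSpace (g : V ≃ₗ[F] V) : Submodule F V := LinearMap.ker (dev g)

theorem mem_fixSpace {g : V ≃ₗ[F] V} {x : V} : x ∈ fixSpace g ↔ g x = x := by
  simp [fixSpace, dev_apply, sub_eq_zero]

/-- The set of reflections in non-singular vectors. -/
def reflSet (Q : QuadraticForm F V) : Set (orth Q) := {g | ∃ v, Q v ≠ 0 ∧ g = orefl Q v}

theorem orefl_mem_closure (Q : QuadraticForm F V) (v : V) :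
    orefl Q v ∈ Subgroup.closure (reflSet Q) := by
  by_cases h : Q v = 0
  · have : orefl Q v = 1 := by
      apply Subtype.ext
      ext x
      show refl Q v x = x
      simp [refl_apply, h]
    rw [this]; exact one_mem _
  · exact Subgroup.subset_closure ⟨v, h, rfl⟩

variable {Q : QuadraticForm F V} {g : V ≃ₗ[F] V}

theorem polar_fix_dev (hg : g ∈ orth Q) {k : V} (hk : k ∈ fixSpace g) (x : V) :
    polar Q k (dev g x) = 0 := by
  rw [dev_apply, polar_sub_right]
  nth_rw 1 [← mem_fixSpace.1 hk]
  rw [orth_polar hg, sub_self]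

theorem polar_self_dev (hg : g ∈ orth Q) (x : V) : polar Q x (dev g x) = -Q (dev g x) := by
  have h := Q_add Q x (dev g x)
  rw [← apply_eq_add_dev, hg] at h
  linear_combination -h

/-- Eichler transformation as a product of two reflections. -/
theorem refl_refl_eq (Q : QuadraticForm F V) {u w : V} (hu : Q u = 0) (huw : polar Q u w = 0)
    (hw : Q w ≠ 0) (x : V) :
    refl Q (w - Q w • u) (refl Q w x) =
      x + polar Q u x • w - polar Q w x • u - (polar Q u x * Q w) • u := by
  have hQ : Q (w - Q w • u) = Q w := by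
    rw [sub_eq_add_neg, ← neg_smul, Q_add, Q_smul, hu, polar_smul_right, polar_comm Q w u, huw]
    simp
  rw [refl_apply, refl_apply, hQ]
  simp only [polar_sub_left, polar_smul_left, polar_sub_right, polar_smul_right, polar_self', huw,
    smul_eq_mul]
  have h1 : (Q w)⁻¹ * (polar Q w x - Q w * polar Q u x -
      (Q w)⁻¹ * polar Q w x * (2 * Q w - Q w * 0)) = -((Q w)⁻¹ * polar Q w x) - polar Q u x := by
    field_simp; ring
  rw [h1, smul_sub, smul_smul]
  have h2 : (-((Q w)⁻¹ * polar Q w x) - polar Q u x) * Q w = -polar Q w x - polar Q u x * Q w := by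
    field_simp
  rw [h2]
  module

variable [FiniteDimensional F V]

theorem finrank_range_dev (g : V ≃ₗ[F] V) :
    finrank F (LinearMap.range (dev g)) + finrank F (fixSpace g) = finrank F V :=
  LinearMap.finrank_range_add_finrank_ker (dev g)

theorem mem_range_dev_iff (hQ : Nondeg Q) (hg : g ∈ orth Q) (v : V) :
    v ∈ LinearMap.range (dev g) ↔ ∀ k ∈ fixSpace g, polar Q k v = 0 := by
  have hle : LinearMap.range (dev g) ≤ LinearMap.BilinForm.orthogonal (polarBilin Q) (fixSpace g) := by
    rintro _ ⟨x, rfl⟩ k hk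
    exact polar_fix_dev hg hk x
  have heq : LinearMap.range (dev g) = LinearMap.BilinForm.orthogonal (polarBilin Q) (fixSpace g) := by
    refine Submodule.eq_of_le_of_finrank_le hle ?_
    rw [LinearMap.BilinForm.finrank_orthogonal hQ.polarBilin]
    have := finrank_range_dev g
    omega
  rw [heq]
  exact Iff.rfl

/-- The element needed to write a Siegel transformation as four reflections. -/
theorem exists_siegel_helper (hQ : Nondeg Q) (h : (∃ a : F, a ≠ 0 ∧ a ≠ 1) ∨ finrank F V ≠ 4)
    {u₁ u₂ : V} (h1 : Q u₁ = 0) (h2 : Q u₂ = 0) (h12 : polar Q u₁ u₂ = 0)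
    (hli : LinearIndependent F ![u₁, u₂]) :
    ∃ w, polar Q u₁ w = 0 ∧ Q w ≠ 0 ∧ Q (u₂ + w) ≠ 0 := by
  have hn : 4 ≤ finrank F V := by
    have := two_mul_finrank_le hQ (Submodule.span F (Set.range ![u₁, u₂])) (by
      intro w hw
      rw [Matrix.range_cons, Matrix.range_cons, Matrix.range_empty, Set.union_empty,
        Set.singleton_union, Submodule.mem_span_pair] at hw
      obtain ⟨a, b, rfl⟩ := hw
      rw [Q_comb, h1, h2, h12]; ring)
    rw [finrank_span_eq_card hli, Fintype.card_fin] at this
    omega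
  have hker : ∀ u : V, finrank F V ≤ finrank F (LinearMap.ker (polarBilin Q u)) + 1 := fun u => by
    have h3 := LinearMap.finrank_range_add_finrank_ker (polarBilin Q u)
    have h4 := Submodule.finrank_le (LinearMap.range (polarBilin Q u))
    rw [finrank_self] at h4
    omega
  have hex : ∀ K : Submodule F V, finrank F V < 2 * finrank F K → ∃ w ∈ K, Q w ≠ 0 := by
    intro K hK
    by_contra hc
    push Not at hc
    have := two_mul_finrank_le hQ K hc
    omega
  rcases h with ⟨a, ha0, ha1⟩ | h4
  · obtain ⟨w, hw, hQw⟩ := hex (LinearMap.ker (polarBilin Q u₁)) (by have := hker u₁; omega)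
    have hw' : polar Q u₁ w = 0 := hw
    obtain ⟨t, ht0, ht⟩ : ∃ t : F, t ≠ 0 ∧ t * Q w + polar Q u₂ w ≠ 0 := by
      by_cases hc : 1 * Q w + polar Q u₂ w = 0
      · refine ⟨a, ha0, fun h => ha1 ?_⟩
        apply mul_right_cancel₀ hQw
        linear_combination h - hc
      · exact ⟨1, one_ne_zero, hc⟩
    refine ⟨t • w, by rw [polar_smul_right, hw', smul_zero], ?_, ?_⟩
    · rw [Q_smul]; exact mul_ne_zero (mul_ne_zero ht0 ht0) hQw
    · rw [Q_add, Q_smul, h2, polar_smul_right, smul_eq_mul]
      intro h
      exact ht ((mul_eq_zero.1 (by linear_combination h : t * (t * Q w + polar Q u₂ w) = 0)).resolve_left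
        ht0)
  · have hK := Submodule.finrank_sup_add_finrank_inf_eq (LinearMap.ker (polarBilin Q u₁))
      (LinearMap.ker (polarBilin Q u₂))
    have h5 := Submodule.finrank_le
      (LinearMap.ker (polarBilin Q u₁) ⊔ LinearMap.ker (polarBilin Q u₂))
    obtain ⟨w, ⟨hw1, hw2⟩, hQw⟩ := hex
      (LinearMap.ker (polarBilin Q u₁) ⊓ LinearMap.ker (polarBilin Q u₂))
      (by have := hker u₁; have := hker u₂; omega)
    have hw2' : polar Q u₂ w = 0 := hw2
    exact ⟨w, hw1, hQw, by rwa [Q_add, h2, hw2', add_zero, zero_add]⟩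

/-- One step towards writing an isometry as a product of reflections. -/
theorem exists_reduce (hQ : Nondeg Q) (h : (∃ a : F, a ≠ 0 ∧ a ≠ 1) ∨ finrank F V ≠ 4)
    (g : orth Q) (hg : g ≠ 1) :
    ∃ T ∈ Subgroup.closure (reflSet Q),
      finrank F (fixSpace g.1) < finrank F (fixSpace (T * g).1) := by
  have key : ∀ (T : orth Q) (a : V), (∀ k, g.1 k = k → T.1 k = k) → g.1 a ≠ a →
      T.1 (g.1 a) = a → finrank F (fixSpace g.1) < finrank F (fixSpace (T * g).1) := by
    intro T a hfix ha hTa
    apply Submodule.finrank_lt_finrank_of_lt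
    refine lt_of_le_of_ne (fun k hk => ?_) (fun he => ha ?_)
    · rw [mem_fixSpace] at hk ⊢
      show T.1 (g.1 k) = k
      rw [hk, hfix k hk]
    · have : a ∈ fixSpace (T * g).1 := mem_fixSpace.2 hTa
      rwa [← he, mem_fixSpace] at this
  by_cases hns : ∃ a, Q (dev g.1 a) ≠ 0
  · obtain ⟨a, ha⟩ := hns
    refine ⟨orefl Q (dev g.1 a), orefl_mem_closure Q _, key _ a (fun k hk => refl_fix Q ?_) ?_ ?_⟩
    · rw [polar_comm]; exact polar_fix_dev g.2 (mem_fixSpace.2 hk) a
    · intro he; exact ha (by simp [dev_apply, he])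
    · show refl Q (dev g.1 a) (g.1 a) = a
      rw [refl_apply]
      have hp : polar Q (dev g.1 a) (g.1 a) = Q (dev g.1 a) := by
        conv_lhs => rw [apply_eq_add_dev g.1 a]
        rw [polar_add_right, polar_self', polar_comm Q (dev g.1 a) a, polar_self_dev g.2]; ring
      rw [hp, inv_mul_cancel₀ ha, one_smul, dev_apply]; abel
  push Not at hns
  have hperp : ∀ x, polar Q x (dev g.1 x) = 0 := fun x => by
    rw [polar_self_dev g.2, hns, neg_zero]
  have hskew : ∀ x y, polar Q x (dev g.1 y) + polar Q y (dev g.1 x) = 0 := fun x y => by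
    have := hperp (x + y)
    simp only [map_add, polar_add_left, polar_add_right, hperp] at this
    linear_combination this
  have hUU : ∀ x y, polar Q (dev g.1 x) (dev g.1 y) = 0 := fun x y => by
    rw [polar, ← map_add, hns, hns, hns]; ring
  obtain ⟨a, ha⟩ : ∃ a, g.1 a ≠ a := by
    by_contra hc
    push Not at hc
    exact hg (Subtype.ext (LinearEquiv.ext hc))
  have ha' : dev g.1 a ≠ 0 := by rwa [dev_apply, sub_ne_zero]
  obtain ⟨b₀, hb₀⟩ : ∃ b, polar Q b (dev g.1 a) ≠ 0 := by
    by_contra hc
    push Not at hc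
    exact ha' (hQ _ fun y => (polar_comm Q _ y).trans (hc y))
  set b := (polar Q b₀ (dev g.1 a))⁻¹ • b₀ with hbdef
  have hb : polar Q b (dev g.1 a) = 1 := by
    rw [hbdef, polar_smul_left, smul_eq_mul, inv_mul_cancel₀ hb₀]
  set u₁ := dev g.1 b
  set u₂ := dev g.1 a
  have hau₁ : polar Q a u₁ = -1 := by
    have := hskew a b
    rw [hb] at this
    linear_combination this
  have hli : LinearIndependent F ![u₁, u₂] := by
    refine LinearIndependent.pair_iff.2 fun s t hst => ?_
    have e1 := congrArg (polar Q a) hst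
    have e2 := congrArg (polar Q b) hst
    simp only [polar_add_right, polar_smul_right, hau₁, hb, hperp, polar_zero_right, smul_eq_mul,
      u₁, u₂] at e1 e2
    constructor
    · linear_combination -e1
    · linear_combination e2
  obtain ⟨w, hw1, hwQ, hwQ2⟩ := exists_siegel_helper hQ h (hns b) (hns a) (hUU b a) hli
  set w' := u₂ + w
  have hw'1 : polar Q u₁ w' = 0 := by rw [polar_add_right, hUU, hw1, add_zero]
  -- the two Eichler transformations `E (u₁, -w)` and `E (u₁, u₂ + w)`
  let E : V → orth Q := fun v => orefl Q (v - Q v • u₁) * orefl Q v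
  have hmem : ∀ v, E v ∈ Subgroup.closure (reflSet Q) := fun v =>
    mul_mem (orefl_mem_closure Q _) (orefl_mem_closure Q _)
  have hE : ∀ v, Q v ≠ 0 → polar Q u₁ v = 0 → ∀ x, (E v).1 x =
      x + polar Q u₁ x • v - polar Q v x • u₁ - (polar Q u₁ x * Q v) • u₁ :=
    fun v hv hv1 x => refl_refl_eq Q (hns b) hv1 hv x
  have hQnw : Q (-w) ≠ 0 := by rwa [QuadraticMap.map_neg]
  have hnw1 : polar Q u₁ (-w) = 0 := by rw [polar_neg_right, hw1, neg_zero]
  have hT : ∀ x, (E (-w) * E w').1 x = x + polar Q u₁ x • u₂ - polar Q u₂ x • u₁ := by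
    intro x
    show (E (-w)).1 ((E w').1 x) = _
    rw [hE w' hwQ2 hw'1, hE (-w) hQnw hnw1]
    have h11 : polar Q u₁ u₁ = 0 := hUU b b
    have h21 : polar Q u₁ u₂ = 0 := hUU b a
    have hw1' : polar Q u₁ w = 0 := hw1
    simp only [w', polar_add_right, polar_sub_right, polar_smul_right, polar_add_left,
      polar_neg_left, QuadraticMap.map_neg, smul_eq_mul, h11, h21, hw1',
      polar_comm Q w u₁, polar_self' Q w, polar_comm Q w u₂, Q_add, show Q u₂ = 0 from hns a]
    module
  refine ⟨E (-w) * E w', mul_mem (hmem _) (hmem _), key _ a (fun k hk => ?_) ha ?_⟩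
  · rw [hT]
    have k1 : polar Q u₁ k = 0 := (polar_comm Q _ _).trans (polar_fix_dev g.2 (mem_fixSpace.2 hk) b)
    have k2 : polar Q u₂ k = 0 := (polar_comm Q _ _).trans (polar_fix_dev g.2 (mem_fixSpace.2 hk) a)
    simp [k1, k2]
  · rw [hT, apply_eq_add_dev g.1 a]
    have a1 : polar Q u₁ a = -1 := (polar_comm Q _ _).trans hau₁
    have a2 : polar Q u₂ a = 0 := (polar_comm Q _ _).trans (hperp a)
    simp only [polar_add_right, a1, a2, show polar Q u₁ (dev g.1 a) = 0 from hUU b a,
      show polar Q u₂ (dev g.1 a) = 0 from hUU a a]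
    simp [u₂]

/-- The orthogonal group is generated by reflections. -/
theorem closure_reflSet (hQ : Nondeg Q) (h : (∃ a : F, a ≠ 0 ∧ a ≠ 1) ∨ finrank F V ≠ 4) :
    Subgroup.closure (reflSet Q) = ⊤ := by
  suffices ∀ k (g : orth Q), finrank F V - finrank F (fixSpace g.1) = k →
      g ∈ Subgroup.closure (reflSet Q) from
    eq_top_iff.2 fun g _ => this _ g rfl
  intro k
  induction k using Nat.strong_induction_on with
  | _ k ih =>
    intro g hk
    by_cases hg : g = 1
    · rw [hg]; exact one_mem _
    obtain ⟨T, hT, hlt⟩ := exists_reduce hQ h g hg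
    have hle := Submodule.finrank_le (fixSpace (T * g).1)
    have := ih _ (by omega) (T * g) rfl
    have := mul_mem (inv_mem hT) this
    rwa [inv_mul_cancel_left] at this

/-- Multiplying by a reflection changes the dimension of the fixed space by exactly one. -/
theorem finrank_fixSpace_mul_refl (hQ : Nondeg Q) (hg : g ∈ orth Q) {v : V} (hv : Q v ≠ 0) :
    finrank F (fixSpace (g * refl Q v)) = finrank F (fixSpace g) + 1 ∨
      finrank F (fixSpace (g * refl Q v)) + 1 = finrank F (fixSpace g) := by
  set φ : V →ₗ[F] V := dev g + ((Q v)⁻¹ • polarBilin Q v).smulRight v with hφ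
  have hφa : ∀ y, φ y = dev g y + ((Q v)⁻¹ * polar Q v y) • v := fun y => rfl
  have hfix : finrank F (fixSpace (g * refl Q v)) = finrank F (LinearMap.ker φ) := by
    have : fixSpace (g * refl Q v) = (LinearMap.ker φ).map (refl Q v).toLinearMap := by
      ext x
      rw [Submodule.mem_map_equiv, LinearMap.mem_ker, hφa, mem_fixSpace]
      show g (refl Q v x) = x ↔ _
      rw [show (refl Q v).symm x = refl Q v x from rfl, dev_apply]
      have hx : x = refl Q v (refl Q v x) := (reflMap_involutive Q v x).symm
      conv_lhs => rhs; rw [hx, refl_apply Q v (refl Q v x)]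
      rw [← sub_eq_zero]
      constructor <;> intro h <;> rw [← h] <;> abel
    rw [this, LinearEquiv.finrank_map_eq]
  rw [hfix]
  by_cases hvU : v ∈ LinearMap.range (dev g)
  · left
    obtain ⟨w₀, hw₀⟩ := hvU
    set w := -w₀
    have hw : dev g w = -v := by rw [map_neg, hw₀]
    have hvw : polar Q v w = Q v := by
      have := polar_self_dev hg w
      rw [hw, polar_neg_right, QuadraticMap.map_neg, neg_inj, polar_comm] at this
      exact this
    have hker : LinearMap.ker φ = fixSpace g ⊔ Submodule.span F {w} := by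
      apply le_antisymm
      · intro y hy
        rw [LinearMap.mem_ker, hφa] at hy
        refine Submodule.mem_sup.2 ⟨y - ((Q v)⁻¹ * polar Q v y) • w, ?_,
          ((Q v)⁻¹ * polar Q v y) • w, Submodule.smul_mem _ _ (Submodule.mem_span_singleton_self w),
          sub_add_cancel _ _⟩
        show dev g _ = 0
        rw [map_sub, map_smul, hw, smul_neg, sub_neg_eq_add, hy]
      · refine sup_le (fun k hk => ?_) ((Submodule.span_singleton_le_iff_mem _ _).2 ?_)
        · rw [LinearMap.mem_ker, hφa, show dev g k = 0 from hk, ← hw₀,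
            show polar Q (dev g w₀) k = 0 from
              (polar_comm Q _ _).trans (polar_fix_dev hg hk w₀)]
          simp
        · rw [LinearMap.mem_ker, hφa, hw, hvw, inv_mul_cancel₀ hv, one_smul, neg_add_cancel]
    have hwn : w ∉ fixSpace g := fun h => by
      have h0 : dev g w = 0 := h
      rw [hw, neg_eq_zero] at h0
      exact hv (by rw [h0, QuadraticMap.map_zero])
    rw [hker]
    exact Submodule.finrank_sup_span_singleton hwn
  · right
    have hker : LinearMap.ker φ = fixSpace g ⊓ LinearMap.ker (polarBilin Q v) := by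
      ext y
      rw [LinearMap.mem_ker, hφa, Submodule.mem_inf]
      constructor
      · intro h
        have hc : (Q v)⁻¹ * polar Q v y = 0 := by
          by_contra hc
          apply hvU
          have : v = (-((Q v)⁻¹ * polar Q v y)⁻¹) • dev g y := by
            rw [eq_neg_of_add_eq_zero_left h, smul_neg, neg_smul, neg_neg, smul_smul,
              inv_mul_cancel₀ hc, one_smul]
          rw [this]
          exact Submodule.smul_mem _ _ (LinearMap.mem_range_self _ _)
        rw [hc, zero_smul, add_zero] at h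
        exact ⟨h, (mul_eq_zero.1 hc).resolve_left (inv_ne_zero hv)⟩
      · rintro ⟨h1, h2⟩
        rw [show dev g y = 0 from h1, show polar Q v y = 0 from h2, mul_zero, zero_smul, add_zero]
    obtain ⟨k, hk, hkv⟩ : ∃ k ∈ fixSpace g, polar Q v k ≠ 0 := by
      by_contra hc
      push Not at hc
      exact hvU ((mem_range_dev_iff hQ hg v).2 fun k hk => (polar_comm Q _ _).trans (hc k hk))
    rw [hker]
    have hsup : (fixSpace g ⊓ LinearMap.ker (polarBilin Q v)) ⊔ Submodule.span F {k} = fixSpace g := by
      refine le_antisymm (sup_le inf_le_left ((Submodule.span_singleton_le_iff_mem _ _).2 hk))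
        fun y hy => ?_
      refine Submodule.mem_sup.2 ⟨y - (polar Q v y / polar Q v k) • k,
        ⟨sub_mem hy (Submodule.smul_mem _ _ hk), ?_⟩, _,
        Submodule.smul_mem _ _ (Submodule.mem_span_singleton_self k), sub_add_cancel _ _⟩
      show polar Q v _ = 0
      rw [polar_sub_right, polar_smul_right, smul_eq_mul, div_mul_cancel₀ _ hkv, sub_self]
    have hkn : k ∉ fixSpace g ⊓ LinearMap.ker (polarBilin Q v) := fun h => hkv h.2
    conv_rhs => rw [← hsup]
    exact (Submodule.finrank_sup_span_singleton hkn).symm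

/-- The Dickson invariant. -/
noncomputable def dickson (Q : QuadraticForm F V) (g : orth Q) : ZMod 2 :=
  (finrank F (LinearMap.range (dev g.1)) : ℕ)

omit [FiniteDimensional F V] in
theorem dickson_one (Q : QuadraticForm F V) : dickson Q 1 = 0 := by
  have h : LinearMap.range (dev ((1 : orth Q) : V ≃ₗ[F] V)) = ⊥ :=
    LinearMap.range_eq_bot.2 (LinearMap.ext fun x => sub_self x)
  rw [dickson, h, finrank_bot, Nat.cast_zero]

theorem dickson_mul_orefl (hQ : Nondeg Q) (g : orth Q) {v : V} (hv : Q v ≠ 0) :
    dickson Q (g * orefl Q v) = dickson Q g + 1 := by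
  have h1 := finrank_range_dev g.1
  have h2 : finrank F (LinearMap.range (dev (g * orefl Q v).1)) +
      finrank F (fixSpace (g.1 * refl Q v)) = finrank F V := finrank_range_dev _
  rcases finrank_fixSpace_mul_refl hQ g.2 hv with h | h
  · have : finrank F (LinearMap.range (dev g.1)) =
        finrank F (LinearMap.range (dev (g * orefl Q v).1)) + 1 := by omega
    rw [dickson, dickson, this, Nat.cast_add, Nat.cast_one, add_assoc,
      show (1 : ZMod 2) + 1 = 0 from rfl, add_zero]
  · have : finrank F (LinearMap.range (dev (g * orefl Q v).1)) =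
        finrank F (LinearMap.range (dev g.1)) + 1 := by omega
    rw [dickson, dickson, this, Nat.cast_add, Nat.cast_one]

theorem dickson_orefl (hQ : Nondeg Q) {v : V} (hv : Q v ≠ 0) : dickson Q (orefl Q v) = 1 := by
  have := dickson_mul_orefl hQ 1 hv
  rwa [one_mul, dickson_one, zero_add] at this

/-- The Dickson invariant as a homomorphism. -/
noncomputable def dicksonHom (hQ : Nondeg Q) (h : (∃ a : F, a ≠ 0 ∧ a ≠ 1) ∨ finrank F V ≠ 4) :
    orth Q →* Multiplicative (ZMod 2) where
  toFun g := Multiplicative.ofAdd (dickson Q g)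
  map_one' := by rw [dickson_one]; rfl
  map_mul' a b := by
    rw [← ofAdd_add]
    congr 1
    have hb : b ∈ Subgroup.closure (reflSet Q) := by rw [closure_reflSet hQ h]; trivial
    induction hb using Subgroup.closure_induction generalizing a with
    | mem x hx =>
      obtain ⟨v, hv, rfl⟩ := hx
      rw [dickson_mul_orefl hQ a hv, dickson_orefl hQ hv]
    | one => rw [mul_one, dickson_one, add_zero]
    | mul x y _ _ ihx ihy => rw [← mul_assoc, ihy, ihx, ihy x, add_assoc]
    | inv x _ ihx =>
      have e1 : dickson Q a = dickson Q (a * x⁻¹) + dickson Q x := by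
        rw [← ihx, inv_mul_cancel_right]
      have e2 : 0 = dickson Q x⁻¹ + dickson Q x := by
        rw [← ihx, inv_mul_cancel, dickson_one]
      linear_combination e2 - e1

theorem dicksonHom_orefl (hQ : Nondeg Q) (h : (∃ a : F, a ≠ 0 ∧ a ≠ 1) ∨ finrank F V ≠ 4) {v : V}
    (hv : Q v ≠ 0) : dicksonHom hQ h (orefl Q v) = Multiplicative.ofAdd (1 : ZMod 2) := by
  show Multiplicative.ofAdd (dickson Q (orefl Q v)) = _
  rw [dickson_orefl hQ hv]

end Cfsg.Agent.Lib.Forms
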