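/-
The commutator subgroup of a finite orthogonal group.

The spinor norm is realised, without Clifford algebras, as the sign of the permutation induced on a
level set `{x | Q x = c}`. Main results:
`index_commutator_odd` (index 4), `mem_commutator_iff_odd`, `index_commutator_two` (index 2).
-/
import Cfsg.Agent.Lib.Forms.Reflections
import Cfsg.Agent.Lib.Forms.Count

set_option autoImplicit false

namespace Cfsg.Agent.Lib.Forms

open Module QuadraticMap

variable {F : Type*} [Field F] {V : Type*} [AddCommGroup V] [Module F V]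

/-- The orthogonal group of a finite space is finite. -/
instance orthFinite [Finite V] (Q : QuadraticForm F V) : Finite (orth Q) :=
  Finite.of_injective (fun g : orth Q => (g.1 : V → V))
    (DFunLike.coe_injective.comp Subtype.val_injective)

/-! ### The sign character -/

/-- The action of the orthogonal group on a level set. -/
def levelPerm (Q : QuadraticForm F V) (c : F) : orth Q →* Equiv.Perm {x // Q x = c} where
  toFun g := g.1.toEquiv.subtypeEquiv fun x => by
    show Q x = c ↔ Q (g.1 x) = c
    rw [g.2]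
  map_one' := rfl
  map_mul' _ _ := rfl

theorem levelPerm_apply (Q : QuadraticForm F V) (c : F) (g : orth Q) (x : {x // Q x = c}) :
    (levelPerm Q c g x : V) = g.1 x := rfl

/-- The sign of the action on a level set. -/
noncomputable def levelSign [Finite V] (Q : QuadraticForm F V) (c : F) : orth Q →* ℤˣ :=
  letI := Classical.decEq {x // Q x = c}
  letI := Fintype.ofFinite {x // Q x = c}
  Equiv.Perm.sign.comp (levelPerm Q c)

/-- The part of a level set orthogonal to `v`. -/
noncomputable def perpLevelCard (Q : QuadraticForm F V) (c : F) (v : V) : ℕ :=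
  Nat.card {x // Q x = c ∧ polar Q v x = 0}

theorem sign_involution {α : Type*} [Fintype α] [DecidableEq α] (σ : Equiv.Perm α)
    (h : σ * σ = 1) : 2 ∣ Nat.card {x // σ x ≠ x} ∧
      Equiv.Perm.sign σ = (-1) ^ (Nat.card {x // σ x ≠ x} / 2) := by
  have h2 : σ ^ 2 = 1 := by rw [pow_two, h]
  have hs : Nat.card {x // σ x ≠ x} = σ.support.card := by
    rw [Nat.card_eq_fintype_card, Fintype.card_subtype]
    rfl
  refine ⟨hs ▸ Equiv.Perm.two_dvd_card_support h2, ?_⟩
  have : Fact (Nat.Prime 2) := ⟨Nat.prime_two⟩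
  have hc := Equiv.Perm.cycleType_of_pow_prime_eq_one h2
  rw [hs, Equiv.Perm.sign_of_cycleType, ← Equiv.Perm.sum_cycleType, hc, Multiset.sum_replicate,
    Multiset.card_replicate, smul_eq_mul, Nat.mul_div_cancel _ two_pos, pow_add, pow_mul',
    neg_one_sq, one_pow, one_mul]

/-- Number of level-set vectors moved by a reflection, and the resulting sign. -/
theorem levelSign_orefl [Finite V] (Q : QuadraticForm F V) (c : F) {v : V} (hv : Q v ≠ 0) :
    ∃ k, levelCard Q c = perpLevelCard Q c v + 2 * k ∧ levelSign Q c (orefl Q v) = (-1) ^ k := by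
  classical
  have := Fintype.ofFinite V
  set σ := levelPerm Q c (orefl Q v) with hσ
  have hinv : σ * σ = 1 := by
    rw [hσ, ← map_mul, show orefl Q v * orefl Q v = 1 from Subtype.ext (refl_mul_self Q v), map_one]
  obtain ⟨h2, hsign⟩ := sign_involution σ hinv
  have hfix : ∀ x : {x // Q x = c}, σ x = x ↔ polar Q v x = 0 := fun x => by
    constructor
    · intro h
      have h' : refl Q v x = x := congrArg Subtype.val h
      rw [refl_apply, sub_eq_self, smul_eq_zero] at h'
      rcases h' with h' | h'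
      · exact (mul_eq_zero.1 h').resolve_left (inv_ne_zero hv)
      · exact absurd (by rw [h', QuadraticMap.map_zero]) hv
    · exact fun h => Subtype.ext (refl_fix Q h)
  have hsum : levelCard Q c = perpLevelCard Q c v + Nat.card {x // σ x ≠ x} := by
    have e : {x // σ x = x} ≃ {x // Q x = c ∧ polar Q v x = 0} :=
      ((Equiv.refl _).subtypeEquiv hfix).trans
        (Equiv.subtypeSubtypeEquivSubtypeInter (fun x : V => Q x = c) (fun x => polar Q v x = 0))
    rw [levelCard, perpLevelCard, ← Nat.card_congr e, ← Nat.card_sum]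
    exact Nat.card_congr (Equiv.sumCompl _).symm
  refine ⟨Nat.card {x // σ x ≠ x} / 2, by rw [Nat.mul_div_cancel' h2]; exact hsum, ?_⟩
  rw [← hsign]
  unfold levelSign
  simp only [MonoidHom.comp_apply, ← hσ]
  congr!

/-- Two reflections which the sign character separates. -/
theorem levelSign_ne [Finite V] (Q : QuadraticForm F V) (c : F) {v w : V} (hv : Q v ≠ 0)
    (hw : Q w ≠ 0) {r : ℕ} (hr : Odd r)
    (h : perpLevelCard Q c v = perpLevelCard Q c w + 2 * r) :
    levelSign Q c (orefl Q v) ≠ levelSign Q c (orefl Q w) := by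
  obtain ⟨k, hk, hsv⟩ := levelSign_orefl Q c hv
  obtain ⟨l, hl, hsw⟩ := levelSign_orefl Q c hw
  rw [hsv, hsw, show l = k + r by omega, pow_add, hr.neg_one_pow, mul_neg_one]
  rcases neg_one_pow_eq_or ℤˣ k with e | e <;> rw [e] <;> decide

/-! ### Separating reflections in the models -/

section Models

variable [Finite F]

omit [Finite F] in
/-- A level set of `v^⊥` inside `qPlus k ⊕ R`, when `v` lies in the binary part. -/
theorem perpLevelCard_binary {W : Type*} [AddCommGroup W] [Module F W] (k : ℕ)
    (R : QuadraticForm F W) (c : F) {u v : W} (hu : u ≠ 0)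
    (hker : ∀ w, polar R v w = 0 ↔ ∃ t : F, t • u = w) :
    perpLevelCard ((qPlus (F := F) k).prod R) c (0, v) =
      levelCard ((qPlus (F := F) k).prod (qOne (R u))) c := by
  let f : {x // ((qPlus (F := F) k).prod (qOne (R u))) x = c} →
      {x // ((qPlus (F := F) k).prod R) x = c ∧
        polar ((qPlus (F := F) k).prod R) (0, v) x = 0} := fun p => ⟨(p.1.1, p.1.2 • u), by
    have := p.2
    simp only [QuadraticMap.prod_apply, qOne_apply] at this ⊢
    rw [Q_smul]; linear_combination this, by
    rw [polar_prod, polar_zero_left, zero_add]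
    exact (hker _).2 ⟨_, rfl⟩⟩
  refine (Nat.card_congr (Equiv.ofBijective f ⟨?_, ?_⟩)).symm
  · rintro ⟨⟨z, t⟩, hp⟩ ⟨⟨z', t'⟩, hp'⟩ h
    simp only [f, Subtype.mk.injEq, Prod.mk.injEq] at h ⊢
    exact ⟨h.1, smul_left_injective F hu h.2⟩
  · rintro ⟨⟨z, w⟩, hQ, hperp⟩
    rw [polar_prod, polar_zero_left, zero_add] at hperp
    obtain ⟨t, rfl⟩ := (hker w).1 hperp
    refine ⟨⟨(z, t), ?_⟩, rfl⟩
    simp only [QuadraticMap.prod_apply, qOne_apply] at hQ ⊢
    rw [Q_smul] at hQ
    linear_combination hQ

omit [Finite F] in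
theorem levelCard_qOne {d c : F} (h2 : (2 : F) ≠ 0) (hd : d ≠ 0) (hc : c ≠ 0) :
    (IsSquare (c / d) → levelCard (qOne d) c = 2) ∧
      (¬ IsSquare (c / d) → levelCard (qOne d) c = 0) := by
  constructor
  · rintro ⟨r, hr⟩
    have hr0 : r ≠ 0 := fun h => hc (by
      rw [h, mul_zero, div_eq_zero_iff] at hr
      exact hr.resolve_right hd)
    have he : c = d * (r * r) := by rw [← hr, mul_div_cancel₀ _ hd]
    refine Nat.card_eq_two_iff.2 ⟨⟨r, by rw [qOne_apply, he]⟩, ⟨-r, by rw [qOne_apply, he]; ring⟩,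
      fun h => hr0 ?_, Set.eq_univ_of_forall fun x => ?_⟩
    · have := congrArg Subtype.val h
      exact (mul_eq_zero.1 (show (2 : F) * r = 0 by linear_combination this)).resolve_left h2
    · have := ((qOne_apply d x.1).symm.trans x.2).trans he
      rcases mul_self_eq_mul_self_iff.1 (mul_left_cancel₀ hd this) with e | e
      · exact Or.inl (Subtype.ext e)
      · exact Or.inr (Subtype.ext e)
  · intro h
    refine Nat.card_eq_zero.2 (Or.inl ⟨fun x => h ⟨x.1, ?_⟩⟩)
    exact (eq_div_iff hd).2 ((mul_comm _ _).trans ((qOne_apply d x.1).symm.trans x.2)) |>.symm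

theorem exists_nonsq (h2 : (2 : F) ≠ 0) : ∃ ν : F, ¬ IsSquare ν := by
  refine FiniteField.exists_nonsquare fun h => h2 ?_
  have := ringChar.Nat.cast_ringChar (R := F)
  rw [h] at this
  exact_mod_cast this

theorem qPlus_prod_nondeg_of_binary {W : Type*} [AddCommGroup W] [Module F W]
    [FiniteDimensional F W] (h2 : (2 : F) ≠ 0) {R : QuadraticForm F W} (hR : Nondeg R)
    (hW : finrank F W = 2) (s : F) (hs : s ≠ 0) :
    ∃ u v, R u = s ∧ u ≠ 0 ∧ R v ≠ 0 ∧ ∀ w, polar R v w = 0 ↔ ∃ t : F, t • u = w := by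
  obtain ⟨u, hu⟩ := exists_Q_eq hR (by omega) s
  have hu0 : u ≠ 0 := fun h => hs (by rw [← hu, h, QuadraticMap.map_zero])
  have hker : LinearMap.ker (polarBilin R u) ≠ ⊥ := fun hb => by
    have h3 := LinearMap.finrank_range_add_finrank_ker (polarBilin R u)
    rw [hb, finrank_bot] at h3
    have h4 := Submodule.finrank_le (LinearMap.range (polarBilin R u))
    rw [finrank_self] at h4
    omega
  obtain ⟨v, hv, hv0⟩ := Submodule.exists_mem_ne_zero_of_ne_bot hker
  have huv : polar R u v = 0 := hv
  have huu : polar R u u ≠ 0 := by rw [polar_self', hu]; exact mul_ne_zero h2 hs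
  have hli : LinearIndependent F ![u, v] := by
    refine LinearIndependent.pair_iff.2 fun a b hab => ?_
    have := congrArg (polar R u) hab
    simp only [polar_add_right, polar_smul_right, huv, polar_zero_right, smul_eq_mul, mul_zero,
      add_zero] at this
    have ha := (mul_eq_zero.1 this).resolve_right huu
    rw [ha, zero_smul, zero_add] at hab
    exact ⟨ha, (smul_eq_zero.1 hab).resolve_right hv0⟩
  let B := basisOfLinearIndependentOfCardEqFinrank hli (by simp [hW])
  have hB : ∀ w, ∃ a b : F, a • u + b • v = w := fun w => ⟨B.repr w 0, B.repr w 1, by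
    conv_rhs => rw [← B.sum_repr w, Fin.sum_univ_two]
    simp [B]⟩
  have hvv : polar R v v ≠ 0 := fun h => hv0 (hR v fun w => by
    obtain ⟨a, b, rfl⟩ := hB w
    simp [polar_comm R v u, huv, h])
  refine ⟨u, v, hu, hu0, fun h => hvv (by rw [polar_self', h, mul_zero]), fun w => ⟨fun h => ?_, ?_⟩⟩
  · obtain ⟨a, b, rfl⟩ := hB w
    simp only [polar_add_right, polar_smul_right, polar_comm R v u, huv, smul_eq_mul, mul_zero,
      zero_add] at h
    exact ⟨a, by rw [(mul_eq_zero.1 h).resolve_right hvv, zero_smul, add_zero]⟩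
  · rintro ⟨t, rfl⟩
    simp [polar_comm R v u, huv]

theorem exists_separated_even {W : Type*} [AddCommGroup W] [Module F W] [Finite W]
    [FiniteDimensional F W] (h2 : (2 : F) ≠ 0) (k : ℕ) {R : QuadraticForm F W} (hR : Nondeg R)
    (hW : finrank F W = 2) {c : F} (hc : c ≠ 0) :
    ∃ v w, ((qPlus (F := F) k).prod R) v ≠ 0 ∧ ((qPlus (F := F) k).prod R) w ≠ 0 ∧
      ∃ r, Odd r ∧ perpLevelCard ((qPlus (F := F) k).prod R) c v =
        perpLevelCard ((qPlus (F := F) k).prod R) c w + 2 * r := by
  obtain ⟨ν, hν⟩ := exists_nonsq h2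
  have hν0 : ν ≠ 0 := fun h => hν (h ▸ IsSquare.zero)
  obtain ⟨u, v, hu, hu0, hv, hker⟩ := qPlus_prod_nondeg_of_binary h2 hR hW c hc
  obtain ⟨u', v', hu', hu0', hv', hker'⟩ :=
    qPlus_prod_nondeg_of_binary h2 hR hW (c * ν) (mul_ne_zero hc hν0)
  refine ⟨(0, v), (0, v'), ?_, ?_, Nat.card F ^ k, ?_, ?_⟩
  · simpa [QuadraticMap.prod_apply] using hv
  · simpa [QuadraticMap.prod_apply] using hv'
  · refine Odd.pow ?_
    have := Fintype.ofFinite F
    rw [Nat.card_eq_fintype_card, Nat.odd_iff]
    exact FiniteField.odd_card_of_char_ne_two fun h => h2 (by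
      have := ringChar.Nat.cast_ringChar (R := F)
      rw [h] at this; exact_mod_cast this)
  · rw [perpLevelCard_binary k R c hu0 hker, perpLevelCard_binary k R c hu0' hker', hu, hu',
      levelCard_plus_prod, levelCard_plus_prod,
      (levelCard_qOne h2 hc hc).1 ⟨1, by rw [div_self hc, one_mul]⟩,
      (levelCard_qOne h2 (mul_ne_zero hc hν0) hc).2 (fun h => hν ?_)]
    · ring
    · obtain ⟨r, hr⟩ := h
      refine ⟨r⁻¹, ?_⟩
      rw [← mul_inv, ← hr, inv_div, mul_div_cancel_left₀ _ hc]

omit [Finite F] in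
theorem qHyp_nondeg : Nondeg (qHyp (F := F)) := by
  intro x hx
  have h1 := hx (0, 1)
  have h2 := hx (1, 0)
  rw [polar, qHyp_apply, qHyp_apply, qHyp_apply] at h1 h2
  simp only [Prod.fst_add, Prod.snd_add] at h1 h2
  exact Prod.ext (show x.1 = 0 by linear_combination h1) (show x.2 = 0 by linear_combination h2)

theorem odd_card_of_two_ne (h2 : (2 : F) ≠ 0) : Odd (Nat.card F) := by
  have := Fintype.ofFinite F
  rw [Nat.card_eq_fintype_card, Nat.odd_iff]
  exact FiniteField.odd_card_of_char_ne_two fun h => h2 (by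
    have := ringChar.Nat.cast_ringChar (R := F)
    rw [h] at this; exact_mod_cast this)

/-- The split binary form on a two-dimensional product. -/
def qPair (p r : F) : QuadraticForm F (F × F) := (qOne p).prod (qOne r)

theorem exists_separated_odd (h2 : (2 : F) ≠ 0) (k : ℕ) {d : F} (hd : d ≠ 0) {c : F} (hc : c ≠ 0) :
    ∃ v w, (qHyp.prod ((qPlus (F := F) k).prod (qOne d))) v ≠ 0 ∧
      (qHyp.prod ((qPlus (F := F) k).prod (qOne d))) w ≠ 0 ∧
      ∃ r, Odd r ∧ perpLevelCard (qHyp.prod ((qPlus (F := F) k).prod (qOne d))) c v =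
        perpLevelCard (qHyp.prod ((qPlus (F := F) k).prod (qOne d))) c w + 2 * r := by
  obtain ⟨ν, hν⟩ := exists_nonsq h2
  have hν0 : ν ≠ 0 := fun h => hν (h ▸ IsSquare.zero)
  have hperp : ∀ s : F, s ≠ 0 → perpLevelCard (qHyp.prod ((qPlus (F := F) k).prod (qOne d))) c
      ((1, s), 0) = levelCard ((qPlus (F := F) k).prod (qPair (-s) d)) c := by
    intro s _
    refine Nat.card_congr
      { toFun := fun p => ⟨(p.1.2.1, (p.1.1.1, p.1.2.2)), ?_⟩
        invFun := fun p => ⟨((p.1.2.1, -s * p.1.2.1), (p.1.1, p.1.2.2)), ?_, ?_⟩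
        left_inv := ?_
        right_inv := fun p => rfl }
    · obtain ⟨⟨⟨x, y⟩, z, t⟩, hQ, hp⟩ := p
      simp only [polar, qPair, QuadraticMap.prod_apply, qHyp_apply, qOne_apply, zero_add,
        Prod.mk_add_mk, QuadraticMap.map_zero] at hQ hp ⊢
      linear_combination hQ - x * hp
    · have := p.2
      simp only [qPair, QuadraticMap.prod_apply, qHyp_apply, qOne_apply] at this ⊢
      linear_combination this
    · simp [polar, QuadraticMap.prod_apply, qHyp_apply]
      ring
    · rintro ⟨⟨⟨x, y⟩, z, t⟩, hQ, hp⟩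
      refine Subtype.ext (Prod.ext (Prod.ext rfl ?_) rfl)
      simp only [polar, QuadraticMap.prod_apply, qHyp_apply, zero_add, Prod.mk_add_mk,
        QuadraticMap.map_zero] at hp
      show -s * x = y
      linear_combination -hp
  -- split binary form: `q - 1` vectors; anisotropic one: `q + 1`
  have hsplit : levelCard (qPair (-d) d) c = Nat.card F - 1 := by
    let e : (qPair (-d) d).IsometryEquiv (qHyp (F := F)) :=
      { toFun := fun p => (d * (p.2 - p.1), p.2 + p.1)
        map_add' := fun p p' => by ext <;> simp <;> ring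
        map_smul' := fun a p => by ext <;> simp <;> ring
        invFun := fun z => ((z.2 - z.1 / d) / 2, (z.2 + z.1 / d) / 2)
        left_inv := fun p => by ext <;> simp <;> field_simp <;> ring
        right_inv := fun z => by ext <;> simp <;> field_simp <;> ring
        map_app' := fun p => by simp [qPair, qHyp_apply, qOne_apply]; ring }
    rw [levelCard, card_level_congr ⟨e⟩ c]
    let e0 : (qHyp (F := F)).IsometryEquiv (qHyp.prod (0 : QuadraticForm F (Fin 0 → F))) :=
      { toFun := fun p => (p, 0)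
        map_add' := fun p p' => by simp
        map_smul' := fun a p => by simp
        invFun := fun p => p.1
        left_inv := fun p => rfl
        right_inv := fun p => Prod.ext rfl (Subsingleton.elim _ _)
        map_app' := fun p => by simp }
    rw [card_level_congr ⟨e0⟩ c]
    show levelCard _ c = _
    rw [levelCard_hyp_prod, show levelCard (0 : QuadraticForm F (Fin 0 → F)) c = 0 from
      Nat.card_eq_zero.2 (Or.inl ⟨fun x => hc (by simpa using x.2.symm)⟩)]
    simp
  have hanis : levelCard (qPair (-(d * ν)) d) c = Nat.card F + 1 := by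
    have hab : ∀ z₁ z₂ : F, z₁ ^ 2 + 0 * z₁ * z₂ + -ν * z₂ ^ 2 = 0 → z₁ = 0 ∧ z₂ = 0 := by
      intro z₁ z₂ h
      by_cases hz : z₂ = 0
      · subst hz
        exact ⟨pow_eq_zero_iff two_ne_zero |>.1 (by linear_combination h), rfl⟩
      · exfalso
        refine hν ⟨z₁ / z₂, ?_⟩
        field_simp
        linear_combination -h
    rw [← levelCard_qBin hab (div_ne_zero hc hd)]
    refine Nat.card_congr
      { toFun := fun p => ⟨![p.1.2, p.1.1], ?_⟩
        invFun := fun p => ⟨(p.1 1, p.1 0), ?_⟩
        left_inv := fun p => rfl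
        right_inv := fun p => Subtype.ext (by funext i; fin_cases i <;> rfl) }
    · have := p.2
      simp only [qPair, QuadraticMap.prod_apply, qOne_apply] at this
      rw [eq_div_iff hd, qBin_apply]
      simp only [Matrix.cons_val_zero, Matrix.cons_val_one]
      linear_combination this
    · have := p.2
      rw [qBin_apply, eq_div_iff hd] at this
      simp only [qPair, QuadraticMap.prod_apply, qOne_apply]
      linear_combination this
  refine ⟨((1, d * ν), 0), ((1, d), 0), ?_, ?_, Nat.card F ^ k, (odd_card_of_two_ne h2).pow, ?_⟩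
  · simp [qHyp_apply, hd, hν0]
  · simp [qHyp_apply, hd]
  · rw [hperp _ (mul_ne_zero hd hν0), hperp _ hd, levelCard_plus_prod, levelCard_plus_prod, hsplit,
      hanis]
    have : 1 ≤ Nat.card F := Nat.card_pos
    obtain ⟨q, hq⟩ : ∃ q, Nat.card F = q + 1 := ⟨Nat.card F - 1, by omega⟩
    rw [hq, Nat.add_sub_cancel]
    ring

end Models

variable [Finite F] [FiniteDimensional F V]

omit [Finite F] [FiniteDimensional F V] in
theorem perpLevelCard_congr {V' : Type*} [AddCommGroup V'] [Module F V'] {Q : QuadraticForm F V}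
    {Q' : QuadraticForm F V'} (e : Q.IsometryEquiv Q') (c : F) (v : V) :
    perpLevelCard Q' c (e v) = perpLevelCard Q c v := by
  refine (Nat.card_congr (e.toLinearEquiv.toEquiv.subtypeEquiv fun x => ?_)).symm
  show Q x = c ∧ polar Q v x = 0 ↔ Q' (e x) = c ∧ polar Q' (e v) (e x) = 0
  rw [e.map_app]
  exact Iff.and Iff.rfl (by rw [← polar_map e.toLinearEquiv.toLinearMap e.map_app' v x]; rfl)

variable {Q : QuadraticForm F V}

/-- Two reflections separated by the sign on any non-zero level. -/
theorem exists_separated [Finite V] (hQ : Nondeg Q) (h2 : (2 : F) ≠ 0) (hn : 2 ≤ finrank F V)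
    {c : F} (hc : c ≠ 0) :
    ∃ v w, Q v ≠ 0 ∧ Q w ≠ 0 ∧ levelSign Q c (orefl Q v) ≠ levelSign Q c (orefl Q w) := by
  suffices ∃ v w, Q v ≠ 0 ∧ Q w ≠ 0 ∧ ∃ r, Odd r ∧
      perpLevelCard Q c v = perpLevelCard Q c w + 2 * r by
    obtain ⟨v, w, hv, hw, r, hr, h⟩ := this
    exact ⟨v, w, hv, hw, levelSign_ne Q c hv hw hr h⟩
  rcases classify Q hQ with ⟨m, hm, ⟨e⟩⟩ | ⟨m, d, hd, -, hm, ⟨e⟩⟩ | ⟨m, a, b, hab, hm, ⟨e⟩⟩
  · obtain ⟨k, rfl⟩ : ∃ k, m = k + 1 := ⟨m - 1, by omega⟩
    let e' := e.trans ((qPlusSuccEquiv (F := F) k).trans (IsometryEquiv.prodComm qHyp (qPlus k)))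
    obtain ⟨v, w, hv, hw, r, hr, h⟩ :=
      exists_separated_even h2 k (qHyp_nondeg (F := F)) (by simp) hc
    refine ⟨e'.symm v, e'.symm w, by rwa [e'.symm.map_app], by rwa [e'.symm.map_app], r, hr, ?_⟩
    rwa [perpLevelCard_congr e'.symm, perpLevelCard_congr e'.symm]
  · obtain ⟨k, rfl⟩ : ∃ k, m = k + 1 := ⟨m - 1, by omega⟩
    let e' := e.trans (qPlusProdSucc k (qOne d))
    obtain ⟨v, w, hv, hw, r, hr, h⟩ := exists_separated_odd h2 k hd hc
    refine ⟨e'.symm v, e'.symm w, by rwa [e'.symm.map_app], by rwa [e'.symm.map_app], r, hr, ?_⟩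
    rwa [perpLevelCard_congr e'.symm, perpLevelCard_congr e'.symm]
  · obtain ⟨v, w, hv, hw, r, hr, h⟩ :=
      exists_separated_even h2 m (qBin_nondeg hab) (by simp) hc
    refine ⟨e.symm v, e.symm w, by rwa [e.symm.map_app], by rwa [e.symm.map_app], r, hr, ?_⟩
    rwa [perpLevelCard_congr e.symm, perpLevelCard_congr e.symm]

/-! ### The abelianisation -/

omit [Finite F] in
theorem orefl_conj_of_eq (hQ : Nondeg Q) {v w : V} (hv : Q v ≠ 0) {t : F} (ht : t ≠ 0)
    (h : Q w = t * t * Q v) : ∃ g : orth Q, g * orefl Q v * g⁻¹ = orefl Q w := by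
  have hw : w ≠ 0 := fun h0 => by
    rw [h0, QuadraticMap.map_zero] at h
    exact mul_ne_zero (mul_ne_zero ht ht) hv h.symm
  have hv0 : v ≠ 0 := fun h0 => hv (by rw [h0, QuadraticMap.map_zero])
  obtain ⟨g, hg, hgv⟩ := witt_one hQ (smul_ne_zero ht hv0) hw (by rw [Q_smul, h])
  refine ⟨⟨g, hg⟩, Subtype.ext ?_⟩
  show g * refl Q v * g⁻¹ = refl Q w
  rw [← refl_smul Q ht v, refl_conj hg, hgv]

omit [Finite F] in
theorem abelianization_orefl_eq (hQ : Nondeg Q) {v w : V} (hv : Q v ≠ 0) {t : F} (ht : t ≠ 0)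
    (h : Q w = t * t * Q v) :
    Abelianization.of (orefl Q w) = Abelianization.of (orefl Q v) := by
  obtain ⟨g, hg⟩ := orefl_conj_of_eq hQ hv ht h
  rw [← hg, map_mul, map_mul, map_inv, mul_comm (Abelianization.of g), mul_inv_cancel_right]

omit [Finite F] [FiniteDimensional F V] in
theorem abelianization_orefl_sq (v : V) :
    Abelianization.of (orefl Q v) * Abelianization.of (orefl Q v) = 1 := by
  rw [← map_mul, show orefl Q v * orefl Q v = 1 from Subtype.ext (refl_mul_self Q v), map_one]

omit [Finite F] in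
theorem exists_ne01 (h2 : (2 : F) ≠ 0) : ∃ a : F, a ≠ 0 ∧ a ≠ 1 :=
  ⟨-1, neg_ne_zero.2 one_ne_zero, fun h => h2 (by linear_combination -h)⟩

theorem mult_zmod2_cases (z : Multiplicative (ZMod 2)) : z = 1 ∨ z = Multiplicative.ofAdd 1 := by
  revert z; decide

section Odd

variable [Finite V]

/-- The pair (Dickson invariant, sign on a level set). -/
noncomputable def omegaHom (hQ : Nondeg Q) (h2 : (2 : F) ≠ 0) (c : F) :
    orth Q →* Multiplicative (ZMod 2) × ℤˣ :=
  (dicksonHom hQ (Or.inl (exists_ne01 h2))).prod (levelSign Q c)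

theorem omegaHom_surjective (hQ : Nondeg Q) (h2 : (2 : F) ≠ 0) (hn : 2 ≤ finrank F V) {c : F}
    (hc : c ≠ 0) : Function.Surjective (omegaHom hQ h2 c) := by
  obtain ⟨v, w, hv, hw, hne⟩ := exists_separated hQ h2 hn hc
  intro p
  have h1 : ∀ z, Q z ≠ 0 → omegaHom hQ h2 c (orefl Q z) =
      (Multiplicative.ofAdd (1 : ZMod 2), levelSign Q c (orefl Q z)) := fun z hz =>
    Prod.ext (dicksonHom_orefl hQ (Or.inl (exists_ne01 h2)) hz) rfl
  have key : ∀ (x y : ℤˣ), x ≠ y → ∀ p : Multiplicative (ZMod 2) × ℤˣ,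
      p = 1 ∨ p = (Multiplicative.ofAdd 1, x) ∨ p = (Multiplicative.ofAdd 1, y) ∨
        p = (Multiplicative.ofAdd 1, x) * (Multiplicative.ofAdd 1, y) := by
    intro x y hxy p
    obtain ⟨a, b⟩ := p
    rcases Int.units_eq_one_or x with rfl | rfl <;> rcases Int.units_eq_one_or y with rfl | rfl <;>
      rcases Int.units_eq_one_or b with rfl | rfl <;> rcases mult_zmod2_cases a with rfl | rfl <;>
      first
      | exact absurd rfl hxy
      | decide
  rcases key _ _ hne p with h | h | h | h
  · exact ⟨1, by rw [map_one, h]⟩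
  · exact ⟨orefl Q v, by rw [h1 v hv, h]⟩
  · exact ⟨orefl Q w, by rw [h1 w hw, h]⟩
  · exact ⟨orefl Q v * orefl Q w, by rw [map_mul, h1 v hv, h1 w hw, h]⟩

theorem card_abelianization_le (hQ : Nondeg Q) (h2 : (2 : F) ≠ 0) (hn : 2 ≤ finrank F V) :
    Nat.card (Abelianization (orth Q)) ≤ 4 := by
  classical
  obtain ⟨v, hv⟩ := exists_Q_eq hQ hn 1
  obtain ⟨ν, hν⟩ := exists_nonsq h2
  have hν0 : ν ≠ 0 := fun h => hν (h ▸ IsSquare.zero)
  obtain ⟨w, hw⟩ := exists_Q_eq hQ hn ν
  set a := Abelianization.of (orefl Q v)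
  set b := Abelianization.of (orefl Q w)
  have ha : a * a = 1 := abelianization_orefl_sq v
  have hb : b * b = 1 := abelianization_orefl_sq w
  have hsub : ∀ g : orth Q, Abelianization.of g ∈ ({1, a, b, a * b} : Finset (Abelianization (orth Q))) := by
    intro g
    have hg : g ∈ Subgroup.closure (reflSet Q) := by
      rw [closure_reflSet hQ (Or.inl (exists_ne01 h2))]; trivial
    have hm : ∀ x y : Abelianization (orth Q), x ∈ ({1, a, b, a * b} : Finset _) →
        (y = a ∨ y = b) → x * y ∈ ({1, a, b, a * b} : Finset _) := by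
      intro x y hx hy
      simp only [Finset.mem_insert, Finset.mem_singleton] at hx ⊢
      rcases hy with rfl | rfl
      · rcases hx with rfl | rfl | rfl | rfl
        · simp
        · simp [ha]
        · simp [mul_comm b a]
        · rw [mul_comm a b, mul_assoc, ha, mul_one]; simp
      · rcases hx with rfl | rfl | rfl | rfl
        · simp
        · simp
        · simp [hb]
        · rw [mul_assoc, hb, mul_one]; simp
    have hgen : ∀ r ∈ reflSet Q, Abelianization.of r = a ∨ Abelianization.of r = b := by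
      rintro _ ⟨z, hz, rfl⟩
      by_cases hsq : IsSquare (Q z)
      · obtain ⟨t, ht⟩ := hsq
        left
        refine abelianization_orefl_eq hQ (by rw [hv]; exact one_ne_zero) (t := t) ?_ (by rw [hv, ht, mul_one])
        rintro rfl
        exact hz (by rw [ht, mul_zero])
      · right
        have hzν : IsSquare (Q z / ν) := by
          have := Fintype.ofFinite F
          have hchar : ringChar F ≠ 2 := fun h => h2 (by
            have := ringChar.Nat.cast_ringChar (R := F)
            rw [h] at this; exact_mod_cast this)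
          rw [← quadraticChar_one_iff_isSquare (div_ne_zero hz hν0), div_eq_mul_inv, map_mul,
            (quadraticChar_neg_one_iff_not_isSquare).2 hsq,
            (quadraticChar_neg_one_iff_not_isSquare (a := ν⁻¹)).2 (by rwa [isSquare_inv])]
          norm_num
        obtain ⟨t, ht⟩ := hzν
        refine abelianization_orefl_eq hQ (by rw [hw]; exact hν0) (t := t) ?_
          (by rw [hw, ← ht, div_mul_cancel₀ _ hν0])
        rintro rfl
        rw [mul_zero, div_eq_zero_iff] at ht
        exact ht.elim hz hν0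
    induction hg using Subgroup.closure_induction_right with
    | one => simp
    | mul_right x _ y hy ih => rw [map_mul]; exact hm _ _ ih (hgen y hy)
    | mul_inv_cancel x _ y hy ih =>
      rw [map_mul, map_inv]
      refine hm _ _ ih ?_
      rcases hgen y hy with h | h <;> rw [h]
      · exact Or.inl (inv_eq_of_mul_eq_one_left ha)
      · exact Or.inr (inv_eq_of_mul_eq_one_left hb)
  have huniv : ∀ x : Abelianization (orth Q), x ∈ ({1, a, b, a * b} : Finset _) := fun x => by
    obtain ⟨g, rfl⟩ := QuotientGroup.mk_surjective x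
    exact hsub g
  have := Fintype.ofFinite (Abelianization (orth Q))
  rw [Nat.card_eq_fintype_card, ← Finset.card_univ]
  exact (Finset.card_le_card fun x _ => huniv x).trans Finset.card_le_four

theorem ker_omegaHom (hQ : Nondeg Q) (h2 : (2 : F) ≠ 0) (hn : 2 ≤ finrank F V) {c : F}
    (hc : c ≠ 0) : (omegaHom hQ h2 c).ker = commutator (orth Q) := by
  have hle : commutator (orth Q) ≤ (omegaHom hQ h2 c).ker := Abelianization.commutator_subset_ker _
  have h4 : (omegaHom hQ h2 c).ker.index = 4 := by
    rw [Subgroup.index_ker, MonoidHom.range_eq_top.2 (omegaHom_surjective hQ h2 hn hc),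
      Subgroup.card_top, Nat.card_prod]
    simp
  refine (le_antisymm hle ?_).symm
  have hci : (commutator (orth Q)).index ≤ 4 := by
    rw [Subgroup.index_eq_card]; exact card_abelianization_le hQ h2 hn
  have hmul := Subgroup.relIndex_mul_index hle
  rw [h4] at hmul
  have hpos : (commutator (orth Q)).index ≠ 0 := Subgroup.index_ne_zero_of_finite
  rw [← hmul] at hci hpos
  have : (commutator (orth Q)).relIndex (omegaHom hQ h2 c).ker = 1 := by
    rcases Nat.lt_or_ge ((commutator (orth Q)).relIndex (omegaHom hQ h2 c).ker) 2 with h | h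
    · rcases Nat.eq_zero_or_pos ((commutator (orth Q)).relIndex (omegaHom hQ h2 c).ker) with h0 | h0
      · exact absurd (by rw [h0, zero_mul]) hpos
      · omega
    · omega
  exact Subgroup.relIndex_eq_one.1 this

theorem index_commutator_odd (hQ : Nondeg Q) (h2 : (2 : F) ≠ 0) (hn : 2 ≤ finrank F V) :
    (commutator (orth Q)).index = 4 := by
  rw [← ker_omegaHom hQ h2 hn one_ne_zero, Subgroup.index_ker,
    MonoidHom.range_eq_top.2 (omegaHom_surjective hQ h2 hn one_ne_zero), Subgroup.card_top,
    Nat.card_prod]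
  simp

theorem mem_commutator_iff_odd (hQ : Nondeg Q) (h2 : (2 : F) ≠ 0) (hn : 2 ≤ finrank F V) {c : F}
    (hc : c ≠ 0) (g : orth Q) :
    g ∈ commutator (orth Q) ↔ dickson Q g = 0 ∧ levelSign Q c g = 1 := by
  rw [← ker_omegaHom hQ h2 hn hc, MonoidHom.mem_ker, Prod.ext_iff]
  exact Iff.rfl

end Odd

/-- Index two in characteristic two. -/
theorem index_commutator_two (hQ : Nondeg Q) (h2 : (2 : F) = 0) (hn : 2 ≤ finrank F V)
    (h : (∃ a : F, a ≠ 0 ∧ a ≠ 1) ∨ finrank F V ≠ 4) : (commutator (orth Q)).index = 2 := by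
  classical
  have := Module.finite_of_finite F (M := V)
  obtain ⟨v, hv⟩ := exists_Q_eq hQ hn 1
  have hsurj : Function.Surjective (dicksonHom hQ h) := fun p => by
    rcases mult_zmod2_cases p with rfl | rfl
    · exact ⟨1, map_one _⟩
    · exact ⟨orefl Q v, dicksonHom_orefl hQ h (by rw [hv]; exact one_ne_zero)⟩
  have hcard : Nat.card (Abelianization (orth Q)) ≤ 2 := by
    set a := Abelianization.of (orefl Q v)
    have ha : a * a = 1 := abelianization_orefl_sq v
    have hgen : ∀ r ∈ reflSet Q, Abelianization.of r = a := by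
      rintro _ ⟨z, hz, rfl⟩
      obtain ⟨t, ht⟩ := exists_sqrt h2 (Q z)
      refine abelianization_orefl_eq hQ (by rw [hv]; exact one_ne_zero) (t := t) ?_
        (by rw [hv, ht, mul_one])
      rintro rfl
      exact hz (by rw [← ht, mul_zero])
    have hall : ∀ x : Abelianization (orth Q), x = 1 ∨ x = a := fun x => by
      obtain ⟨g, rfl⟩ := QuotientGroup.mk_surjective x
      show Abelianization.of g = 1 ∨ Abelianization.of g = a
      have hg : g ∈ Subgroup.closure (reflSet Q) := by rw [closure_reflSet hQ h]; trivial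
      induction hg using Subgroup.closure_induction with
      | mem r hr => exact Or.inr (hgen r hr)
      | one => exact Or.inl (map_one _)
      | mul x y _ _ hx hy =>
        rcases hx with hx | hx <;> rcases hy with hy | hy <;> simp [hx, hy, ha]
      | inv x _ hx =>
        rcases hx with hx | hx
        · simp [hx]
        · simp [hx, inv_eq_of_mul_eq_one_left ha]
    have := Fintype.ofFinite (Abelianization (orth Q))
    rw [Nat.card_eq_fintype_card, ← Finset.card_univ]
    refine (Finset.card_le_card (t := {1, a}) fun x _ => ?_).trans Finset.card_le_two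
    simpa using hall x
  have hk : (dicksonHom hQ h).ker.index = 2 := by
    rw [Subgroup.index_ker, MonoidHom.range_eq_top.2 hsurj, Subgroup.card_top]
    simp
  have hdvd := Subgroup.index_dvd_of_le (Abelianization.commutator_subset_ker (dicksonHom hQ h))
  rw [hk] at hdvd
  refine le_antisymm (by rw [Subgroup.index_eq_card]; exact hcard)
    (Nat.le_of_dvd (Nat.pos_of_ne_zero Subgroup.index_ne_zero_of_finite) hdvd)

end Cfsg.Agent.Lib.Forms
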