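/-
Transfer of the abstract results on orthogonal groups to `Cfsg.isometryGroup`,
`Cfsg.specialIsometryGroup`, `Cfsg.Omega` and the explicit forms of `Def_Classical`.
-/
import Cfsg.Agent.Lib.Forms.Omega

set_option autoImplicit false

namespace Cfsg.Agent.Lib.Forms

open Module QuadraticMap
open scoped commutatorElement

variable {F : Type*} [Field F] {ι : Type} [Fintype ι] [DecidableEq ι]

theorem map_commutator_equiv {G H : Type*} [Group G] [Group H] (e : G ≃* H) :
    (commutator G).map e.toMonoidHom = commutator H := by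
  simp only [commutator_def, Subgroup.map_commutator]
  rw [Subgroup.map_top_of_surjective e.toMonoidHom e.surjective]

theorem index_commutator_equiv {G H : Type*} [Group G] [Group H] (e : G ≃* H) :
    (commutator G).index = (commutator H).index := by
  rw [← map_commutator_equiv e]
  exact (Subgroup.index_map_equiv _ e).symm

theorem mem_commutator_equiv {G H : Type*} [Group G] [Group H] (e : G ≃* H) (g : G) :
    g ∈ commutator G ↔ e g ∈ commutator H := by
  rw [← map_commutator_equiv e, Subgroup.mem_map_equiv, MulEquiv.symm_apply_apply]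

variable (Q : QuadraticForm F (ι → F))

/-- The identification used throughout. -/
noncomputable abbrev toOrth : Cfsg.isometryGroup F (⇑Q) ≃* orth Q := isoOrth Q fun _ => rfl

/-- The reflection as an element of `Cfsg.isometryGroup`. -/
noncomputable def irefl (v : ι → F) : Cfsg.isometryGroup F (⇑Q) := (toOrth Q).symm (orefl Q v)

theorem toOrth_irefl (v : ι → F) : toOrth Q (irefl Q v) = orefl Q v :=
  MulEquiv.apply_symm_apply _ _

theorem irefl_coe (v : ι → F) :
    ((irefl Q v : Matrix.GeneralLinearGroup ι F) : Matrix ι ι F) = Cfsg.reflectionMatrix (⇑Q) v :=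
  (coe_eq_reflectionMatrix_iff Q _ v).2 (toOrth_irefl Q v)

theorem eq_irefl {g : Cfsg.isometryGroup F (⇑Q)} {v : ι → F}
    (h : ((g : Matrix.GeneralLinearGroup ι F) : Matrix ι ι F) = Cfsg.reflectionMatrix (⇑Q) v) :
    g = irefl Q v :=
  (toOrth Q).injective (((coe_eq_reflectionMatrix_iff Q g v).1 h).trans (toOrth_irefl Q v).symm)

theorem irefl_mul_self (v : ι → F) : irefl Q v * irefl Q v = 1 := by
  apply (toOrth Q).injective
  rw [map_mul, toOrth_irefl, map_one]
  exact Subtype.ext (refl_mul_self Q v)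

theorem irefl_inv (v : ι → F) : (irefl Q v)⁻¹ = irefl Q v :=
  inv_eq_of_mul_eq_one_left (irefl_mul_self Q v)

/-- Reflections in non-singular vectors. -/
def ireflSet : Set (Cfsg.isometryGroup F (⇑Q)) := {g | ∃ v, Q v ≠ 0 ∧ g = irefl Q v}

variable {Q}

theorem closure_ireflSet (hQ : Nondeg Q)
    (h : (∃ a : F, a ≠ 0 ∧ a ≠ 1) ∨ finrank F (ι → F) ≠ 4) :
    Subgroup.closure (ireflSet Q) = ⊤ := by
  rw [eq_top_iff]
  intro g _
  have hg : toOrth Q g ∈ Subgroup.closure (reflSet Q) := by rw [closure_reflSet hQ h]; trivial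
  have := Subgroup.mem_map_of_mem (toOrth Q).symm.toMonoidHom hg
  rw [MonoidHom.map_closure, MulEquiv.coe_toMonoidHom, MulEquiv.symm_apply_apply] at this
  refine Subgroup.closure_mono ?_ this
  rintro _ ⟨r, ⟨v, hv, rfl⟩, rfl⟩
  exact ⟨v, hv, rfl⟩

/-- The sign `(-1)^z`. -/
def negOnePow (F : Type*) [Field F] : Multiplicative (ZMod 2) →* Fˣ where
  toFun z := if z = 1 then 1 else -1
  map_one' := if_pos rfl
  map_mul' x y := by
    rcases mult_zmod2_cases x with rfl | rfl
    · simp
    · rcases mult_zmod2_cases y with rfl | rfl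
      · simp
      · rw [if_pos (by decide), if_neg (by decide)]; simp

theorem det_irefl {v : ι → F} (hv : Q v ≠ 0) :
    Matrix.GeneralLinearGroup.det (irefl Q v : Matrix.GeneralLinearGroup ι F) = -1 := by
  apply Units.ext
  rw [Matrix.GeneralLinearGroup.val_det_apply, irefl_coe, det_reflectionMatrix Q hv]
  rfl

theorem det_eq_negOnePow (hQ : Nondeg Q)
    (h : (∃ a : F, a ≠ 0 ∧ a ≠ 1) ∨ finrank F (ι → F) ≠ 4) (g : Cfsg.isometryGroup F (⇑Q)) :
    Matrix.GeneralLinearGroup.det (g : Matrix.GeneralLinearGroup ι F) =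
      negOnePow F (dicksonHom hQ h (toOrth Q g)) := by
  have : (Matrix.GeneralLinearGroup.det.comp (Cfsg.isometryGroup F (⇑Q)).subtype) =
      (negOnePow F).comp ((dicksonHom hQ h).comp (toOrth Q).toMonoidHom) := by
    refine MonoidHom.eq_of_eqOn_dense (closure_ireflSet hQ h) ?_
    rintro _ ⟨v, hv, rfl⟩
    show Matrix.GeneralLinearGroup.det (irefl Q v : Matrix.GeneralLinearGroup ι F) =
      negOnePow F (dicksonHom hQ h (toOrth Q (irefl Q v)))
    rw [det_irefl hv, toOrth_irefl, dicksonHom_orefl hQ h hv]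
    show (-1 : Fˣ) = if Multiplicative.ofAdd (1 : ZMod 2) = 1 then (1 : Fˣ) else -1
    rw [if_neg (by decide)]
  exact DFunLike.congr_fun this g

theorem mem_special_iff_dickson (hQ : Nondeg Q) (h2 : (2 : F) ≠ 0)
    (g : Cfsg.isometryGroup F (⇑Q)) :
    g ∈ Cfsg.specialIsometryGroup F (⇑Q) ↔ dickson Q (toOrth Q g) = 0 := by
  have hne : (-1 : Fˣ) ≠ 1 := fun h => h2 (by
    have := congrArg Units.val h
    simp only [Units.val_neg, Units.val_one] at this
    linear_combination -this)
  show Matrix.GeneralLinearGroup.det (g : Matrix.GeneralLinearGroup ι F) = 1 ↔ _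
  rw [det_eq_negOnePow hQ (Or.inl (exists_ne01 h2)) g]
  show (if Multiplicative.ofAdd (dickson Q (toOrth Q g)) = 1 then (1 : Fˣ) else -1) = 1 ↔ _
  split_ifs with hd
  · exact iff_of_true rfl (ofAdd_eq_one.1 hd)
  · exact iff_of_false hne fun h => hd (ofAdd_eq_one.2 h)

theorem irefl_mul_irefl_mem_special {u v : ι → F} (hu : Q u ≠ 0) (hv : Q v ≠ 0) :
    irefl Q u * irefl Q v ∈ Cfsg.specialIsometryGroup F (⇑Q) := by
  show Matrix.GeneralLinearGroup.det ((irefl Q u * irefl Q v : Cfsg.isometryGroup F (⇑Q)) :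
    Matrix.GeneralLinearGroup ι F) = 1
  rw [Subgroup.coe_mul, map_mul, det_irefl hu, det_irefl hv]
  simp

theorem special_eq_top_of_char_two (hQ : Nondeg Q) (h2 : (2 : F) = 0)
    (h : (∃ a : F, a ≠ 0 ∧ a ≠ 1) ∨ finrank F (ι → F) ≠ 4) :
    Cfsg.specialIsometryGroup F (⇑Q) = ⊤ := by
  refine eq_top_iff.2 fun g _ => ?_
  show Matrix.GeneralLinearGroup.det (g : Matrix.GeneralLinearGroup ι F) = 1
  rw [det_eq_negOnePow hQ h g]
  rcases mult_zmod2_cases (dicksonHom hQ h (toOrth Q g)) with e | e <;> rw [e]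
  · exact map_one _
  · have : (-1 : Fˣ) = 1 := Units.ext (by
      rw [Units.val_neg, Units.val_one]; linear_combination -h2)
    show (if Multiplicative.ofAdd (1 : ZMod 2) = 1 then (1 : Fˣ) else -1) = 1
    rw [this, ite_self]

theorem finite_index_Omega [Finite F] (hQ : Nondeg Q) (h2 : (2 : F) ≠ 0)
    (hn : 2 ≤ finrank F (ι → F)) : (Cfsg.Omega F (⇑Q)).index = 4 :=
  (index_commutator_equiv (toOrth Q)).trans (index_commutator_odd hQ h2 hn)

theorem index_Omega_two [Finite F] (hQ : Nondeg Q) (h2 : (2 : F) = 0)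
    (hn : 2 ≤ finrank F (ι → F)) (h : (∃ a : F, a ≠ 0 ∧ a ≠ 1) ∨ finrank F (ι → F) ≠ 4) :
    (Cfsg.Omega F (⇑Q)).index = 2 :=
  (index_commutator_equiv (toOrth Q)).trans (index_commutator_two hQ h2 hn h)

theorem Omega_le_special (Q : QuadraticForm F (ι → F)) :
    Cfsg.Omega F (⇑Q) ≤ Cfsg.specialIsometryGroup F (⇑Q) :=
  Abelianization.commutator_subset_ker _

theorem exists_ne01_or {F : Type*} [Field F] [Fintype F] {n : ℕ}
    (h : Fintype.card F ≠ 2 ∨ n ≠ 4) :
    (∃ a : F, a ≠ 0 ∧ a ≠ 1) ∨ finrank F (Fin n → F) ≠ 4 := by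
  rcases h with h | h
  · refine Or.inl ?_
    classical
    by_contra hc
    push Not at hc
    apply h
    have : (Finset.univ : Finset F) = {0, 1} := by
      ext a
      by_cases ha : a = 0
      · simp [ha]
      · simp [hc a ha]
    rw [Fintype.card, this]
    simp
  · exact Or.inr (by simpa using h)

theorem special_index_two_unique (hQ : Nondeg Q)
    (h : (∃ a : F, a ≠ 0 ∧ a ≠ 1) ∨ finrank F (ι → F) ≠ 4)
    (H : Subgroup (Cfsg.specialIsometryGroup F (⇑Q))) (hH : H.index = 2) :
    (Cfsg.Omega F (⇑Q)).subgroupOf (Cfsg.specialIsometryGroup F (⇑Q)) ≤ H := by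
  have hSn : (Cfsg.specialIsometryGroup F (⇑Q)).Normal := MonoidHom.normal_ker _
  let sq : Set (Cfsg.isometryGroup F (⇑Q)) := {x | ∃ s ∈ Cfsg.specialIsometryGroup F (⇑Q), x = s * s}
  let K := Subgroup.closure sq
  have hKn : K.Normal := by
    refine ⟨fun n hn g => ?_⟩
    have hsub : K.map (MulAut.conj g).toMonoidHom ≤ K := by
      rw [MonoidHom.map_closure]
      refine Subgroup.closure_mono ?_
      rintro _ ⟨_, ⟨s, hs, rfl⟩, rfl⟩
      refine ⟨g * s * g⁻¹, Subgroup.Normal.conj_mem hSn s hs g, ?_⟩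
      simp [mul_assoc]
    exact hsub (Subgroup.mem_map_of_mem _ hn)
  have hKH : K ≤ H.map (Cfsg.specialIsometryGroup F (⇑Q)).subtype := by
    refine (Subgroup.closure_le _).2 ?_
    rintro _ ⟨s, hs, rfl⟩
    exact ⟨⟨s, hs⟩ * ⟨s, hs⟩, Subgroup.mul_self_mem_of_index_two hH _, rfl⟩
  have hcomm : commutator (Cfsg.isometryGroup F (⇑Q)) ≤ K := by
    have hgen : ∀ a ∈ ireflSet Q, ∀ b ∈ ireflSet Q,
        (QuotientGroup.mk' K) a * (QuotientGroup.mk' K) b =
          (QuotientGroup.mk' K) b * (QuotientGroup.mk' K) a := by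
      rintro _ ⟨u, hu, rfl⟩ _ ⟨v, hv, rfl⟩
      rw [← map_mul, ← map_mul]
      refine (QuotientGroup.eq_iff_div_mem (N := K)).2 ?_
      refine Subgroup.subset_closure ⟨irefl Q u * irefl Q v, irefl_mul_irefl_mem_special hu hv, ?_⟩
      rw [div_eq_mul_inv, mul_inv_rev, irefl_inv, irefl_inv]
    have hall : ∀ x y : Cfsg.isometryGroup F (⇑Q),
        (QuotientGroup.mk' K) x * (QuotientGroup.mk' K) y =
          (QuotientGroup.mk' K) y * (QuotientGroup.mk' K) x := by
      have h1 : ∀ y, ∀ a ∈ ireflSet Q, Commute ((QuotientGroup.mk' K) a) ((QuotientGroup.mk' K) y) := by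
        intro y a ha
        have hy : y ∈ Subgroup.closure (ireflSet Q) := by rw [closure_ireflSet hQ h]; trivial
        induction hy using Subgroup.closure_induction with
        | mem b hb => exact hgen a ha b hb
        | one => rw [map_one]; exact Commute.one_right _
        | mul b c _ _ hb hc => rw [map_mul]; exact hb.mul_right hc
        | inv b _ hb => rw [map_inv]; exact hb.inv_right
      intro x y
      have hx : x ∈ Subgroup.closure (ireflSet Q) := by rw [closure_ireflSet hQ h]; trivial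
      show Commute _ _
      induction hx using Subgroup.closure_induction with
      | mem a ha => exact h1 y a ha
      | one => rw [map_one]; exact Commute.one_left _
      | mul b c _ _ hb hc => rw [map_mul]; exact hb.mul_left hc
      | inv b _ hb => rw [map_inv]; exact hb.inv_left
    rw [commutator_def, Subgroup.commutator_le]
    intro x _ y _
    rw [← QuotientGroup.eq_one_iff]
    show (QuotientGroup.mk' K) ⁅x, y⁆ = 1
    rw [map_commutatorElement]
    exact commutatorElement_eq_one_iff_commute.2 (hall x y)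
  intro x hx
  obtain ⟨y, hy, hyx⟩ := hKH (hcomm hx)
  rwa [← Subtype.ext (a1 := y) (a2 := x) hyx]

/-! ### Explicit forms -/

/-- `quadFormMinus` as a quadratic form. -/
def qMinus (m : ℕ) (a b : F) : QuadraticForm F ((Fin m ⊕ Fin m) ⊕ Fin 2 → F) :=
  ((qPlus m).prod (qBin a b)).comp
    (LinearEquiv.sumArrowLequivProdArrow (Fin m ⊕ Fin m) (Fin 2) F F).toLinearMap

theorem qMinus_apply (m : ℕ) (a b : F) (v : (Fin m ⊕ Fin m) ⊕ Fin 2 → F) :
    qMinus m a b v = Cfsg.quadFormMinus m F a b v := by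
  simp [qMinus, Cfsg.quadFormMinus, qPlus_apply, qBin_apply]

theorem qMinus_equiv (m : ℕ) (a b : F) :
    (qMinus m a b).Equivalent ((qPlus m).prod (qBin a b)) :=
  ⟨{ LinearEquiv.sumArrowLequivProdArrow (Fin m ⊕ Fin m) (Fin 2) F F with
      map_app' := fun _ => rfl }⟩

theorem qPlus_eq (m : ℕ) (v : Fin m ⊕ Fin m → F) : Cfsg.quadFormPlus m F v = qPlus m v :=
  (qPlus_apply m v).symm

theorem qPlus_equiv_prod (m : ℕ) :
    (qPlus (F := F) m).Equivalent ((qPlus m).prod (0 : QuadraticForm F (Fin 0 → F))) :=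
  ⟨{ toFun := fun v => (v, 0)
     map_add' := fun x y => by simp
     map_smul' := fun a x => by simp
     invFun := fun p => p.1
     left_inv := fun v => rfl
     right_inv := fun p => Prod.ext rfl (Subsingleton.elim _ _)
     map_app' := fun v => by simp }⟩

theorem levelCard_qPlus [Finite F] (m : ℕ) {c : F} (hc : c ≠ 0) :
    levelCard (qPlus (F := F) m) c = (Nat.card F ^ m - 1) * Nat.card F ^ (m - 1) := by
  rw [levelCard, card_level_congr (qPlus_equiv_prod m)]
  show levelCard _ c = _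
  rw [levelCard_plus_prod, show levelCard (0 : QuadraticForm F (Fin 0 → F)) c = 0 from
    Nat.card_eq_zero.2 (Or.inl ⟨fun x => hc (by simpa using x.2.symm)⟩)]
  simp

theorem levelCard_qMinus [Finite F] (k : ℕ) {a b c : F}
    (hab : ∀ z₁ z₂ : F, z₁ ^ 2 + a * z₁ * z₂ + b * z₂ ^ 2 = 0 → z₁ = 0 ∧ z₂ = 0) (hc : c ≠ 0) :
    levelCard (qMinus k a b) c = (Nat.card F ^ (k + 1) + 1) * Nat.card F ^ k := by
  rw [levelCard, card_level_congr (qMinus_equiv k a b)]
  show levelCard _ c = _
  rw [levelCard_plus_prod, levelCard_qBin hab hc, Module.finrank_fintype_fun_eq_card,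
    Fintype.card_fin, show k + 2 - 1 = k + 1 by omega]
  have : 1 ≤ Nat.card F ^ k := Nat.one_le_pow _ _ Nat.card_pos
  zify [this]
  ring

/-- When `-1` lies in the commutator subgroup. -/
theorem neg_one_mem_commutator_iff [Finite F] {V : Type*} [AddCommGroup V] [Module F V]
    [FiniteDimensional F V] [Finite V] {Q : QuadraticForm F V} (hQ : Nondeg Q) (h2 : (2 : F) ≠ 0)
    (hn : 2 ≤ finrank F V) (he : Even (finrank F V)) {c : F} (hc : c ≠ 0) :
    (∃ g ∈ commutator (orth Q), ∀ x, g.1 x = -x) ↔ Even (levelCard Q c / 2) := by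
  classical
  let g : orth Q := ⟨LinearEquiv.neg F, fun v => by simp⟩
  have hg : ∀ x, g.1 x = -x := fun x => rfl
  have hsame : ∀ g' : orth Q, (∀ x, g'.1 x = -x) → g' = g := fun g' h =>
    Subtype.ext (LinearEquiv.ext fun x => (h x).trans (hg x).symm)
  have hd : dickson Q g = 0 := by
    have hfix : fixSpace g.1 = ⊥ := by
      rw [Submodule.eq_bot_iff]
      intro x hx
      rw [mem_fixSpace, hg] at hx
      have : (2 : F) • x = 0 := by
        rw [two_smul]; nth_rw 1 [← hx]; exact neg_add_cancel x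
      exact (smul_eq_zero.1 this).resolve_left h2
    have := finrank_range_dev g.1
    rw [hfix, finrank_bot, add_zero] at this
    rw [dickson, this]
    exact (ZMod.natCast_eq_zero_iff_even).2 he
  have hsign : levelSign Q c g = (-1) ^ (levelCard Q c / 2) := by
    have := Fintype.ofFinite {x // Q x = c}
    set σ := levelPerm Q c g with hσ
    have hinv : σ * σ = 1 := by
      rw [hσ, ← map_mul, show g * g = 1 from Subtype.ext (LinearEquiv.ext fun x => by
        show g.1 (g.1 x) = x
        rw [hg, hg, neg_neg]), map_one]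
    obtain ⟨-, hs⟩ := sign_involution σ hinv
    have hall : Nat.card {x // σ x ≠ x} = levelCard Q c := by
      refine Nat.card_congr (Equiv.subtypeUnivEquiv fun x hx => ?_)
      have hx' : g.1 (x : V) = x := congrArg Subtype.val hx
      rw [hg] at hx'
      have : (2 : F) • (x : V) = 0 := by
        rw [two_smul]; nth_rw 1 [← hx']; exact neg_add_cancel _
      have hx0 := (smul_eq_zero.1 this).resolve_left h2
      have hQx := x.2
      rw [hx0, QuadraticMap.map_zero] at hQx
      exact hc hQx.symm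
    rw [hall] at hs
    rw [← hs]
    unfold levelSign
    simp only [MonoidHom.comp_apply, ← hσ]
    congr!
  constructor
  · rintro ⟨g', hg', hneg⟩
    rw [hsame g' hneg, mem_commutator_iff_odd hQ h2 hn hc, hsign] at hg'
    rcases Nat.even_or_odd (levelCard Q c / 2) with he' | ho
    · exact he'
    · have := hg'.2
      rw [ho.neg_one_pow] at this
      exact absurd this (by decide)
  · intro he'
    exact ⟨g, (mem_commutator_iff_odd hQ h2 hn hc g).2 ⟨hd, by rw [hsign, he'.neg_one_pow]⟩, hg⟩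

theorem exists_neg_one_Omega_iff [Finite F] {f : (ι → F) → F} {Q : QuadraticForm F (ι → F)}
    (hf : ∀ v, f v = Q v) :
    (∃ g : Cfsg.isometryGroup F f, g ∈ Cfsg.Omega F f ∧
      ((g : Matrix.GeneralLinearGroup ι F) : Matrix ι ι F) = -1) ↔
    ∃ g ∈ commutator (orth Q), ∀ x, g.1 x = -x := by
  constructor
  · rintro ⟨g, hg, hm⟩
    exact ⟨isoOrth Q hf g, (mem_commutator_equiv _ g).1 hg, fun x => by
      rw [isoOrth_apply, hm, Matrix.neg_mulVec, Matrix.one_mulVec]⟩
  · rintro ⟨g, hg, hn⟩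
    refine ⟨(isoOrth Q hf).symm g, ?_, ?_⟩
    · exact (mem_commutator_equiv (isoOrth Q hf) _).2 (by rwa [MulEquiv.apply_symm_apply])
    · apply Matrix.ext_of_mulVec_single
      intro i
      rw [← isoOrth_apply Q hf, MulEquiv.apply_symm_apply, hn, Matrix.neg_mulVec, Matrix.one_mulVec]

theorem qMinus_nondeg [Finite F] (k : ℕ) {a b : F}
    (hab : ∀ z₁ z₂ : F, z₁ ^ 2 + a * z₁ * z₂ + b * z₂ ^ 2 = 0 → z₁ = 0 ∧ z₂ = 0) :
    Nondeg (qMinus k a b) := by
  obtain ⟨e⟩ := qMinus_equiv k a b
  exact (prod_nondeg (qPlus_nondeg k) (qBin_nondeg hab)).of_equiv e.symm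

end Cfsg.Agent.Lib.Forms
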