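/-
Stabilisers of subspaces in the symplectic matrix group: criteria in block form, counting of
symmetric matrices.
-/
import Cfsg.Prelude.Def_ClassicalGeometry

set_option autoImplicit false

namespace Cfsg.Agent.Lib.Forms.SpParabolic

open Matrix

section general

variable {F : Type*} [Field F] {ι : Type} [Fintype ι] [DecidableEq ι] {H : Type*} [Group H]

/-- A group element mapping a subspace into itself stabilises it. -/
theorem mem_stabilizing_of_map (toMat : H →* Matrix ι ι F) (W : Submodule F (ι → F)) (h : H)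
    (hh : ∀ v ∈ W, toMat h *ᵥ v ∈ W) : h ∈ Cfsg.stabilizing toMat (W : Set (ι → F)) := by
  have hinj : Function.Injective (fun v => toMat h *ᵥ v) := by
    intro v w e
    have := congrArg (fun x => toMat h⁻¹ *ᵥ x) e
    simpa [Matrix.mulVec_mulVec, ← map_mul] using this
  let L : W →ₗ[F] W := (toMat h).mulVecLin.restrict (fun v hv => hh v hv)
  have hL : Function.Injective L := fun v w e => Subtype.ext (hinj (congrArg Subtype.val e))
  intro v
  refine ⟨hh v, fun hv => ?_⟩
  obtain ⟨w, hw⟩ := (LinearMap.injective_iff_surjective.1 hL) ⟨_, hv⟩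
  have : (w : ι → F) = v := hinj (congrArg Subtype.val hw)
  rw [← this]; exact w.2

/-- Vectors vanishing at the coordinates satisfying `p`. -/
def zeroOn (p : ι → Prop) : Submodule F (ι → F) where
  carrier := {v | ∀ i, p i → v i = 0}
  add_mem' ha hb i hi := by simp [ha i hi, hb i hi]
  zero_mem' i _ := rfl
  smul_mem' c v hv i hi := by simp [hv i hi]

theorem mem_stab_zeroOn (toMat : H →* Matrix ι ι F) (p : ι → Prop) (h : H) :
    h ∈ Cfsg.stabilizing toMat ((zeroOn p : Submodule F (ι → F)) : Set (ι → F)) ↔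
      ∀ i j, p i → ¬ p j → toMat h i j = 0 := by
  constructor
  · intro hh i j hi hj
    have hs : (Pi.single j (1 : F) : ι → F) ∈ zeroOn p := fun k hk => by
      rw [Pi.single_eq_of_ne]; rintro rfl; exact hj hk
    have := (hh _).1 hs i hi
    simpa using this
  · intro hh
    refine mem_stabilizing_of_map toMat _ h fun v hv i hi => ?_
    show ∑ j, toMat h i j * v j = 0
    refine Finset.sum_eq_zero fun j _ => ?_
    by_cases hj : p j
    · rw [hv j hj, mul_zero]
    · rw [hh i j hi hj, zero_mul]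

end general

variable {R : Type*} [CommRing R] {m : ℕ}

theorem fromBlocks_mem_sp_iff (a b d : Matrix (Fin m) (Fin m) R) :
    fromBlocks a b 0 d ∈ symplecticGroup (Fin m) R ↔ aᵀ * d = 1 ∧ dᵀ * b = bᵀ * d := by
  rw [SymplecticGroup.mem_iff']
  simp only [Matrix.J, fromBlocks_transpose, fromBlocks_multiply, fromBlocks_inj, transpose_zero,
    Matrix.mul_zero, Matrix.zero_mul, Matrix.mul_one, Matrix.mul_neg, Matrix.neg_mul, add_zero,
    zero_add, true_and, neg_inj]
  constructor
  · rintro ⟨h1, -, h3⟩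
    exact ⟨h1, eq_of_sub_eq_zero (by rw [sub_eq_add_neg]; exact h3)⟩
  · rintro ⟨h1, h2⟩
    refine ⟨h1, ?_, ?_⟩
    · rw [← transpose_transpose (dᵀ * a), transpose_mul, transpose_transpose, h1, transpose_one]
    · rw [h2]; abel

/-- Symmetric matrices are functions on unordered pairs. -/
def symmEquiv : {S : Matrix (Fin m) (Fin m) R // Sᵀ = S} ≃ (Sym2 (Fin m) → R) where
  toFun S := Sym2.lift ⟨fun i j => S.1 i j, fun i j => congrFun (congrFun S.2 j) i⟩
  invFun f := ⟨Matrix.of fun i j => f s(i, j), Matrix.ext fun i j => congrArg f Sym2.eq_swap⟩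
  left_inv S := Subtype.ext (Matrix.ext fun i j => rfl)
  right_inv f := by
    funext z
    induction z using Sym2.ind with
    | h i j => rfl

omit [CommRing R] in
theorem card_symm [Fintype R] :
    Nat.card {S : Matrix (Fin m) (Fin m) R // Sᵀ = S} = Fintype.card R ^ ((m + 1).choose 2) := by
  rw [Nat.card_congr symmEquiv, Nat.card_eq_fintype_card, Fintype.card_fun, Sym2.card,
    Fintype.card_fin]

/-- The block upper triangular symplectic matrix attached to `a` and a symmetric `S`. -/
noncomputable def mkSp (a : GL (Fin m) R) (S : {S : Matrix (Fin m) (Fin m) R // Sᵀ = S}) :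
    Matrix.symplecticGroup (Fin m) R :=
  ⟨fromBlocks (a : Matrix (Fin m) (Fin m) R) ((a : Matrix (Fin m) (Fin m) R) * S.1) 0
      (((a⁻¹ : GL (Fin m) R) : Matrix (Fin m) (Fin m) R))ᵀ, by
    rw [fromBlocks_mem_sp_iff]
    constructor
    · rw [← transpose_mul, Units.inv_mul, transpose_one]
    · rw [transpose_transpose, ← Matrix.mul_assoc, Units.inv_mul, Matrix.one_mul, transpose_mul,
        Matrix.mul_assoc, ← transpose_mul, Units.inv_mul, transpose_one, Matrix.mul_one, S.2]⟩

theorem mkSp_injective : Function.Injective (fun p : GL (Fin m) R ×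
    {S : Matrix (Fin m) (Fin m) R // Sᵀ = S} => mkSp p.1 p.2) := by
  rintro ⟨a, S⟩ ⟨a', S'⟩ h
  obtain ⟨h1, h2, -, -⟩ := fromBlocks_inj.1 (congrArg Subtype.val h)
  obtain rfl : a = a' := Units.ext h1
  have := congrArg (fun M => ((a⁻¹ : GL (Fin m) R) : Matrix (Fin m) (Fin m) R) * M) h2
  simp only [← Matrix.mul_assoc, Units.inv_mul, Matrix.one_mul] at this
  exact Prod.ext rfl (Subtype.ext this)

/-- A symplectic matrix with vanishing lower left block is `mkSp a S`. -/
theorem exists_mkSp (g : Matrix.symplecticGroup (Fin m) R)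
    (h : (g : Matrix (Fin m ⊕ Fin m) (Fin m ⊕ Fin m) R).toBlocks₂₁ = 0) :
    ∃ a S, mkSp a S = g ∧
      (a : Matrix (Fin m) (Fin m) R) = (g : Matrix (Fin m ⊕ Fin m) (Fin m ⊕ Fin m) R).toBlocks₁₁ := by
  obtain ⟨M, hM⟩ := g
  obtain ⟨a, b, c, d, rfl⟩ : ∃ a b c d, M = fromBlocks a b c d :=
    ⟨_, _, _, _, (fromBlocks_toBlocks M).symm⟩
  simp only [toBlocks_fromBlocks₂₁] at h
  subst h
  obtain ⟨h1, h2⟩ := (fromBlocks_mem_sp_iff a b d).1 hM
  have h1' : dᵀ * a = 1 := by
    rw [← transpose_transpose (dᵀ * a), transpose_mul, transpose_transpose, h1, transpose_one]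
  let A : GL (Fin m) R := ⟨a, dᵀ, mul_eq_one_comm.1 h1', h1'⟩
  refine ⟨A, ⟨dᵀ * b, by rw [transpose_mul, transpose_transpose]; exact h2.symm⟩,
    Subtype.ext ?_, by simp [A]⟩
  show fromBlocks a (a * (dᵀ * b)) 0 dᵀᵀ = _
  rw [← Matrix.mul_assoc, mul_eq_one_comm.1 h1', Matrix.one_mul, transpose_transpose]

end Cfsg.Agent.Lib.Forms.SpParabolic
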