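/-
Stabilisers of totally isotropic subspaces in the unitary groups: orbit counting on isotropic
tuples, and surjectivity of the determinant on the stabiliser.
-/
import Cfsg.Agent.Lib.Forms.Witt
import Cfsg.Agent.Lib.Forms.SpParabolic
import Cfsg.Agent.Lib.Unitary.Order
import Cfsg.Agent.Lib.Unitary.Witt

set_option autoImplicit false
set_option linter.unusedSectionVars false

namespace Cfsg.Agent.Lib.Forms.SUStab

open Module Matrix Cfsg.Agent.Lib.Unitary

/-- Orbit-stabiliser for a subgroup containing a point stabiliser. -/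
theorem card_mul_orbit {G X : Type*} [Group G] [MulAction G X] (H : Subgroup G) (b : X)
    (hb : MulAction.stabilizer G b ≤ H) :
    Nat.card H * (MulAction.orbit G b).ncard = Nat.card G * (MulAction.orbit H b).ncard := by
  let f : MulAction.stabilizer H b ≃ MulAction.stabilizer G b :=
    { toFun := fun g => ⟨g.1.1, g.2⟩
      invFun := fun g => ⟨⟨g.1, hb g.2⟩, g.2⟩
      left_inv := fun g => rfl
      right_inv := fun g => rfl }
  rw [← MulAction.index_stabilizer, ← MulAction.index_stabilizer,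
    ← Subgroup.index_mul_card (MulAction.stabilizer G b),
    ← Subgroup.index_mul_card (MulAction.stabilizer H b), Nat.card_congr f]
  ring

variable {F : Type*} [Field F] [Fintype F] {q n : ℕ}

/-- The unitary group acting on tuples of vectors. -/
@[reducible]
def tupleAction (n : ℕ) (F : Type*) [Field F] (q k : ℕ) :
    MulAction (GU n F q) (Fin k → Fin n → F) where
  smul A v i := A.1.1 *ᵥ v i
  one_smul v := funext fun _ => GU_one_mulVec _
  mul_smul A A' v := funext fun _ => GU_mul_mulVec _ A A'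

/-- The unitary group as matrices. -/
def guToMat (n : ℕ) (F : Type*) [Field F] (q : ℕ) : GU n F q →* Matrix (Fin n) (Fin n) F :=
  (Units.coeHom _).comp (GU n F q).subtype

/-- Linearly independent pairwise orthogonal tuples. -/
def isoTuples (q : ℕ) (n k : ℕ) : Set (Fin k → Fin n → F) :=
  {v | LinearIndependent F v ∧ ∀ i j, hermForm n F q (v i) (v j) = 0}

theorem conj_ne_id (hF : Fintype.card F = q ^ 2) : conj hF ≠ RingHom.id F := by
  intro h
  have h1 : Nat.card {x : F // x ^ q = x} = q ^ 2 := by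
    rw [← hF, ← Nat.card_eq_fintype_card]
    exact Nat.card_congr (Equiv.subtypeUnivEquiv fun x => RingHom.congr_fun h x)
  rw [card_fixed hF] at h1
  have := one_lt_q hF
  nlinarith

theorem exists_GU_map (hF : Fintype.card F = q ^ 2) {k : ℕ} {b v : Fin k → Fin n → F}
    (hb : b ∈ isoTuples q n k) (hv : v ∈ isoTuples q n k) :
    ∃ A : GU n F q, ∀ i, A.1.1 *ᵥ b i = v i := by
  let B := (hermL (n := n) hF).flip
  have hB : ∀ x y, B x y = hermForm n F q y x := fun x y => by simp [B]
  have hS : B.IsSymm := ⟨fun x y => by rw [hB, hB, conj_apply, herm_conj y x hF]⟩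
  have hN : B.Nondegenerate :=
    ⟨fun x hx => herm_nondeg_right hF fun u => (hB x u) ▸ hx u,
      fun y hy => herm_nondeg_left hF fun v => (hB v y) ▸ hy v⟩
  obtain ⟨g, hg, hgb⟩ := (ofHerm (conj hF) (conj_ne_id hF) (fun a => pow_q_q hF a) B hS hN).witt_family
    b v hb.1 hv.1
    (fun i j => (hB (b i) (b j)).trans ((hb.2 j i).trans ((hv.2 j i).symm.trans (hB (v i) (v j)).symm)))
    (fun i => (hB (b i) (b i)).trans ((hb.2 i i).trans ((hv.2 i i).symm.trans (hB (v i) (v i)).symm)))
  refine ⟨mkGU hF (LinearMap.toMatrix' g.toLinearMap) fun x y => ?_, fun i => ?_⟩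
  · rw [LinearMap.toMatrix'_mulVec, LinearMap.toMatrix'_mulVec]
    exact ((hB (g y) (g x)).symm.trans (hg.1 y x)).trans (hB y x)
  · rw [mkGU_val, LinearMap.toMatrix'_mulVec]
    exact hgb i

theorem mulVec_mem_isoTuples {k : ℕ} (A : GU n F q) {b : Fin k → Fin n → F}
    (hb : b ∈ isoTuples q n k) : (fun i => A.1.1 *ᵥ b i) ∈ isoTuples q n k :=
  ⟨hb.1.map' A.1.1.mulVecLin (LinearMap.ker_eq_bot.2 (GU_mulVec_injective A)),
    fun i j => by rw [GU_herm]; exact hb.2 i j⟩

theorem orbit_eq (hF : Fintype.card F = q ^ 2) {k : ℕ} {b : Fin k → Fin n → F}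
    (hb : b ∈ isoTuples q n k) :
    letI := tupleAction n F q k
    MulAction.orbit (GU n F q) b = isoTuples q n k := by
  ext v
  constructor
  · rintro ⟨A, rfl⟩; exact mulVec_mem_isoTuples A hb
  · intro hv
    obtain ⟨A, hA⟩ := exists_GU_map hF hb hv
    exact ⟨A, funext hA⟩

/-- Null vectors in `U = perp S` for totally isotropic `S`. -/
theorem card_null_perp (hF : Fintype.card F = q ^ 2) (S : Submodule F (Fin n → F))
    (hS : S ≤ perp q S) :
    Nat.card {x : Fin n → F // x ∈ perp q S ∧ hermForm n F q x x = 0} =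
      (q ^ 2) ^ finrank F S * countNull F q (n - 2 * finrank F S) := by
  obtain ⟨C0, hC0⟩ := Submodule.exists_isCompl S
  set C := C0 ⊓ perp q S
  have hdec : ∀ x ∈ perp q S, ∃ s ∈ S, ∃ c ∈ C, s + c = x := by
    intro x hx
    obtain ⟨s, hs, c, hc, rfl⟩ := Submodule.mem_sup.1
      (show x ∈ S ⊔ C0 by rw [hC0.sup_eq_top]; trivial)
    refine ⟨s, hs, c, ⟨hc, ?_⟩, rfl⟩
    simpa using (perp q S).sub_mem hx (hS hs)
  have hsc : ∀ s ∈ S, ∀ c ∈ C, hermForm n F q c s = 0 ∧ hermForm n F q s c = 0 := fun s hs c hc =>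
    ⟨hc.2 s hs, herm_eq_zero_symm hF (hc.2 s hs)⟩
  have hCnd : Nondeg q C := by
    intro u hu h
    have h1 : u ∈ perp q (perp q S) := fun x hx => by
      obtain ⟨s, hs, c, hc, rfl⟩ := hdec x hx
      rw [herm_add_right _ _ _ hF, (hsc s hs u hu).1, h c hc, add_zero]
    rw [perp_perp hF] at h1
    exact Submodule.disjoint_def.1 hC0.disjoint u h1 hu.1
  have hsup : S ⊔ C = perp q S := by
    refine le_antisymm (sup_le hS inf_le_right) fun x hx => ?_
    obtain ⟨s, hs, c, hc, rfl⟩ := hdec x hx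
    exact Submodule.add_mem_sup hs hc
  have hinf : S ⊓ C = ⊥ := by
    rw [eq_bot_iff, ← hC0.inf_eq_bot]
    exact inf_le_inf_left _ inf_le_left
  have hdim : finrank F C = n - 2 * finrank F S := by
    have h1 := Submodule.finrank_sup_add_finrank_inf_eq S C
    rw [hsup, hinf, finrank_bot] at h1
    have h2 := finrank_perp hF S
    omega
  set m := n - 2 * finrank F S
  obtain ⟨f, hf, hfC, hspan⟩ := exists_orthonormal_of_nondeg hF m C hdim hCnd
  have hnorm : ∀ (s : S) (y : Fin m → F),
      hermForm n F q ((s : Fin n → F) + ∑ i, y i • f i) ((s : Fin n → F) + ∑ i, y i • f i) =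
        hermForm m F q y y := by
    intro s y
    have hc : (∑ i, y i • f i) ∈ C := C.sum_mem fun i _ => C.smul_mem _ (hfC i)
    rw [herm_add_left, herm_add_right _ _ _ hF, herm_add_right _ _ _ hF,
      (hsc s s.2 _ hc).1, (hsc s s.2 _ hc).2, hS s.2 s s.2, herm_sum_sum hF]
    simp only [hf _ _, mul_ite, mul_one, mul_zero, Finset.sum_ite_eq, Finset.mem_univ, if_true,
      add_zero, zero_add]
    rfl
  let Φ : S × {y : Fin m → F // hermForm m F q y y = 0} →
      {x : Fin n → F // x ∈ perp q S ∧ hermForm n F q x x = 0} := fun p =>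
    ⟨(p.1 : Fin n → F) + ∑ i, p.2.1 i • f i,
      (perp q S).add_mem (hS p.1.2) (Submodule.sum_mem _ fun i _ => Submodule.smul_mem _ _ (hfC i).2),
      (hnorm p.1 p.2.1).trans p.2.2⟩
  have hΦ : Function.Bijective Φ := by
    constructor
    · rintro ⟨s, y⟩ ⟨s', y'⟩ h
      have h0 : (s : Fin n → F) + ∑ i, y.1 i • f i = (s' : Fin n → F) + ∑ i, y'.1 i • f i :=
        congrArg Subtype.val h
      have hd : (s : Fin n → F) - s' = 0 := by
        refine Submodule.disjoint_def.1 hC0.disjoint _ (S.sub_mem s.2 s'.2) ?_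
        rw [show (s : Fin n → F) - s' = (∑ i, y'.1 i • f i) - ∑ i, y.1 i • f i by
          rw [sub_eq_sub_iff_add_eq_add, h0, add_comm]]
        exact C0.sub_mem (C0.sum_mem fun i _ => C0.smul_mem _ (hfC i).1)
          (C0.sum_mem fun i _ => C0.smul_mem _ (hfC i).1)
      obtain rfl : s = s' := Subtype.ext (sub_eq_zero.1 hd)
      refine Prod.ext rfl (Subtype.ext (funext fun j => ?_))
      rw [← orthonormal_coeff hf y.1 j, add_left_cancel h0, orthonormal_coeff hf y'.1 j]
    · rintro ⟨x, hx, hx0⟩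
      obtain ⟨s, hs, c, hc, rfl⟩ := hdec x hx
      rw [← hspan] at hc
      obtain ⟨y, rfl⟩ := (Submodule.mem_span_range_iff_exists_fun F).1 hc
      exact ⟨(⟨s, hs⟩, ⟨y, (hnorm ⟨s, hs⟩ y).symm.trans hx0⟩), rfl⟩
  rw [← Nat.card_eq_of_bijective Φ hΦ, Nat.card_prod, Module.natCard_eq_pow_finrank (K := F) (V := S),
    Nat.card_eq_fintype_card, hF]
  rfl

theorem card_isoTuples (hF : Fintype.card F = q ^ 2) (k : ℕ) :
    Nat.card (isoTuples (F := F) q n k) =
      ∏ j ∈ Finset.range k, (q ^ 2) ^ j * (countNull F q (n - 2 * j) - 1) := by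
  induction k with
  | zero =>
    rw [Finset.prod_range_zero, Nat.card_eq_one_iff_unique]
    exact ⟨⟨fun a b => Subtype.ext (Subsingleton.elim _ _)⟩,
      ⟨⟨fun i => i.elim0, linearIndependent_empty_type, fun i => i.elim0⟩⟩⟩
  | succ k ih =>
    classical
    let e : isoTuples (F := F) q n (k + 1) ≃ Σ u : isoTuples (F := F) q n k,
        (({x | x ∈ perp q (Submodule.span F (Set.range u.1)) ∧ hermForm n F q x x = 0} : Set (Fin n → F)) \
          (Submodule.span F (Set.range u.1) : Set (Fin n → F)) : Set (Fin n → F)) :=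
      { toFun := fun v => ⟨⟨Fin.init v.1, (linearIndependent_finSucc'.1 v.2.1).1,
            fun i j => v.2.2 _ _⟩, v.1 (Fin.last k),
          ⟨(mem_perp_span_range hF).2 fun i => v.2.2 _ _, v.2.2 _ _⟩,
          (linearIndependent_finSucc'.1 v.2.1).2⟩
        invFun := fun s => ⟨Fin.snoc s.1.1 s.2.1,
          linearIndependent_finSnoc.2 ⟨s.1.2.1, s.2.2.2⟩, fun i j => by
            have hx : ∀ l, hermForm n F q s.2.1 (s.1.1 l) = 0 := (mem_perp_span_range hF).1 s.2.2.1.1
            induction i using Fin.lastCases <;> induction j using Fin.lastCases <;>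
              simp only [Fin.snoc_last, Fin.snoc_castSucc]
            · exact s.2.2.1.2
            · exact hx _
            · exact herm_eq_zero_symm hF (hx _)
            · exact s.1.2.2 _ _⟩
        left_inv := fun v => Subtype.ext (Fin.snoc_init_self _)
        right_inv := fun s => by
          refine Sigma.subtype_ext (Subtype.ext ?_) ?_
          · exact Fin.init_snoc (α := fun _ => Fin n → F) s.2.1 s.1.1
          · exact Fin.snoc_last (α := fun _ => Fin n → F) s.2.1 s.1.1 }
    have hfib : ∀ u : isoTuples (F := F) q n k,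
        Nat.card (({x | x ∈ perp q (Submodule.span F (Set.range u.1)) ∧ hermForm n F q x x = 0} : Set (Fin n → F)) \
          (Submodule.span F (Set.range u.1) : Set (Fin n → F)) : Set (Fin n → F)) =
          (q ^ 2) ^ k * (countNull F q (n - 2 * k) - 1) := by
      intro u
      set S := Submodule.span F (Set.range u.1) with hSdef
      have hS : S ≤ perp q S := Submodule.span_le.2 (by
        rintro _ ⟨i, rfl⟩
        exact (mem_perp_span_range hF).2 fun j => u.2.2 i j)
      have hsub : (S : Set (Fin n → F)) ⊆ {x | x ∈ perp q S ∧ hermForm n F q x x = 0} :=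
        fun x hx => ⟨hS hx, hS hx x hx⟩
      have hk : finrank F S = k := by rw [hSdef, finrank_span_eq_card u.2.1, Fintype.card_fin]
      rw [Nat.card_coe_set_eq, Set.ncard_sdiff hsub, ← Nat.card_coe_set_eq, ← Nat.card_coe_set_eq,
        SetLike.coe_sort_coe, Module.natCard_eq_pow_finrank (K := F) (V := S),
        Set.coe_setOf, card_null_perp hF S hS, hk, Nat.card_eq_fintype_card, hF, Nat.mul_sub, mul_one]
    have : Fintype (isoTuples (F := F) q n k) := Fintype.ofFinite _
    rw [Nat.card_congr e, Nat.card_sigma, Finset.sum_congr rfl fun u _ => hfib u, Finset.sum_const,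
      smul_eq_mul, Finset.card_univ, ← Nat.card_eq_fintype_card, ih, Finset.prod_range_succ]

/-- The stabiliser of `W` in the unitary group. -/
abbrev guStab (W : Submodule F (Fin n → F)) : Subgroup (GU n F q) :=
  Cfsg.stabilizing (guToMat n F q) (W : Set (Fin n → F))

theorem card_guStab_mul (hF : Fintype.card F = q ^ 2) {W : Submodule F (Fin n → F)} {k : ℕ}
    (hk : finrank F W = k) (hW : ∀ u ∈ W, ∀ v ∈ W, hermForm n F q u v = 0) :
    Nat.card (guStab (q := q) W) * Nat.card (isoTuples (F := F) q n k) =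
      Nat.card (GU n F q) * Nat.card {s : Fin k → W // LinearIndependent F s} := by
  letI := tupleAction n F q k
  obtain ⟨bW⟩ : Nonempty (Basis (Fin k) F W) := ⟨Module.finBasisOfFinrankEq F W hk⟩
  let b : Fin k → Fin n → F := fun i => (bW i : Fin n → F)
  have hbli : LinearIndependent F b := bW.linearIndependent.map' W.subtype W.ker_subtype
  have hb : b ∈ isoTuples q n k := ⟨hbli, fun i j => hW _ (bW i).2 _ (bW j).2⟩
  have hspan : ∀ x ∈ W, x ∈ Submodule.span F (Set.range b) := by
    intro x hx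
    have h1 : (⟨x, hx⟩ : W) ∈ Submodule.span F (Set.range bW) := by
      rw [bW.span_eq]; trivial
    have h2 := Submodule.mem_map_of_mem (f := W.subtype) h1
    rw [Submodule.map_span, ← Set.range_comp] at h2
    exact h2
  have hstab : ∀ A : GU n F q, (∀ i, A.1.1 *ᵥ b i ∈ W) → A ∈ guStab W := fun A hA =>
    SpParabolic.mem_stabilizing_of_map _ W A fun x hx => by
      have hle : Submodule.span F (Set.range b) ≤ W.comap A.1.1.mulVecLin :=
        Submodule.span_le.2 (by rintro _ ⟨i, rfl⟩; exact hA i)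
      exact hle (hspan x hx)
  have h1 : MulAction.orbit (guStab (q := q) W) b = {v | LinearIndependent F v ∧ ∀ i, v i ∈ W} := by
    ext v
    constructor
    · rintro ⟨A, rfl⟩
      exact ⟨(mulVec_mem_isoTuples A.1 hb).1, fun i => (A.2 (b i)).1 (bW i).2⟩
    · rintro ⟨hv, hvW⟩
      obtain ⟨A, hA⟩ := exists_GU_map hF hb ⟨hv, fun i j => hW _ (hvW i) _ (hvW j)⟩
      exact ⟨⟨A, hstab A fun i => (hA i).symm ▸ hvW i⟩, funext hA⟩
  let e : ({v | LinearIndependent F v ∧ ∀ i, v i ∈ W} : Set (Fin k → Fin n → F)) ≃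
      {s : Fin k → W // LinearIndependent F s} :=
    { toFun := fun v => ⟨fun i => ⟨v.1 i, v.2.2 i⟩, LinearIndependent.of_comp W.subtype v.2.1⟩
      invFun := fun s => ⟨fun i => (s.1 i : Fin n → F), s.2.map' W.subtype W.ker_subtype,
        fun i => (s.1 i).2⟩
      left_inv := fun v => rfl
      right_inv := fun s => rfl }
  rw [← Nat.card_congr e, Nat.card_coe_set_eq, Nat.card_coe_set_eq, ← h1, ← orbit_eq hF hb]
  exact card_mul_orbit _ b fun A hA => hstab A fun i => by
    rw [show A.1.1 *ᵥ b i = b i from congrFun hA i]; exact (bW i).2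

theorem det_surjective_guStab (hF : Fintype.card F = q ^ 2) (hn : 1 ≤ n)
    {W : Submodule F (Fin n → F)} (hW : ∀ u ∈ W, ∀ v ∈ W, hermForm n F q u v = 0) :
    (guStab (q := q) W).map (detGU n F q) = (detGU n F q).range := by
  refine le_antisymm (Subgroup.map_le_range _ _) ?_
  rintro _ ⟨A₀, rfl⟩
  obtain ⟨x, hx0, hx⟩ := exists_div_conj hF (det_norm_one hF A₀)
  rcases Nat.eq_zero_or_pos (finrank F W) with h0 | hpos
  · refine Subgroup.mem_map.2 ⟨A₀, SpParabolic.mem_stabilizing_of_map _ W A₀ fun v hv => ?_, rfl⟩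
    rw [Submodule.finrank_eq_zero.1 h0] at hv ⊢
    rw [Submodule.mem_bot] at hv ⊢
    rw [hv, Matrix.mulVec_zero]
  let bW := Module.finBasis F W
  let b : Fin (finrank F W) → Fin n → F := fun i => (bW i : Fin n → F)
  have hbli : LinearIndependent F b := bW.linearIndependent.map' W.subtype W.ker_subtype
  let j : Fin (finrank F W) := ⟨0, hpos⟩
  obtain ⟨f, hf, hfb⟩ := exists_partner hF hbli j fun i => hW _ (bW i).2 _ (bW j).2
  obtain ⟨A, hdet, hAe, -, hAv⟩ := exists_GU_hyp_scale hF hf hx0
  refine Subgroup.mem_map.2 ⟨A, SpParabolic.mem_stabilizing_of_map _ W A fun v hv => ?_, Units.ext ?_⟩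
  · show A.1.1 *ᵥ v ∈ W
    have hfix : ∀ i, i ≠ j → A.1.1 *ᵥ b i = b i := fun i hi =>
      hAv _ (hW _ (bW i).2 _ (bW j).2) (herm_eq_zero_symm hF (hfb i hi))
    have h2 : v = ∑ i, bW.repr ⟨v, hv⟩ i • b i := by
      refine (congrArg Subtype.val (bW.sum_repr ⟨v, hv⟩)).symm.trans ?_
      rw [Submodule.coe_sum]
      rfl
    rw [h2, Matrix.mulVec_sum]
    refine W.sum_mem fun i _ => ?_
    rw [Matrix.mulVec_smul]
    refine W.smul_mem _ ?_
    by_cases hi : i = j
    · subst hi; rw [hAe]; exact W.smul_mem _ (bW j).2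
    · rw [hfix i hi]; exact (bW i).2
  · rw [detGU_val, detGU_val, hdet]
    exact (mul_inv_eq_iff_eq_mul₀ (pow_ne_zero q hx0)).2 hx

theorem card_suStab_mul (hF : Fintype.card F = q ^ 2) (hn : 1 ≤ n)
    {W : Submodule F (Fin n → F)} (hW : ∀ u ∈ W, ∀ v ∈ W, hermForm n F q u v = 0) :
    (q + 1) * Nat.card ((Cfsg.stabilizing (Cfsg.slToMat n F) (W : Set (Fin n → F))).subgroupOf
      (Cfsg.SU n F q)) = Nat.card (guStab (q := q) W) := by
  set ψ := (detGU n F q).comp (guStab (q := q) W).subtype
  have hr : ψ.range = (normHom F q).ker := by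
    rw [← range_detGU hF hn, MonoidHom.range_comp, Subgroup.range_subtype, det_surjective_guStab hF hn hW]
  let e : ((Cfsg.stabilizing (Cfsg.slToMat n F) (W : Set (Fin n → F))).subgroupOf (Cfsg.SU n F q)) ≃
      ψ.ker :=
    { toFun := fun A => ⟨⟨suToGU n F q A.1, A.2⟩, Units.ext (A.1.1.2)⟩
      invFun := fun A => ⟨⟨⟨A.1.1.1.1, congrArg Units.val A.2⟩, A.1.1.2⟩, A.1.2⟩
      left_inv := fun A => Subtype.ext (Subtype.ext (Subtype.ext rfl))
      right_inv := fun A => Subtype.ext (Subtype.ext (Subtype.ext (Units.ext rfl))) }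
  rw [Nat.card_congr e, ← (card_normHom hF).1, ← hr,
    Subgroup.card_eq_card_quotient_mul_card_subgroup ψ.ker,
    Nat.card_congr (QuotientGroup.quotientKerEquivRange ψ).toEquiv]

end Cfsg.Agent.Lib.Forms.SUStab
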