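/-
Maximal totally singular subspaces of a hyperbolic quadratic space: the two families, and the two
members through a totally singular subspace of codimension one in a maximal one. Any field.
-/
import Cfsg.Agent.Lib.Forms.Det
import Cfsg.Prelude.Def_Classical

set_option autoImplicit false

namespace Cfsg.Agent.Lib.Forms.MaxSingular

open Module QuadraticMap

variable {F V : Type*} [Field F] [AddCommGroup V] [Module F V] [FiniteDimensional F V]

/-- The orthogonal subspace for the polar form. -/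
abbrev perp (Q : QuadraticForm F V) (W : Submodule F V) : Submodule F V :=
  LinearMap.BilinForm.orthogonal (polarBilin Q) W

theorem mem_perp {Q : QuadraticForm F V} {W : Submodule F V} {x : V} :
    x ∈ perp Q W ↔ ∀ w ∈ W, polar Q w x = 0 := Iff.rfl

theorem le_perp_of_singular {Q : QuadraticForm F V} {W : Submodule F V}
    (hW : ∀ w ∈ W, Q w = 0) : W ≤ perp Q W := fun _ hx _ hn => singular_polar hW hn hx

theorem perp_sup (Q : QuadraticForm F V) (A B : Submodule F V) :
    perp Q (A ⊔ B) = perp Q A ⊓ perp Q B := by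
  ext x
  constructor
  · exact fun h => ⟨fun a ha => h a (Submodule.mem_sup_left ha),
      fun b hb => h b (Submodule.mem_sup_right hb)⟩
  · rintro ⟨h1, h2⟩ w hw
    obtain ⟨a, ha, b, hb, rfl⟩ := Submodule.mem_sup.1 hw
    show polar Q (a + b) x = 0
    rw [polar_add_left, mem_perp.1 h1 a ha, mem_perp.1 h2 b hb, add_zero]

/-- A totally singular subspace of half the dimension. -/
def IsMax (Q : QuadraticForm F V) (m : ℕ) (U : Submodule F V) : Prop :=
  finrank F U = m ∧ ∀ w ∈ U, Q w = 0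

variable {Q : QuadraticForm F V} {m : ℕ}

theorem perp_eq_self (hQ : Nondeg Q) (hV : finrank F V = 2 * m) {U : Submodule F V}
    (hU : IsMax Q m U) : perp Q U = U := by
  refine (Submodule.eq_of_le_of_finrank_le (le_perp_of_singular hU.2) ?_).symm
  rw [LinearMap.BilinForm.finrank_orthogonal hQ.polarBilin, hU.1, hV]
  omega

/-- `dim (U ∩ Y^⊥) = dim (U ∩ Y) + m - dim Y` for a maximal `U`. -/
theorem finrank_inf_perp (hQ : Nondeg Q) (hV : finrank F V = 2 * m) {U : Submodule F V}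
    (hU : IsMax Q m U) (Y : Submodule F V) :
    finrank F ↥(U ⊓ perp Q Y) + finrank F Y = finrank F ↥(U ⊓ Y) + m := by
  have h1 : U ⊓ perp Q Y = perp Q (U ⊔ Y) := by rw [perp_sup, perp_eq_self hQ hV hU]
  have h2 := Submodule.finrank_sup_add_finrank_inf_eq U Y
  have h3 := (U ⊔ Y).finrank_le
  rw [h1, LinearMap.BilinForm.finrank_orthogonal hQ.polarBilin, hV]
  rw [hV] at h3
  rw [hU.1] at h2
  omega

/-- The dichotomy along an edge. -/
theorem finrank_inf_add (hQ : Nondeg Q) (hV : finrank F V = 2 * m) {U W W' : Submodule F V}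
    (hU : IsMax Q m U) (hW : IsMax Q m W) (hW' : IsMax Q m W')
    (hadj : finrank F ↥(W ⊓ W') + 1 = m) :
    finrank F ↥(U ⊓ W) + finrank F ↥(U ⊓ W') = 2 * finrank F ↥(U ⊓ (W ⊓ W')) + 1 := by
  set Y := W ⊓ W' with hY
  set Z := U ⊓ perp Q Y with hZdef
  have hZ : finrank F Z = finrank F ↥(U ⊓ Y) + 1 := by
    have h : finrank F Z + finrank F Y = finrank F ↥(U ⊓ Y) + m := finrank_inf_perp hQ hV hU Y
    omega
  have hWp : W ≤ perp Q Y := fun x hx y hy => singular_polar hW.2 hy.1 hx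
  have hW'p : W' ≤ perp Q Y := fun x hx y hy => singular_polar hW'.2 hy.2 hx
  have hsum : W ⊔ W' = perp Q Y := by
    refine Submodule.eq_of_le_of_finrank_le (sup_le hWp hW'p) ?_
    have h2 := Submodule.finrank_sup_add_finrank_inf_eq W W'
    rw [← hY, hW.1, hW'.1] at h2
    rw [LinearMap.BilinForm.finrank_orthogonal hQ.polarBilin, hV]
    omega
  have hA : U ⊓ W ≤ Z := inf_le_inf_left _ hWp
  have hB : U ⊓ W' ≤ Z := inf_le_inf_left _ hW'p
  have hYA : U ⊓ Y ≤ U ⊓ W := inf_le_inf_left _ inf_le_left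
  have hYB : U ⊓ Y ≤ U ⊓ W' := inf_le_inf_left _ inf_le_right
  obtain ⟨z, hz, hzY⟩ : ∃ z ∈ Z, z ∉ U ⊓ Y := by
    by_contra hc
    push Not at hc
    have := Submodule.finrank_mono (show Z ≤ U ⊓ Y from hc)
    omega
  obtain ⟨w, hw, w', hw', rfl⟩ := Submodule.mem_sup.1 (show z ∈ W ⊔ W' by rw [hsum]; exact hz.2)
  have hpol : polar Q w w' = 0 := by
    have h := hU.2 _ hz.1
    rwa [Q_add, hW.2 w hw, hW'.2 w' hw', zero_add, zero_add] at h
  have hdich : w ∈ Y ∨ w' ∈ Y := by
    by_contra hc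
    push Not at hc
    have hWeq : Y ⊔ Submodule.span F {w} = W := by
      refine Submodule.eq_of_le_of_finrank_le
        (sup_le inf_le_left ((Submodule.span_singleton_le_iff_mem _ _).2 hw)) ?_
      have h1 : Y < Y ⊔ Submodule.span F {w} := lt_of_le_of_ne le_sup_left fun h =>
        hc.1 (h ▸ Submodule.mem_sup_right (Submodule.mem_span_singleton_self w))
      have := Submodule.finrank_lt_finrank_of_lt h1
      rw [hW.1]
      omega
    have hW'eq : Y ⊔ Submodule.span F {w'} = W' := by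
      refine Submodule.eq_of_le_of_finrank_le
        (sup_le inf_le_right ((Submodule.span_singleton_le_iff_mem _ _).2 hw')) ?_
      have h1 : Y < Y ⊔ Submodule.span F {w'} := lt_of_le_of_ne le_sup_left fun h =>
        hc.2 (h ▸ Submodule.mem_sup_right (Submodule.mem_span_singleton_self w'))
      have := Submodule.finrank_lt_finrank_of_lt h1
      rw [hW'.1]
      omega
    have hTS : ∀ x ∈ W ⊔ W', Q x = 0 := by
      intro x hx
      obtain ⟨a, ha, b, hb, rfl⟩ := Submodule.mem_sup.1 hx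
      rw [Q_add, hW.2 a ha, hW'.2 b hb, zero_add, zero_add]
      rw [← hWeq] at ha
      obtain ⟨y, hy, _, hs, rfl⟩ := Submodule.mem_sup.1 ha
      obtain ⟨c, rfl⟩ := Submodule.mem_span_singleton.1 hs
      rw [← hW'eq] at hb
      obtain ⟨y', hy', _, hs', rfl⟩ := Submodule.mem_sup.1 hb
      obtain ⟨c', rfl⟩ := Submodule.mem_span_singleton.1 hs'
      simp only [polar_add_left, polar_add_right, polar_smul_left, polar_smul_right, hpol,
        singular_polar hW.2 hy.1 hy'.1, singular_polar hW'.2 hy.2 hw', singular_polar hW.2 hw hy'.1,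
        smul_zero, add_zero]
    have h1 := two_mul_finrank_le hQ _ hTS
    have h2 := Submodule.finrank_sup_add_finrank_inf_eq W W'
    rw [← hY, hW.1, hW'.1] at h2
    omega
  have hcase : Z ≤ U ⊓ W ∨ Z ≤ U ⊓ W' := by
    have hzZ : Z = (U ⊓ Y) ⊔ Submodule.span F {w + w'} := by
      refine (Submodule.eq_of_le_of_finrank_le (sup_le (le_trans hYA hA)
        ((Submodule.span_singleton_le_iff_mem _ _).2 hz)) ?_).symm
      have h1 : U ⊓ Y < (U ⊓ Y) ⊔ Submodule.span F {w + w'} := lt_of_le_of_ne le_sup_left fun h =>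
        hzY (h.ge (Submodule.mem_sup_right (Submodule.mem_span_singleton_self _)))
      have := Submodule.finrank_lt_finrank_of_lt h1
      omega
    rcases hdich with h | h
    · refine Or.inr ?_
      rw [hzZ]
      exact sup_le hYB ((Submodule.span_singleton_le_iff_mem _ _).2 ⟨hz.1, W'.add_mem h.2 hw'⟩)
    · refine Or.inl ?_
      rw [hzZ]
      exact sup_le hYA ((Submodule.span_singleton_le_iff_mem _ _).2 ⟨hz.1, W.add_mem hw h.1⟩)
  rcases hcase with h | h
  · have h1 : U ⊓ W = Z := le_antisymm hA h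
    have h2 : U ⊓ W' = U ⊓ Y :=
      le_antisymm (fun x hx => ⟨hx.1, ⟨(h (hB hx)).2, hx.2⟩⟩) hYB
    rw [h1, h2]; omega
  · have h1 : U ⊓ W' = Z := le_antisymm hB h
    have h2 : U ⊓ W = U ⊓ Y :=
      le_antisymm (fun x hx => ⟨hx.1, ⟨hx.2, (h (hA hx)).2⟩⟩) hYA
    rw [h1, h2]; omega

/-- The maximal subspace through `Y` towards `X`. -/
theorem exists_through (hQ : Nondeg Q) (hV : finrank F V = 2 * m) {X : Submodule F V}
    (hX : IsMax Q m X) {Y : Submodule F V} (hY : ∀ y ∈ Y, Q y = 0) :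
    ∃ W, IsMax Q m W ∧ Y ≤ W ∧ X ⊓ perp Q Y ≤ W := by
  refine ⟨Y ⊔ X ⊓ perp Q Y, ⟨?_, ?_⟩, le_sup_left, le_sup_right⟩
  · have h1 := Submodule.finrank_sup_add_finrank_inf_eq Y (X ⊓ perp Q Y)
    have h2 : Y ⊓ (X ⊓ perp Q Y) = X ⊓ Y := by
      ext v
      exact ⟨fun h => ⟨h.2.1, h.1⟩, fun h => ⟨h.2, h.1, le_perp_of_singular hY h.2⟩⟩
    have h3 := finrank_inf_perp hQ hV hX Y
    rw [h2] at h1
    omega
  · intro w hw
    obtain ⟨y, hy, x, hx, rfl⟩ := Submodule.mem_sup.1 hw
    rw [Q_add, hY y hy, hX.2 x hx.1, mem_perp.1 hx.2 y hy]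
    simp

/-- The parity relation is transitive. -/
theorem even_triangle (hQ : Nondeg Q) (hV : finrank F V = 2 * m) :
    ∀ (d : ℕ) (U W X : Submodule F V), IsMax Q m U → IsMax Q m W → IsMax Q m X →
      m - finrank F ↥(W ⊓ X) = d →
      Even ((m - finrank F ↥(U ⊓ W)) + d + (m - finrank F ↥(U ⊓ X))) := by
  intro d
  induction d with
  | zero =>
    intro U W X hU hW hX hd
    have h1 := Submodule.finrank_mono (inf_le_left : W ⊓ X ≤ W)
    have hWX : W ⊓ X = W := Submodule.eq_of_le_of_finrank_le inf_le_left (by rw [hW.1]; omega)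
    have hXW : W ⊓ X = X := Submodule.eq_of_le_of_finrank_le inf_le_right (by rw [hX.1]; omega)
    rw [show X = W from hXW.symm.trans hWX, add_zero]
    exact ⟨_, rfl⟩
  | succ d ih =>
    intro U W X hU hW hX hd
    -- a hyperplane of `W` containing `W ⊓ X`
    obtain ⟨Y, hYWX, hYW, hYdim⟩ : ∃ Y, W ⊓ X ≤ Y ∧ Y ≤ W ∧ finrank F Y + 1 = m := by
      obtain ⟨v, hvW, hvX⟩ : ∃ v ∈ W, v ∉ W ⊓ X := by
        by_contra hc
        push Not at hc
        have := Submodule.finrank_mono (show W ≤ W ⊓ X from hc)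
        rw [hW.1] at this
        omega
      obtain ⟨f, hfv, hfH⟩ := Submodule.exists_le_ker_of_notMem hvX
      refine ⟨W ⊓ LinearMap.ker f, le_inf inf_le_left hfH, inf_le_left, ?_⟩
      have hs := Submodule.finrank_sup_add_finrank_inf_eq W (LinearMap.ker f)
      have htop : W ⊔ LinearMap.ker f = ⊤ := by
        rw [eq_top_iff]
        intro x _
        refine Submodule.mem_sup.2 ⟨(f x / f v) • v, W.smul_mem _ hvW, x - (f x / f v) • v, ?_, by abel⟩
        rw [LinearMap.mem_ker, map_sub, map_smul, smul_eq_mul, div_mul_cancel₀ _ hfv, sub_self]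
      have hker := Module.Dual.finrank_ker_add_one_of_ne_zero (f := f)
        (fun h => hfv (by rw [h]; rfl))
      rw [htop, finrank_top, hW.1] at hs
      omega
    have hYs : ∀ y ∈ Y, Q y = 0 := fun y hy => hW.2 y (hYW hy)
    obtain ⟨W', hW', hYW', hXW'⟩ := exists_through hQ hV hX hYs
    have hXY : X ⊓ Y = W ⊓ X := le_antisymm (fun x hx => ⟨hYW hx.2, hx.1⟩)
      (fun x hx => ⟨hx.2, hYWX hx⟩)
    have hZ : finrank F ↥(X ⊓ perp Q Y) = finrank F ↥(W ⊓ X) + 1 := by
      have := finrank_inf_perp hQ hV hX Y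
      rw [hXY] at this
      omega
    have hWW'Y : W ⊓ W' = Y := by
      refine (Submodule.eq_of_le_of_finrank_le (le_inf hYW hYW') ?_).symm
      have hle : finrank F ↥(W ⊓ W') ≤ m := by
        have := Submodule.finrank_mono (inf_le_left : W ⊓ W' ≤ W); rwa [hW.1] at this
      by_contra hc
      have heq : W ⊓ W' = W := Submodule.eq_of_le_of_finrank_le inf_le_left (by rw [hW.1]; omega)
      have h1 : X ⊓ perp Q Y ≤ W ⊓ X := fun x hx => by
        have hx' := hXW' hx
        have heq' : W ⊓ W' = W' := Submodule.eq_of_le_of_finrank_le inf_le_right (by rw [hW'.1, heq, hW.1])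
        rw [← heq', heq] at hx'
        exact ⟨hx', hx.1⟩
      have := Submodule.finrank_mono h1
      omega
    have hadj : finrank F ↥(W ⊓ W') + 1 = m := by rw [hWW'Y]; exact hYdim
    -- `W'` is one step closer to `X`
    have hW'X : finrank F ↥(W' ⊓ X) = finrank F ↥(W ⊓ X) + 1 := by
      have h1 := finrank_inf_add hQ hV hX hW hW' hadj
      rw [hWW'Y, hXY, inf_comm X W, inf_comm X W'] at h1
      omega
    have hU' := finrank_inf_add hQ hV hU hW hW' hadj
    have hU1 := Submodule.finrank_mono (inf_le_left : U ⊓ W ≤ U)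
    have hU2 := Submodule.finrank_mono (inf_le_left : U ⊓ W' ≤ U)
    rw [hU.1] at hU1 hU2
    obtain ⟨r, hr⟩ := ih U W' X hU hW' hX (by omega)
    rw [Nat.even_iff]
    omega

/-- Exactly two maximal subspaces contain a given one of codimension one. -/
theorem card_through (hQ : Nondeg Q) (hV : finrank F V = 2 * m) {X X' : Submodule F V}
    (hX : IsMax Q m X) (hX' : IsMax Q m X') (hXX : X ⊓ X' = ⊥)
    {Y : Submodule F V} (hY : ∀ y ∈ Y, Q y = 0) (hYdim : finrank F Y + 1 = m) :
    Nat.card {W : Submodule F V // finrank F W = m ∧ (∀ w ∈ W, Q w = 0) ∧ Y ≤ W} = 2 := by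
  obtain ⟨W₀, hW₀, hYW₀, -⟩ := exists_through hQ hV hX hY
  obtain ⟨g, hg, hgle⟩ := exists_orth_map_le hQ X W₀ hX.2 hW₀.2 (by rw [hX.1, hW₀.1])
  have hgX : X.map (g : V ≃ₗ[F] V).toLinearMap = W₀ :=
    Submodule.eq_of_le_of_finrank_le hgle (by rw [LinearEquiv.finrank_map_eq, hX.1, hW₀.1])
  set C := X'.map (g : V ≃ₗ[F] V).toLinearMap
  have hC : IsMax Q m C := ⟨by rw [LinearEquiv.finrank_map_eq, hX'.1], by
    rintro _ ⟨x, hx, rfl⟩
    rw [LinearEquiv.coe_coe, mem_orth.1 hg]; exact hX'.2 x hx⟩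
  have hdisj : W₀ ⊓ C = ⊥ := by
    rw [← hgX, ← Submodule.map_inf _ (LinearEquiv.injective g), hXX, Submodule.map_bot]
  obtain ⟨W₁, hW₁, hYW₁, hCW₁⟩ := exists_through hQ hV hC hY
  have hne : W₁ ≠ W₀ := by
    intro h
    rw [h] at hCW₁
    have h1 : C ⊓ perp Q Y ≤ W₀ ⊓ C := fun x hx => ⟨hCW₁ hx, hx.1⟩
    have h2 := Submodule.finrank_mono h1
    rw [hdisj, finrank_bot] at h2
    have h3 := finrank_inf_perp hQ hV hC Y
    omega
  have key : ∀ A B : Submodule F V, IsMax Q m A → IsMax Q m B → Y ≤ A → Y ≤ B → A ≠ B → A ⊓ B = Y := by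
    intro A B hA hB hYA hYB hAB
    refine (Submodule.eq_of_le_of_finrank_le (le_inf hYA hYB) ?_).symm
    by_contra hc
    have hle : finrank F ↥(A ⊓ B) ≤ m := by
      have := Submodule.finrank_mono (inf_le_left : A ⊓ B ≤ A); rwa [hA.1] at this
    have e1 : A ⊓ B = A := Submodule.eq_of_le_of_finrank_le inf_le_left (by rw [hA.1]; omega)
    have e2 : A ⊓ B = B := Submodule.eq_of_le_of_finrank_le inf_le_right (by rw [hB.1]; omega)
    exact hAB (e1.symm.trans e2)
  rw [Nat.card_eq_two_iff]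
  refine ⟨⟨W₀, hW₀.1, hW₀.2, hYW₀⟩, ⟨W₁, hW₁.1, hW₁.2, hYW₁⟩,
    fun h => hne (congrArg Subtype.val h).symm, ?_⟩
  rw [Set.eq_univ_iff_forall]
  rintro ⟨A, hA1, hA2, hYA⟩
  rcases eq_or_ne A W₀ with rfl | h0
  · exact Or.inl rfl
  rcases eq_or_ne A W₁ with rfl | h1
  · exact Or.inr rfl
  exfalso
  have hA : IsMax Q m A := ⟨hA1, hA2⟩
  have h := finrank_inf_add hQ hV hA hW₀ hW₁ (by rw [key W₀ W₁ hW₀ hW₁ hYW₀ hYW₁ hne.symm]; exact hYdim)
  rw [key A W₀ hA hW₀ hYA hYW₀ h0, key A W₁ hA hW₁ hYA hYW₁ h1,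
    key W₀ W₁ hW₀ hW₁ hYW₀ hYW₁ hne.symm, inf_eq_right.2 hYA] at h
  omega

section standard

/-- Vectors with vanishing second half. -/
def stdX (F : Type*) [Field F] (m : ℕ) : Submodule F (Fin m ⊕ Fin m → F) :=
  ⨅ i : Fin m, LinearMap.ker (LinearMap.proj (Sum.inr i))

/-- Vectors with vanishing first half. -/
def stdX' (F : Type*) [Field F] (m : ℕ) : Submodule F (Fin m ⊕ Fin m → F) :=
  ⨅ i : Fin m, LinearMap.ker (LinearMap.proj (Sum.inl i))

theorem finrank_vanishing {ι : Type} [Fintype ι] (s : Finset ι) (W : Submodule F (ι → F))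
    (hW : ∀ v, v ∈ W ↔ ∀ i ∈ s, v i = 0) : finrank F W + s.card = Fintype.card ι := by
  classical
  let L : (ι → F) →ₗ[F] (s → F) := LinearMap.pi fun i => LinearMap.proj i.1
  have hL : Function.Surjective L := fun c => ⟨fun i => if h : i ∈ s then c ⟨i, h⟩ else 0,
    funext fun i => by simp [L]⟩
  have hker : LinearMap.ker L = W := by
    ext v
    rw [LinearMap.mem_ker, hW, funext_iff]
    exact ⟨fun h i hi => h ⟨i, hi⟩, fun h i => h i.1 i.2⟩
  have h := L.finrank_range_add_finrank_ker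
  rw [LinearMap.range_eq_top.2 hL, hker, finrank_top, Module.finrank_fintype_fun_eq_card,
    Module.finrank_fintype_fun_eq_card, Fintype.card_coe] at h
  omega

theorem isMax_stdX : IsMax (qPlus (F := F) m) m (stdX F m) := by
  refine ⟨?_, fun w hw => ?_⟩
  · have h := finrank_vanishing (F := F) (Finset.univ.map ⟨Sum.inr, Sum.inr_injective⟩) (stdX F m)
      (fun v => by simp [stdX])
    simp at h
    omega
  · simp [stdX] at hw
    simp [qPlus_apply, hw]

theorem isMax_stdX' : IsMax (qPlus (F := F) m) m (stdX' F m) := by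
  refine ⟨?_, fun w hw => ?_⟩
  · have h := finrank_vanishing (F := F) (Finset.univ.map ⟨Sum.inl, Sum.inl_injective⟩) (stdX' F m)
      (fun v => by simp [stdX'])
    simp at h
    omega
  · simp [stdX'] at hw
    simp [qPlus_apply, hw]

theorem stdX_inf : stdX F m ⊓ stdX' F m = ⊥ := by
  rw [eq_bot_iff]
  rintro v ⟨h1, h2⟩
  simp [stdX, stdX'] at h1 h2
  exact (Submodule.mem_bot F).2 (funext fun i => i.casesOn h2 h1)

theorem finrank_space : finrank F (Fin m ⊕ Fin m → F) = 2 * m := by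
  rw [Module.finrank_fintype_fun_eq_card]; simp; ring

end standard

end Cfsg.Agent.Lib.Forms.MaxSingular
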