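/-
`Geo.omegaGL Q` preserves each of the two families of maximal totally singular subspaces.
-/
import Cfsg.Agent.Lib.Forms.MaxSingular
import Cfsg.Agent.Lib.Subspaces.OrthSingular

set_option autoImplicit false

namespace Cfsg.Agent.Lib.Forms.FamilyParity

open Module Matrix Cfsg.Agent.Lib.Subspaces.OmegaGL

variable {ι : Type} [Fintype ι] [DecidableEq ι] {F : Type*} [Field F] {Q : (ι → F) → F}

/-- The image of a subspace. -/
abbrev img (g : GL ι F) (W : Submodule F (ι → F)) : Submodule F (ι → F) :=
  W.map (Matrix.toLin' (g : Matrix ι ι F))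

theorem img_mul (g h : GL ι F) (W : Submodule F (ι → F)) : img (g * h) W = img g (img h W) := by
  rw [img, Units.val_mul, Matrix.toLin'_mul, Submodule.map_comp]

theorem toLin'_injective (g : GL ι F) : Function.Injective (Matrix.toLin' (g : Matrix ι ι F)) := by
  intro x y h
  exact Cfsg.Agent.Lib.Subspaces.Transvection.gl_mulVec_injective g (by simpa using h)

theorem finrank_img (g : GL ι F) (W : Submodule F (ι → F)) :
    finrank F (img g W) = finrank F W :=
  (Submodule.equivMapOfInjective _ (toLin'_injective g) W).finrank_eq.symm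

theorem finrank_img_inf (g : GL ι F) (A C : Submodule F (ι → F)) :
    finrank F ↥(img g A ⊓ img g C) = finrank F ↥(A ⊓ C) := by
  rw [img, img, ← Submodule.map_inf _ (toLin'_injective g)]
  exact finrank_img g _

/-- Same family. -/
theorem even_dist (hQ : Cfsg.Geo.IsNondegenerateQuadraticForm Q) {m : ℕ}
    (hn : Fintype.card ι = 2 * m) {U : Submodule F (ι → F)} (hU : MaxSingular.IsMax (qf hQ) m U)
    {g : GL ι F} (hg : g ∈ Cfsg.Geo.omegaGL Q) : Even (m - finrank F ↥(U ⊓ img g U)) := by
  have hV : finrank F (ι → F) = 2 * m := by rw [Module.finrank_fintype_fun_eq_card, hn]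
  let G := Cfsg.isometryGroup F Q
  have hmax : ∀ (a : G) {A : Submodule F (ι → F)}, MaxSingular.IsMax (qf hQ) m A →
      MaxSingular.IsMax (qf hQ) m (img (a : GL ι F) A) := fun a A hA =>
    ⟨by rw [finrank_img, hA.1], by
      rintro _ ⟨x, hx, rfl⟩
      rw [qf_apply, Matrix.toLin'_apply]
      exact (a.2 x 0).trans (hA.2 x hx)⟩
  let d : G → ZMod 2 := fun a => ((m - finrank F ↥(U ⊓ img (a : GL ι F) U) : ℕ) : ZMod 2)
  have hd : ∀ a b : G, d (a * b) = d a + d b := by
    intro a b
    have h := MaxSingular.even_triangle (qf_nondeg hQ) hV _ U (img (a : GL ι F) U)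
      (img ((a : GL ι F) * (b : GL ι F)) U) hU (hmax a hU) (hmax (a * b) hU) rfl
    rw [show img ((a : GL ι F) * (b : GL ι F)) U = img (a : GL ι F) (img (b : GL ι F) U) from
      img_mul _ _ _, finrank_img_inf] at h
    have h2 := (ZMod.natCast_eq_zero_iff_even).2 h
    push_cast at h2
    have h20 : (2 : ZMod 2) = 0 := rfl
    show ((m - finrank F ↥(U ⊓ img ((a : GL ι F) * (b : GL ι F)) U) : ℕ) : ZMod 2) = _ + _
    rw [img_mul]
    linear_combination h2 - (d a + d b) * h20
  let χ : G →* Multiplicative (ZMod 2) :=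
    MonoidHom.mk' (fun a => Multiplicative.ofAdd (d a)) fun a b => by simp [hd]
  obtain ⟨h, hh, rfl⟩ := hg
  have h1 : χ h = 1 := Abelianization.commutator_subset_ker χ hh
  exact (ZMod.natCast_eq_zero_iff_even).1 (Multiplicative.ofAdd.injective h1)

/-- A maximal totally singular subspace adjacent to, or disjoint in odd rank from, `U` is not an image of `U`. -/
theorem img_ne (hQ : Cfsg.Geo.IsNondegenerateQuadraticForm Q) {m : ℕ}
    (hn : Fintype.card ι = 2 * m) {U W : Submodule F (ι → F)} (hU : MaxSingular.IsMax (qf hQ) m U)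
    (hodd : Odd (m - finrank F ↥(U ⊓ W))) {g : GL ι F} (hg : g ∈ Cfsg.Geo.omegaGL Q) :
    img g U ≠ W := fun h => Nat.not_even_iff_odd.2 hodd (h ▸ even_dist hQ hn hU hg)

end Cfsg.Agent.Lib.Forms.FamilyParity
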