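/-
Bases adapted to forms: orthonormal bases of Hermitian forms over finite fields, orthogonal bases of
symmetric forms, discriminants, Witt index bound for the models.
-/
import Cfsg.Agent.Lib.Forms.Bridge

set_option autoImplicit false

namespace Cfsg.Agent.Lib.Forms

open Module QuadraticMap
open scoped Matrix

variable {F : Type*} [Field F]

/-! ### Hermitian forms -/

/-- The norm of an involutory automorphism of a finite field hits every fixed element. -/
theorem norm_fixed_surj [Finite F] (σ : F →+* F) (hσ : σ ≠ RingHom.id F)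
    (hσ2 : ∀ a : F, σ (σ a) = a) {r : F} (hr : σ r = r) : ∃ x, σ x * x = r := by
  classical
  by_cases hr0 : r = 0
  · exact ⟨0, by rw [hr0, mul_zero]⟩
  let s : Fˣ →* Fˣ := Units.map σ.toMonoidHom
  let N : Fˣ →* Fˣ := s * MonoidHom.id Fˣ
  let T : Fˣ →* Fˣ := MonoidHom.id Fˣ / s
  have hs : ∀ u : Fˣ, s (s u) = u := fun u => Units.ext (hσ2 u)
  -- Hilbert 90
  have hker : N.ker = T.range := by
    ext z
    constructor
    · intro hz
      have hz' : σ (z : F) * z = 1 := congrArg Units.val hz
      obtain ⟨c, hc⟩ : ∃ c : F, c + z * σ c ≠ 0 := by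
        by_contra h
        push Not at h
        have h1 := h 1
        rw [map_one, mul_one] at h1
        refine hσ (RingHom.ext fun a => ?_)
        rw [RingHom.id_apply]
        linear_combination (σ a) * h1 - h a
      refine ⟨Units.mk0 _ hc, ?_⟩
      apply Units.ext
      rw [show T (Units.mk0 _ hc) = Units.mk0 _ hc / s (Units.mk0 _ hc) from
        MonoidHom.div_apply _ _ _, Units.val_div_eq_div_val]
      show (c + z * σ c) / σ (c + z * σ c) = z
      have hd : σ (c + z * σ c) ≠ 0 := fun h => hc (by rw [← hσ2 (c + _), h, map_zero])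
      rw [div_eq_iff hd, map_add, map_mul, hσ2]
      linear_combination -c * hz'
    · rintro ⟨x, rfl⟩
      show s (x / s x) * (x / s x) = 1
      rw [map_div, hs, div_mul_div_comm, mul_comm, div_self']
  have hTker : ∀ u : Fˣ, u ∈ T.ker ↔ s u = u := fun u => by
    show u / s u = 1 ↔ _
    rw [div_eq_one, eq_comm]
  have hle : N.range ≤ T.ker := by
    rintro _ ⟨x, rfl⟩
    rw [hTker]
    show s (s x * x) = s x * x
    rw [map_mul, hs, mul_comm]
  have hcard : Nat.card T.ker ≤ Nat.card N.range := by
    have h1 := N.ker.card_mul_index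
    have h2 := T.ker.card_mul_index
    rw [Subgroup.index_ker] at h1 h2
    rw [hker] at h1
    have hpos : 0 < Nat.card T.range := Nat.card_pos
    exact le_of_eq (Nat.eq_of_mul_eq_mul_left hpos (by rw [h1, mul_comm, h2]))
  have heq := Subgroup.eq_of_le_of_card_ge hle hcard
  obtain ⟨x, hx⟩ : Units.mk0 r hr0 ∈ N.range := by
    rw [heq, hTker]; exact Units.ext hr
  exact ⟨x, congrArg Units.val hx⟩

theorem herm_isotropic_eq_zero {V : Type*} [AddCommGroup V] [Module F V] {σ : F →+* F}
    (hσ : σ ≠ RingHom.id F) {B : V →ₛₗ[σ] V →ₗ[F] F}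
    (h0 : ∀ v : V, B v v = 0) : B = 0 := by
  obtain ⟨a, ha⟩ : ∃ a, σ a ≠ a := by
    by_contra h
    push Not at h
    exact hσ (RingHom.ext h)
  have hsum : ∀ x y, B x y + B y x = 0 := fun x y => by
    have := h0 (x + y)
    simp only [map_add, LinearMap.add_apply, h0] at this
    linear_combination this
  ext x y
  have h1 := hsum x y
  have h2 := hsum (a • x) y
  simp only [LinearMap.map_smulₛₗ, LinearMap.smul_apply, smul_eq_mul, map_smul] at h2
  have h3 : (σ a - a) * B x y = 0 := by linear_combination h2 - a * h1
  simpa [sub_ne_zero.2 ha] using h3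

/-- A non-degenerate Hermitian form over a finite field has an orthonormal basis. -/
theorem exists_orthonormal_herm [Finite F] (σ : F →+* F) (hσ : σ ≠ RingHom.id F)
    (hσ2 : ∀ a : F, σ (σ a) = a) :
    ∀ (n : ℕ) {V : Type*} [AddCommGroup V] [Module F V] [FiniteDimensional F V]
      (B : V →ₛₗ[σ] V →ₗ[F] F), B.IsSymm → B.Nondegenerate → finrank F V = n →
      ∃ b : Basis (Fin n) F V, ∀ i j, B (b i) (b j) = if i = j then 1 else 0
  | 0, V, _, _, _, B, _, _, hn => ⟨finBasisOfFinrankEq F V hn, fun i => i.elim0⟩
  | n + 1, V, _, _, _, B, hS, hB, hn => by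
    have : Nontrivial V := Module.nontrivial_of_finrank_pos (R := F) (by omega)
    obtain ⟨v₀, hv₀⟩ : ∃ v, B v v ≠ 0 := by
      by_contra h
      push Not at h
      obtain ⟨x, hx⟩ := exists_ne (0 : V)
      exact hx (hB.1 x fun y => by rw [herm_isotropic_eq_zero hσ h]; rfl)
    obtain ⟨r, hr⟩ := norm_fixed_surj σ hσ hσ2 (r := (B v₀ v₀)⁻¹) (by rw [map_inv₀, hS.eq])
    obtain ⟨v, hv⟩ : ∃ v, B v v = 1 := ⟨r • v₀, by
      simp only [LinearMap.map_smulₛₗ, LinearMap.smul_apply, map_smul, smul_eq_mul]
      field_simp
      field_simp at hr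
      linear_combination hr⟩
    set K := LinearMap.ker (B v) with hKdef
    have hK : ∀ y, y - B v y • v ∈ K := fun y => by
      rw [hKdef, LinearMap.mem_ker, map_sub, map_smul, hv, smul_eq_mul, mul_one, sub_self]
    have hfr : finrank F K = n := by
      have h1 := LinearMap.finrank_range_add_finrank_ker (B v)
      have h2 : LinearMap.range (B v) = ⊤ := LinearMap.range_eq_top.2 fun c => ⟨c • v, by
        rw [map_smul, hv, smul_eq_mul, mul_one]⟩
      rw [h2, finrank_top, finrank_self] at h1
      show finrank F (LinearMap.ker (B v)) = n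
      omega
    have hperp : ∀ k : K, B v k = 0 ∧ B k v = 0 := fun k =>
      ⟨k.2, by rw [← hS.eq, show B v k = 0 from k.2, map_zero]⟩
    obtain ⟨b, hb⟩ := exists_orthonormal_herm σ hσ hσ2 n (B.domRestrict₁₂ K K) (hS.domRestrict K)
      (by
        have key : ∀ x : K, (∀ y : K, B x y = 0) → x = 0 := fun x hx =>
          Subtype.ext (hB.1 x fun y => by
            have := hx ⟨_, hK y⟩
            simpa [(hperp x).2] using this)
        exact ⟨key, fun y hy => key y fun x => by
          have := hy x
          rw [LinearMap.domRestrict₁₂_apply] at this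
          rw [← hS.eq, this, map_zero]⟩)
      hfr
    let f : Fin (n + 1) → V := Fin.cons v (fun i => (b i : V))
    have hf : ∀ i j, B (f i) (f j) = if i = j then 1 else 0 := by
      intro i j
      induction i using Fin.cases with
      | zero =>
        induction j using Fin.cases with
        | zero => simp [f, hv]
        | succ j => simp [f, (hperp (b j)).1, (Fin.succ_ne_zero j).symm]
      | succ i =>
        induction j using Fin.cases with
        | zero => simp [f, (hperp (b i)).2, Fin.succ_ne_zero i]
        | succ j =>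
          simp only [f, Fin.cons_succ, Fin.succ_inj]
          exact hb i j
    have hli : LinearIndependent F f := by
      refine Fintype.linearIndependent_iff.2 fun g hg i => ?_
      have := congrArg (B (f i)) hg
      simpa [map_sum, hf] using this
    exact ⟨basisOfLinearIndependentOfCardEqFinrank hli (by simp [hn]), fun i j => by simp [hf]⟩

/-! ### Symmetric forms -/

theorem isSquare_div_of_nonsquares [Finite F] (h2 : (2 : F) ≠ 0) {a b : F} (ha : ¬ IsSquare a)
    (hb : ¬ IsSquare b) : IsSquare (a / b) := by
  classical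
  have := Fintype.ofFinite F
  have hchar : ringChar F ≠ 2 := fun h => h2 (by
    have := ringChar.Nat.cast_ringChar (R := F)
    rw [h] at this; exact_mod_cast this)
  have ha0 : a ≠ 0 := fun h => ha (h ▸ IsSquare.zero)
  have hb0 : b ≠ 0 := fun h => hb (h ▸ IsSquare.zero)
  rw [← quadraticChar_one_iff_isSquare (div_ne_zero ha0 hb0), div_eq_mul_inv, map_mul,
    quadraticChar_neg_one_iff_not_isSquare.2 ha,
    (quadraticChar_neg_one_iff_not_isSquare (a := b⁻¹)).2 (by rwa [isSquare_inv])]
  norm_num

/-- Orthogonal basis with all values one, except possibly the last. -/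
theorem exists_orth_basis_symm [Finite F] (h2 : (2 : F) ≠ 0) {α : F} (hα : ¬ IsSquare α) :
    ∀ (n : ℕ) {V : Type*} [AddCommGroup V] [Module F V] [FiniteDimensional F V]
      (B : LinearMap.BilinForm F V), B.IsSymm → B.Nondegenerate → finrank F V = n + 1 →
      ∃ b : Basis (Fin (n + 1)) F V, (∀ i j, i ≠ j → B (b i) (b j) = 0) ∧
        (∀ i, i ≠ Fin.last n → B (b i) (b i) = 1) ∧
        (B (b (Fin.last n)) (b (Fin.last n)) = 1 ∨ B (b (Fin.last n)) (b (Fin.last n)) = α)
  | 0, V, _, _, _, B, hS, hB, hn => by
    let b₀ := finBasisOfFinrankEq F V hn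
    have hc : B (b₀ 0) (b₀ 0) ≠ 0 := by
      intro h
      refine b₀.ne_zero 0 (hB.1 _ fun y => ?_)
      rw [← b₀.sum_repr y, map_sum, Fin.sum_univ_one, map_smul, h, smul_zero]
    obtain ⟨t, ht, htv⟩ : ∃ t : F, t ≠ 0 ∧
        (t * t * B (b₀ 0) (b₀ 0) = 1 ∨ t * t * B (b₀ 0) (b₀ 0) = α) := by
      by_cases hsq : IsSquare (B (b₀ 0) (b₀ 0))
      · obtain ⟨r, hr⟩ := hsq
        have hr0 : r ≠ 0 := fun h => hc (by rw [hr, h, mul_zero])
        exact ⟨r⁻¹, inv_ne_zero hr0, Or.inl (by rw [hr]; field_simp)⟩
      · obtain ⟨r, hr⟩ := isSquare_div_of_nonsquares h2 hα hsq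
        refine ⟨r, ?_, Or.inr (by rw [← hr, div_mul_cancel₀ _ hc])⟩
        rintro rfl
        rw [mul_zero, div_eq_zero_iff] at hr
        exact hr.elim (fun h => hα (h ▸ IsSquare.zero)) hc
    let b := b₀.isUnitSMul (w := fun _ => t) (fun _ => ht.isUnit)
    refine ⟨b, fun i j h => absurd (Fin.ext (by omega)) h,
      fun i h => absurd (Fin.ext (by simp)) h, ?_⟩
    simpa [b, Basis.isUnitSMul_apply, mul_assoc] using htv
  | n + 1, V, _, _, _, B, hS, hB, hn => by
    obtain ⟨v, hv⟩ : ∃ v, B v v = 1 := by
      let Q : QuadraticForm F V := B.toQuadraticMap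
      have hQ : Nondeg Q := by
        intro x hx
        refine hB.1 x fun y => ?_
        have := hx y
        rw [LinearMap.BilinMap.polar_toQuadraticMap, hS.eq y x] at this
        exact (mul_eq_zero.1 (show (2 : F) * B x y = 0 by linear_combination this)).resolve_left h2
      exact exists_Q_eq hQ (by omega) 1
    have hv0 : B v v ≠ 0 := by rw [hv]; exact one_ne_zero
    have hrefl : B.IsRefl := fun x y h => by rw [hS.eq y x]; exact h
    set K := B.orthogonal (Submodule.span F {v}) with hK
    have hfr : finrank F K = n + 1 := by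
      rw [hK, LinearMap.BilinForm.finrank_orthogonal hB, hn,
        finrank_span_singleton (fun h => hv0 (by rw [h, map_zero]))]
      omega
    have hSK : (B.restrict K).IsSymm := ⟨fun x y => hS.eq (x : V) (y : V)⟩
    obtain ⟨b, hb1, hb2, hb3⟩ := exists_orth_basis_symm h2 hα n (B.restrict K) hSK
      (B.restrict_nondegenerate_orthogonal_spanSingleton hB hrefl hv0) hfr
    have hperp : ∀ k : K, B v k = 0 ∧ B k v = 0 := fun k => by
      have h := k.2 v (Submodule.mem_span_singleton_self v)
      exact ⟨h, hrefl _ _ h⟩
    let f : Fin (n + 2) → V := Fin.cons v (fun i => (b i : V))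
    have hfo : ∀ i j, i ≠ j → B (f i) (f j) = 0 := by
      intro i j hij
      induction i using Fin.cases with
      | zero =>
        induction j using Fin.cases with
        | zero => exact absurd rfl hij
        | succ j => simpa [f] using (hperp (b j)).1
      | succ i =>
        induction j using Fin.cases with
        | zero => simpa [f] using (hperp (b i)).2
        | succ j => simpa [f] using hb1 i j (fun h => hij (congrArg Fin.succ h))
    have hlast : f (Fin.last (n + 1)) = (b (Fin.last n) : V) := by
      rw [← Fin.succ_last]; simp [f]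
    have hfd : ∀ i, B (f i) (f i) ≠ 0 := by
      intro i
      induction i using Fin.cases with
      | zero => simpa [f] using hv0
      | succ i =>
        simp only [f, Fin.cons_succ]
        intro h
        by_cases hi : i = Fin.last n
        · subst hi
          rcases hb3 with h1 | h1
          · exact one_ne_zero (h1.symm.trans h)
          · exact hα ((h1.symm.trans h) ▸ IsSquare.zero)
        · exact one_ne_zero ((hb2 i hi).symm.trans h)
    have hli : LinearIndependent F f :=
      LinearMap.BilinForm.linearIndependent_of_iIsOrtho (B := B) (fun i j h => hfo i j h) hfd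
    let c := basisOfLinearIndependentOfCardEqFinrank hli (by simp [hn])
    refine ⟨c, fun i j h => by simpa [c] using hfo i j h, fun i hi => ?_, ?_⟩
    · induction i using Fin.cases with
      | zero => simpa [c, f] using hv
      | succ i =>
        simpa [c, f] using hb2 i (fun h => hi (by rw [h, Fin.succ_last]))
    · simp only [c, coe_basisOfLinearIndependentOfCardEqFinrank, hlast]
      exact hb3

/-! ### Discriminants of diagonal forms -/

theorem gram_weightedSumSquares {ι : Type} [Fintype ι] [DecidableEq ι] (w : ι → F) :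
    gram (weightedSumSquares F w) = Matrix.diagonal (fun i => 2 * w i) := by
  ext i j
  show polar (weightedSumSquares F w) (Pi.single i 1) (Pi.single j 1) = _
  rcases eq_or_ne i j with rfl | h
  · rw [Matrix.diagonal_apply_eq, polar_self']
    simp [Pi.single_apply]
  · rw [Matrix.diagonal_apply_ne _ h]
    simp only [polar, weightedSumSquares_apply, ← Finset.sum_sub_distrib, Pi.add_apply, smul_eq_mul]
    refine Finset.sum_eq_zero fun k _ => ?_
    by_cases hk : k = i
    · subst hk; simp [h]
    · simp [hk]

/-- Equivalent diagonal forms have discriminants in the same square class. -/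
theorem disc_of_equivalent {ι : Type} [Fintype ι] [DecidableEq ι] (h2 : (2 : F) ≠ 0) (w w' : ι → F)
    (h : (weightedSumSquares F w).Equivalent (weightedSumSquares F w')) :
    ∃ d : F, ∏ i, w i = d * d * ∏ i, w' i := by
  obtain ⟨e⟩ := h
  refine ⟨(LinearMap.toMatrix' e.toLinearEquiv.toLinearMap).det, ?_⟩
  set G := LinearMap.toMatrix' e.toLinearEquiv.toLinearMap
  have hG : Gᵀ * gram (weightedSumSquares F w') * G = gram (weightedSumSquares F w) := by
    ext i j
    have h1 := polar_map (Q := weightedSumSquares F w) e.toLinearEquiv.toLinearMap e.map_app'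
      (Pi.single i 1) (Pi.single j 1)
    have hcol : ∀ k, e.toLinearEquiv.toLinearMap (Pi.single k 1) = G.col k := fun k => by
      funext l; simp [G, LinearMap.toMatrix'_apply, Matrix.col_apply]
    rw [hcol, hcol, polar_eq_gram, polar_eq_gram] at h1
    rw [Matrix.mul_assoc, Matrix.mul_apply']
    simp only [Matrix.mulVec_single_one] at h1
    have h2' : gram (weightedSumSquares F w) i j =
        Pi.single i 1 ⬝ᵥ (gram (weightedSumSquares F w)).col j := by simp
    rw [h2', ← h1]
    rfl
  have hd := congrArg Matrix.det hG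
  rw [Matrix.det_mul, Matrix.det_mul, Matrix.det_transpose, gram_weightedSumSquares,
    gram_weightedSumSquares, Matrix.det_diagonal, Matrix.det_diagonal, Finset.prod_mul_distrib,
    Finset.prod_mul_distrib] at hd
  apply mul_left_cancel₀ (a := ∏ _i : ι, (2 : F)) (Finset.prod_ne_zero_iff.2 fun _ _ => h2)
  linear_combination -hd

/-- The hyperbolic form is diagonal `1, -1`. -/
theorem qPlus_equiv_diag (h2 : (2 : F) ≠ 0) (m : ℕ) :
    (qPlus (F := F) m).Equivalent
      (weightedSumSquares F (Sum.elim (fun _ => (1 : F)) (fun _ => -1) : Fin m ⊕ Fin m → F)) :=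
  ⟨{ toFun := fun v => Sum.elim (fun i => (v (.inl i) + v (.inr i)) / 2)
        (fun i => (v (.inl i) - v (.inr i)) / 2)
     map_add' := fun x y => by funext i; rcases i with i | i <;> simp <;> ring
     map_smul' := fun a x => by funext i; rcases i with i | i <;> simp <;> ring
     invFun := fun v => Sum.elim (fun i => v (.inl i) + v (.inr i)) (fun i => v (.inl i) - v (.inr i))
     left_inv := fun v => by funext i; rcases i with i | i <;> simp <;> field_simp <;> ring
     right_inv := fun v => by funext i; rcases i with i | i <;> simp <;> field_simp <;> ring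
     map_app' := fun v => by
       simp only [weightedSumSquares_apply, qPlus_apply, Fintype.sum_sum_type, Sum.elim_inl,
         Sum.elim_inr, ← Finset.sum_add_distrib, smul_eq_mul]
       exact Finset.sum_congr rfl fun i _ => by field_simp; ring }⟩

/-! ### Witt index -/

/-- A totally singular subspace of `qPlus k ⊕ R`, `R` anisotropic, has dimension at most `k`. -/
theorem witt_index_le {W : Type*} [AddCommGroup W] [Module F W] [FiniteDimensional F W]
    {R : QuadraticForm F W} (hR : Nondeg R) (hA : R.Anisotropic) (k : ℕ)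
    (U : Submodule F ((Fin k ⊕ Fin k → F) × W)) (hU : ∀ u ∈ U, ((qPlus k).prod R) u = 0) :
    finrank F U ≤ k := by
  classical
  let e : (Fin k → F) →ₗ[F] ((Fin k ⊕ Fin k → F) × W) :=
    LinearMap.prod
      ((LinearEquiv.sumArrowLequivProdArrow (Fin k) (Fin k) F F).symm.toLinearMap.comp
        (LinearMap.inl F (Fin k → F) (Fin k → F))) 0
  have he : ∀ z, e z = (Sum.elim z 0, 0) := fun z => by
    ext i
    · rcases i with i | i <;> rfl
    · rfl
  have hinj : Function.Injective e := by
    intro a b h
    rw [he, he] at h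
    funext i
    exact congrFun (congrArg Prod.fst h) (.inl i)
  set W₀ := LinearMap.range e
  have hW₀ : ∀ u ∈ W₀, ((qPlus (F := F) k).prod R) u = 0 := by
    rintro _ ⟨z, rfl⟩
    simp [he, qPlus_apply]
  have hmax : ∀ X : Submodule F ((Fin k ⊕ Fin k → F) × W), W₀ ≤ X →
      (∀ u ∈ X, ((qPlus (F := F) k).prod R) u = 0) → X = W₀ := by
    intro X hX hsing
    refine le_antisymm (fun x hx => ?_) hX
    obtain ⟨v, w⟩ := x
    have hr : ∀ i, v (.inr i) = 0 := by
      intro i
      have h0 := singular_polar hsing (hX ⟨Pi.single i 1, rfl⟩) hx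
      rw [he, polar_prod, qPlus_polar, polar_zero_left, add_zero] at h0
      simpa [Pi.single_apply] using h0
    have hw : w = 0 := hA w (by
      have := hsing _ hx
      simpa [qPlus_apply, hr] using this)
    refine ⟨fun i => v (.inl i), ?_⟩
    rw [he]
    refine Prod.ext (funext fun i => ?_) hw.symm
    rcases i with i | i
    · rfl
    · exact (hr i).symm
  have hN : Nondeg ((qPlus (F := F) k).prod R) := prod_nondeg (qPlus_nondeg k) hR
  have hk : finrank F W₀ = k := (LinearMap.finrank_range_of_inj hinj).trans (by simp)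
  by_contra hlt
  obtain ⟨g, hg, hle⟩ := exists_orth_map_le hN W₀ U hW₀ hU (by omega)
  have h := hmax (U.comap (g : _ ≃ₗ[F] _).toLinearMap) (Submodule.map_le_iff_le_comap.1 hle)
    fun w hw => by
      have := hU _ hw
      rwa [LinearEquiv.coe_coe, hg] at this
  have h' : finrank F U = finrank F W₀ := by
    rw [← h, Submodule.comap_equiv_eq_map_symm]
    exact (LinearEquiv.finrank_map_eq _ _).symm
  omega

end Cfsg.Agent.Lib.Forms
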