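/-
Tensor products of non-degenerate bilinear forms and the discriminant criterion for a symmetric
form in odd characteristic to have a totally isotropic subspace of half the dimension.
-/
import Cfsg.Agent.Lib.Forms.Basis
import Cfsg.Agent.Lib.Forms.MaxSingular

set_option autoImplicit false

namespace Cfsg.Agent.Lib.Forms.Tensor

open Module QuadraticMap
open scoped TensorProduct

variable {F : Type*} [Field F] {U W : Type*} [AddCommGroup U] [Module F U]
  [AddCommGroup W] [Module F W] [FiniteDimensional F U] [FiniteDimensional F W]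

omit [FiniteDimensional F U] [FiniteDimensional F W] in
theorem tmul_apply' (B₁ : LinearMap.BilinForm F U) (B₂ : LinearMap.BilinForm F W)
    (u u' : U) (w w' : W) : B₁.tmul B₂ (u ⊗ₜ w) (u' ⊗ₜ w') = B₂ w w' * B₁ u u' := rfl

theorem nondegenerate_tmul {B₁ : LinearMap.BilinForm F U} {B₂ : LinearMap.BilinForm F W}
    (h₁ : B₁.Nondegenerate) (h₂ : B₂.Nondegenerate) (hsymm : (B₁.tmul B₂).IsSymm) :
    (B₁.tmul B₂).Nondegenerate := by
  classical
  let b := Module.finBasis F U
  let c := Module.finBasis F W
  let b' := (LinearMap.BilinForm.flip B₁).dualBasis h₁.flip b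
  let c' := (LinearMap.BilinForm.flip B₂).dualBasis h₂.flip c
  have hb : ∀ i k, B₁ (b i) (b' k) = if i = k then 1 else 0 := fun i k =>
    LinearMap.BilinForm.apply_dualBasis_left h₁.flip b k i
  have hc : ∀ i k, B₂ (c i) (c' k) = if i = k then 1 else 0 := fun i k =>
    LinearMap.BilinForm.apply_dualBasis_left h₂.flip c k i
  have hleft : ∀ x, (∀ y, B₁.tmul B₂ x y = 0) → x = 0 := by
    intro x hx
    rw [← (b.tensorProduct c).sum_repr x]
    refine Finset.sum_eq_zero fun ij _ => ?_
    have h := hx (b' ij.1 ⊗ₜ c' ij.2)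
    conv_lhs at h => rw [← (b.tensorProduct c).sum_repr x]
    rw [map_sum, LinearMap.sum_apply, Finset.sum_eq_single ij] at h
    · rw [map_smul, LinearMap.smul_apply, Basis.tensorProduct_apply', tmul_apply', hb, hc,
        if_pos rfl, if_pos rfl, smul_eq_mul, mul_one, mul_one] at h
      rw [h, zero_smul]
    · intro kl _ hne
      rw [map_smul, LinearMap.smul_apply, Basis.tensorProduct_apply', tmul_apply', hb, hc]
      by_cases h1 : kl.1 = ij.1
      · rw [if_neg fun h2 => hne (Prod.ext h1 h2), zero_mul, smul_zero]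
      · rw [if_neg h1, mul_zero, smul_zero]
    · simp
  refine ⟨hleft, fun y hy => hleft y fun x => ?_⟩
  exact (hsymm.eq x y).symm.trans (hy x)

omit [FiniteDimensional F U] in
/-- `L ⊗ W` is totally isotropic when `L` is. -/
theorem exists_isotropic {B₁ : LinearMap.BilinForm F U} (B₂ : LinearMap.BilinForm F W)
    (L : Submodule F U) (hL : ∀ x ∈ L, ∀ y ∈ L, B₁ x y = 0) :
    ∃ X : Submodule F (U ⊗[F] W), finrank F X = finrank F L * finrank F W ∧
      ∀ x ∈ X, ∀ y ∈ X, B₁.tmul B₂ x y = 0 := by
  let f := L.subtype.rTensor W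
  refine ⟨LinearMap.range f, ?_, ?_⟩
  · rw [LinearMap.finrank_range_of_inj
      (Module.Flat.rTensor_preserves_injective_linearMap _ L.injective_subtype),
      Module.finrank_tensorProduct]
  · rintro _ ⟨x, rfl⟩ _ ⟨y, rfl⟩
    induction x using TensorProduct.induction_on with
    | zero => simp
    | add a b ha hb => simp [map_add, ha, hb]
    | tmul a w =>
      induction y using TensorProduct.induction_on with
      | zero => simp
      | add c d hc hd => rw [map_add, map_add, hc, hd, add_zero]
      | tmul c w' =>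
        simp only [f, LinearMap.rTensor_tmul]
        rw [tmul_apply', Submodule.subtype_apply, Submodule.subtype_apply, hL _ a.2 _ c.2, mul_zero]

section disc

variable {V : Type*} [AddCommGroup V] [Module F V] [FiniteDimensional F V]

/-- Reindexing a diagonal form. -/
theorem wSS_reindex {ι κ : Type} [Fintype ι] [Fintype κ] (e : ι ≃ κ) (w : κ → F) :
    (weightedSumSquares F w).Equivalent (weightedSumSquares F (w ∘ e)) :=
  ⟨{ toLinearEquiv := LinearEquiv.funCongrLeft F F e
     map_app' := fun v => by
       simp only [weightedSumSquares_apply]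
       exact e.sum_comp fun k => w k • (v k * v k) }⟩

/-- The sum of two diagonal forms is diagonal. -/
theorem wSS_prod {ι κ : Type} [Fintype ι] [Fintype κ] (w : ι → F) (w' : κ → F) :
    ((weightedSumSquares F w).prod (weightedSumSquares F w')).Equivalent
      (weightedSumSquares F (Sum.elim w w')) :=
  ⟨{ toLinearEquiv := (LinearEquiv.sumArrowLequivProdArrow ι κ F F).symm
     map_app' := fun v => by
       simp [weightedSumSquares_apply, Fintype.sum_sum_type, LinearEquiv.sumArrowLequivProdArrow, Equiv.sumArrowEquivProdArrow] }⟩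

variable [Finite F]

omit [Finite F] in
theorem qBin_diag (h2 : (2 : F) ≠ 0) (a b : F) :
    (qBin a b).Equivalent (weightedSumSquares F ![1, (4 * b - a ^ 2) / 4]) := by
  have h4 : (4 : F) ≠ 0 := by rw [show (4 : F) = 2 * 2 by norm_num]; exact mul_ne_zero h2 h2
  exact ⟨{ toFun := fun v => ![v 0 + a / 2 * v 1, v 1]
           map_add' := fun x y => by funext i; fin_cases i <;> simp; ring
           map_smul' := fun c x => by funext i; fin_cases i <;> simp; ring
           invFun := fun v => ![v 0 - a / 2 * v 1, v 1]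
           left_inv := fun v => by funext i; fin_cases i <;> simp
           right_inv := fun v => by funext i; fin_cases i <;> simp
           map_app' := fun v => by
             simp [weightedSumSquares_apply, qBin_apply, Fin.sum_univ_two]
             field_simp
             ring }⟩

theorem nondeg_toQuadratic (h2 : (2 : F) ≠ 0) {B : LinearMap.BilinForm F V} (hS : B.IsSymm)
    (hB : B.Nondegenerate) : Nondeg (B.toQuadraticMap : QuadraticForm F V) := by
  intro x hx
  refine hB.1 x fun y => ?_
  have := hx y
  rw [LinearMap.BilinMap.polar_toQuadraticMap, hS.eq y x] at this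
  exact (mul_eq_zero.1 (show (2 : F) * B x y = 0 by linear_combination this)).resolve_left h2

omit [Finite F] [FiniteDimensional F V] in
theorem toQuadratic_equiv_diag {B : LinearMap.BilinForm F V} {ι : Type} [Fintype ι]
    (b : Basis ι F V) (hb : ∀ i j, i ≠ j → B (b i) (b j) = 0) :
    (B.toQuadraticMap : QuadraticForm F V).Equivalent
      (weightedSumSquares F fun i => B (b i) (b i)) := by
  classical
  refine ⟨{ toLinearEquiv := b.equivFun, map_app' := fun v => ?_ }⟩
  have key : ∀ x : ι → F, B (∑ i, x i • b i) (∑ i, x i • b i) = ∑ i, B (b i) (b i) * (x i * x i) := by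
    intro x
    simp only [map_sum, LinearMap.sum_apply, map_smul, LinearMap.smul_apply, smul_eq_mul]
    refine Finset.sum_congr rfl fun i _ => ?_
    rw [Finset.sum_eq_single i]
    · ring
    · intro j _ hj; simp [hb _ _ hj, hb _ _ (Ne.symm hj)]
    · simp
  rw [LinearMap.BilinMap.toQuadraticMap_apply]
  refine Eq.trans ?_ ((key (b.equivFun v)).symm.trans (by rw [b.sum_equivFun]))
  simp [weightedSumSquares_apply]

/-- Half-dimensional totally isotropic subspaces exist iff the signed discriminant is a square. -/
theorem exists_lagrangian_iff (h2 : (2 : F) ≠ 0) {B : LinearMap.BilinForm F V} (hS : B.IsSymm)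
    (hB : B.Nondegenerate) {ι : Type} [Fintype ι] (b : Basis ι F V)
    (hb : ∀ i j, i ≠ j → B (b i) (b j) = 0) (n : ℕ) (hn : Fintype.card ι = 2 * n) :
    (∃ X : Submodule F V, finrank F X = n ∧ ∀ x ∈ X, ∀ y ∈ X, B x y = 0) ↔
      IsSquare ((-1 : F) ^ n * ∏ i, B (b i) (b i)) := by
  classical
  set Q : QuadraticForm F V := B.toQuadraticMap with hQdef
  have hQ : Nondeg Q := nondeg_toQuadratic h2 hS hB
  have hV : finrank F V = 2 * n := by rw [finrank_eq_card_basis b, hn]
  have hQd := toQuadratic_equiv_diag b hb
  have hQapp : ∀ x, Q x = B x x := fun x => rfl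
  -- hyperbolic forms
  have hplus : ∀ k, Q.Equivalent (qPlus k) → k = n →
      IsSquare ((-1 : F) ^ n * ∏ i, B (b i) (b i)) := by
    rintro k he rfl
    let e : ι ≃ Fin k ⊕ Fin k := Fintype.equivOfCardEq (by simp [hn, two_mul])
    obtain ⟨d, hd⟩ := disc_of_equivalent h2 _ _
      ((hQd.symm.trans he).trans ((qPlus_equiv_diag h2 k).trans (wSS_reindex e _)))
    simp only [Function.comp_apply, e.prod_comp, Fintype.prod_sum_type, Sum.elim_inl, Sum.elim_inr,
      Finset.prod_const_one, one_mul, Finset.prod_const, Finset.card_univ, Fintype.card_fin] at hd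
    refine ⟨d, ?_⟩
    rw [hd, mul_comm (d * d), ← mul_assoc, ← mul_pow, neg_one_mul, neg_neg, one_pow, one_mul]
  rcases classify Q hQ with ⟨k, hk, he⟩ | ⟨k, c, _, _, hk, _⟩ | ⟨k, a, a', hab, hk, he⟩
  · have hkn : k = n := by omega
    refine iff_of_true ?_ (hplus k he hkn)
    subst hkn
    obtain ⟨e⟩ := he
    set X := MaxSingular.stdX F k
    have hX : finrank F X = k := MaxSingular.isMax_stdX.1
    have hXs : ∀ w ∈ X, qPlus k w = 0 := MaxSingular.isMax_stdX.2
    refine ⟨X.comap e.toLinearEquiv.toLinearMap, ?_, fun x hx y hy => ?_⟩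
    · rw [Submodule.comap_equiv_eq_map_symm, LinearEquiv.finrank_map_eq, hX]
    · have hs : ∀ w ∈ X.comap e.toLinearEquiv.toLinearMap, Q w = 0 := fun w hw =>
        (e.map_app w).symm.trans (hXs _ hw)
      have h := singular_polar hs hx hy
      rw [hQdef, LinearMap.BilinMap.polar_toQuadraticMap, hS.eq y x] at h
      exact (mul_eq_zero.1 (show (2 : F) * B x y = 0 by linear_combination h)).resolve_left h2
  · omega
  · refine iff_of_false ?_ ?_
    · rintro ⟨X, hX, hXB⟩
      obtain ⟨e⟩ := he
      have hle := witt_index_le (qBin_nondeg hab) (qBin_anisotropic hab) k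
        (X.map e.toLinearEquiv.toLinearMap) (by
          rintro _ ⟨x, hx, rfl⟩
          exact (e.map_app x).trans ((hQapp x).trans (hXB x hx x hx)))
      rw [LinearEquiv.finrank_map_eq, hX] at hle
      omega
    · intro hsq
      let w : (Fin k ⊕ Fin k) ⊕ Fin 2 → F :=
        Sum.elim (Sum.elim (fun _ => 1) fun _ => -1) ![1, (4 * a' - a ^ 2) / 4]
      let e : ι ≃ (Fin k ⊕ Fin k) ⊕ Fin 2 := Fintype.equivOfCardEq (by simp; omega)
      obtain ⟨d, hd⟩ := disc_of_equivalent h2 _ _ ((hQd.symm.trans he).trans
        ((((qPlus_equiv_diag h2 k).prod (qBin_diag h2 a a')).trans (wSS_prod _ _)).trans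
          (wSS_reindex e w)))
      simp only [Function.comp_apply, e.prod_comp, w, Fintype.prod_sum_type, Sum.elim_inl,
        Sum.elim_inr, Finset.prod_const_one, one_mul, Finset.prod_const, Finset.card_univ,
        Fintype.card_fin, Fin.prod_univ_two, Matrix.cons_val_zero, Matrix.cons_val_one] at hd
      obtain rfl : n = k + 1 := by omega
      obtain ⟨r, hr⟩ := hsq
      have hkey : (-1 : F) ^ k * (-1) ^ k = 1 := by rw [← mul_pow, neg_one_mul, neg_neg, one_pow]
      have h4 : (4 : F) ≠ 0 := by rw [show (4 : F) = 2 * 2 by norm_num]; exact mul_ne_zero h2 h2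
      rw [hd, pow_succ] at hr
      rcases eq_or_ne d 0 with hd0 | hd0
      · -- the discriminant is non-zero
        rw [hd0] at hd
        simp only [mul_zero, zero_mul] at hd
        obtain ⟨i, -, hi⟩ := Finset.prod_eq_zero_iff.1 hd
        refine b.ne_zero i (hB.1 _ fun y => ?_)
        rw [← b.sum_repr y, map_sum]
        refine Finset.sum_eq_zero fun j _ => ?_
        rcases eq_or_ne i j with rfl | hij
        · rw [map_smul, hi, smul_zero]
        · rw [map_smul, hb i j hij, smul_zero]
      have hX4 : (4 * a' - a ^ 2) / 4 * 4 = 4 * a' - a ^ 2 := div_mul_cancel₀ _ h4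
      obtain ⟨s, hs⟩ : ∃ s, s * s = a ^ 2 - 4 * a' := by
        refine ⟨2 * r / d, ?_⟩
        rw [div_mul_div_comm, div_eq_iff (mul_ne_zero hd0 hd0)]
        linear_combination (-4 : F) * hr - (4 * a' - a ^ 2) * (d * d) * hkey -
          ((-1 : F) ^ k * (-1) ^ k * (d * d)) * hX4
      have := hab ((-a + s) / 2) 1 (by field_simp; linear_combination hs)
      exact one_ne_zero this.2

end disc

end Cfsg.Agent.Lib.Forms.Tensor
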