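import Cfsg.Agent.Lib.Forms.Bridge
import Cfsg.Prelude.Def_SporadicB

/-!
Over the field with two elements the reflections of a non-degenerate quadratic form are the
elements `g` with `g - 1` of rank one, and form a class of 3-transpositions generating the group.
-/

set_option autoImplicit false

namespace Cfsg.Agent.Lib.Forms.TwoTranspositions

open Module QuadraticMap

variable {F : Type*} [Field F] {V : Type*} [AddCommGroup V] [Module F V] [FiniteDimensional F V]
  {Q : QuadraticForm F V}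

theorem two_zero (h1 : ∀ a : F, a ≠ 0 → a = 1) : (2 : F) = 0 := by
  by_contra h
  have := h1 2 h
  exact one_ne_zero (α := F) (by linear_combination this)

theorem neg_eq' (h1 : ∀ a : F, a ≠ 0 → a = 1) (x : V) : -x = x := by
  have : (2 : F) • x = 0 := by rw [two_zero h1, zero_smul]
  rw [two_smul] at this
  exact (eq_neg_of_add_eq_zero_left this).symm

omit [FiniteDimensional F V] in
theorem refl_two (h1 : ∀ a : F, a ≠ 0 → a = 1) {v : V} (hv : Q v ≠ 0) (x : V) :
    refl Q v x = x + polar Q v x • v := by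
  rw [refl_apply, h1 _ hv, inv_one, one_mul, sub_eq_add_neg, ← smul_neg]
  congr 2
  have : (2 : F) • v = 0 := by rw [two_zero h1, zero_smul]
  rw [two_smul] at this
  exact (eq_neg_of_add_eq_zero_left this).symm

theorem orefl_ne_one (hQ : Nondeg Q) {v : V} (hv : Q v ≠ 0) : orefl Q v ≠ 1 := fun e => by
  have hv0 : v ≠ 0 := fun h => hv (by rw [h, QuadraticMap.map_zero])
  obtain ⟨x, hx⟩ : ∃ x, polar Q v x ≠ 0 := by
    by_contra hc
    push Not at hc
    exact hv0 (hQ v hc)
  have h : refl Q v x = x := by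
    have := congrArg Subtype.val e
    exact LinearEquiv.congr_fun this x
  rw [refl_apply, sub_eq_self, smul_eq_zero] at h
  exact h.elim (mul_ne_zero (inv_ne_zero hv) hx) hv0

omit [FiniteDimensional F V] in
theorem orefl_mul_self (v : V) : orefl Q v * orefl Q v = 1 := Subtype.ext (refl_mul_self Q v)

omit [FiniteDimensional F V] in
theorem orefl_conj (g : orth Q) (v : V) : g * orefl Q v * g⁻¹ = orefl Q (g.1 v) :=
  Subtype.ext (refl_conj g.2 v)

omit [FiniteDimensional F V] in
theorem orefl_inv (v : V) : (orefl Q v)⁻¹ = orefl Q v :=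
  inv_eq_of_mul_eq_one_right (orefl_mul_self v)

omit [FiniteDimensional F V] in
theorem three_transposition (h1 : ∀ a : F, a ≠ 0 → a = 1) {u v : V} (hu : Q u ≠ 0) (hv : Q v ≠ 0) :
    (orefl Q u * orefl Q v) ^ 2 = 1 ∨ (orefl Q u * orefl Q v) ^ 3 = 1 := by
  have hc := orefl_conj (Q := Q) (orefl Q u) v
  rw [orefl_inv, show (orefl Q u).1 v = refl Q u v from rfl, refl_two h1 hu] at hc
  by_cases h : polar Q u v = 0
  · left
    rw [h, zero_smul, add_zero] at hc
    rw [_root_.sq, ← mul_assoc, hc, orefl_mul_self]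
  · right
    have hc' := orefl_conj (Q := Q) (orefl Q v) u
    rw [orefl_inv, show (orefl Q v).1 u = refl Q v u from rfl, refl_two h1 hv, polar_comm Q v u,
      h1 _ h, one_smul] at hc'
    rw [h1 _ h, one_smul] at hc
    calc (orefl Q u * orefl Q v) ^ 3 =
        (orefl Q u * orefl Q v * orefl Q u) * (orefl Q v * orefl Q u * orefl Q v) := by
          simp only [pow_succ, pow_zero, one_mul, mul_assoc]
      _ = 1 := by rw [hc, hc', add_comm u v, orefl_mul_self]

/-- Elements with a one-dimensional deviation are reflections. -/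
theorem eq_orefl (hQ : Nondeg Q) (h1 : ∀ a : F, a ≠ 0 → a = 1) (g : orth Q)
    (h : finrank F (LinearMap.range (dev g.1)) = 1) : ∃ v, Q v ≠ 0 ∧ g = orefl Q v := by
  obtain ⟨⟨d, ⟨y, hy⟩⟩, hd0, hspan⟩ := finrank_eq_one_iff'.1 h
  have hd : d ≠ 0 := fun e => hd0 (Subtype.ext e)
  have key : ∀ x, ∃ c : F, dev g.1 x = c • d := fun x => by
    obtain ⟨c, hc⟩ := hspan ⟨dev g.1 x, LinearMap.mem_range_self _ x⟩
    exact ⟨c, (congrArg Subtype.val hc).symm⟩
  obtain ⟨z, hz⟩ : ∃ z, polar Q d z ≠ 0 := by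
    by_contra hc
    push Not at hc
    exact hd (hQ d hc)
  have hrel : ∀ x, dev g.1 x = polar Q d x • d ∧ (dev g.1 x ≠ 0 → polar Q d x = -Q d) := by
    intro x
    obtain ⟨c, hc⟩ := key x
    by_cases hc0 : c = 0
    · rw [hc0, zero_smul] at hc
      have hx : x ∈ fixSpace g.1 := hc
      have h0 : polar Q x d = 0 := by rw [← hy]; exact polar_fix_dev g.2 hx y
      refine ⟨?_, fun hne => absurd hc hne⟩
      rw [polar_comm, h0, zero_smul, hc]
    · rw [h1 c hc0, one_smul] at hc
      have hp := polar_self_dev g.2 x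
      rw [hc] at hp
      have hne : polar Q d x ≠ 0 := by
        intro h0
        -- `x` and `x + z` would both be moved by `d`
        obtain ⟨c', hc'⟩ := key z
        have hz' : c' ≠ 0 := by
          intro e
          rw [e, zero_smul] at hc'
          apply hz
          rw [polar_comm, ← hy]
          exact polar_fix_dev g.2 (show z ∈ fixSpace g.1 from hc') y
        have hpz := polar_self_dev g.2 z
        rw [hc', h1 c' hz', one_smul, polar_comm] at hpz
        rw [polar_comm, h0] at hp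
        exact hz (by rw [hpz, ← hp])
      refine ⟨by rw [h1 _ hne, one_smul, hc], fun _ => by rw [polar_comm]; exact hp⟩
  have hQd : Q d ≠ 0 := by
    intro h0
    have := (hrel y).2 (by rw [hy]; exact hd)
    rw [h0, neg_zero] at this
    have h2 := (hrel y).1
    rw [this, zero_smul, hy] at h2
    exact hd h2
  refine ⟨d, hQd, Subtype.ext (LinearEquiv.ext fun x => ?_)⟩
  show g.1 x = refl Q d x
  rw [refl_two h1 hQd, apply_eq_add_dev, (hrel x).1]

theorem finrank_dev_orefl (hQ : Nondeg Q) {v : V} (hv : Q v ≠ 0) :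
    finrank F (LinearMap.range (dev (refl Q v))) = 1 := by
  have hv0 : v ≠ 0 := fun h => hv (by rw [h, QuadraticMap.map_zero])
  obtain ⟨x, hx⟩ : ∃ x, polar Q v x ≠ 0 := by
    by_contra hc
    push Not at hc
    exact hv0 (hQ v hc)
  have e : LinearMap.range (dev (refl Q v)) = F ∙ v := by
    refine le_antisymm ?_ ?_
    · rintro _ ⟨y, rfl⟩
      refine Submodule.mem_span_singleton.2 ⟨-((Q v)⁻¹ * polar Q v y), ?_⟩
      rw [dev_apply, refl_apply]; module
    · rw [Submodule.span_singleton_le_iff_mem]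
      refine ⟨(-((Q v)⁻¹ * polar Q v x))⁻¹ • x, ?_⟩
      rw [map_smul, dev_apply, refl_apply, sub_sub_cancel_left, ← neg_smul, smul_smul,
        inv_mul_cancel₀ (neg_ne_zero.2 (mul_ne_zero (inv_ne_zero hv) hx)), one_smul]
  rw [e, finrank_span_singleton hv0]

theorem orth_class (hQ : Nondeg Q) (h1 : ∀ a : F, a ≠ 0 → a = 1) (h4 : finrank F V ≠ 4)
    (hne : ∃ v, Q v ≠ 0) : Cfsg.IsThreeTranspositionClass (reflSet Q) := by
  refine ⟨⟨?_, ?_⟩, ?_, closure_reflSet hQ (Or.inr h4)⟩
  · rintro _ ⟨v, hv, rfl⟩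
    exact orderOf_eq_prime (by rw [_root_.sq]; exact orefl_mul_self v) (orefl_ne_one hQ hv)
  · rintro _ ⟨u, hu, rfl⟩ _ ⟨v, hv, rfl⟩
    exact three_transposition h1 hu hv
  · obtain ⟨v, hv⟩ := hne
    refine ⟨orefl Q v, ⟨v, hv, rfl⟩, Set.ext fun g => ?_⟩
    simp only [conjugatesOf, Set.mem_ofPred_eq, isConj_iff]
    constructor
    · rintro ⟨w, hw, rfl⟩
      obtain ⟨g, hg, hgv⟩ := witt_one hQ (v := v) (w := w)
        (fun h => hv (by rw [h, QuadraticMap.map_zero]))
        (fun h => hw (by rw [h, QuadraticMap.map_zero])) (by rw [h1 _ hv, h1 _ hw])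
      exact ⟨⟨g, hg⟩, by rw [orefl_conj]; exact congrArg (orefl Q) hgv⟩
    · rintro ⟨c, rfl⟩
      exact ⟨c.1 v, by rw [c.2]; exact hv, orefl_conj c v⟩

theorem class_of_equiv {G H : Type*} [Group G] [Group H] (e : G ≃* H) {D : Set G} {E : Set H}
    (hE : Cfsg.IsThreeTranspositionClass E) (h : ∀ g, g ∈ D ↔ e g ∈ E) :
    Cfsg.IsThreeTranspositionClass D := by
  obtain ⟨⟨ho, hp⟩, ⟨d, hd, hdE⟩, hgen⟩ := hE
  refine ⟨⟨fun g hg => ?_, fun g hg k hk => ?_⟩, ⟨e.symm d, ?_, Set.ext fun g => ?_⟩, ?_⟩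
  · rw [← orderOf_injective e.toMonoidHom e.injective]; exact ho _ ((h g).1 hg)
  · rcases hp _ ((h g).1 hg) _ ((h k).1 hk) with h' | h'
    · exact Or.inl (e.injective (by simpa using h'))
    · exact Or.inr (e.injective (by simpa using h'))
  · rw [h, e.apply_symm_apply]; exact hd
  · rw [h, hdE]; simp only [conjugatesOf, Set.mem_ofPred_eq, isConj_iff]
    constructor
    · rintro ⟨c, hc⟩
      exact ⟨e.symm c, e.injective (by simp [hc])⟩
    · rintro ⟨c, rfl⟩
      exact ⟨e c, by simp⟩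
  · apply Subgroup.map_injective (f := e.toMonoidHom) e.injective
    rw [MonoidHom.map_closure, Subgroup.map_top_of_surjective e.toMonoidHom e.surjective, ← hgen]
    congr 1
    ext x
    constructor
    · rintro ⟨g, hg, rfl⟩; exact (h g).1 hg
    · intro hx; exact ⟨e.symm x, by rw [h, e.apply_symm_apply]; exact hx, e.apply_symm_apply x⟩

theorem isometry_class {ι : Type} [Fintype ι] [DecidableEq ι] (Q : QuadraticForm F (ι → F))
    {f : (ι → F) → F} (hf : ∀ v, f v = Q v) (hQ : Nondeg Q) (h1 : ∀ a : F, a ≠ 0 → a = 1)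
    (h4 : Fintype.card ι ≠ 4) (hne : ∃ v, Q v ≠ 0) :
    Cfsg.IsThreeTranspositionClass {g : ↥(Cfsg.isometryGroup F f) |
      (((g : GL ι F) : Matrix ι ι F) - 1).rank = 1} := by
  refine class_of_equiv (isoOrth Q hf) (orth_class hQ h1 (by simpa using h4) hne) fun g => ?_
  have e : (((g : GL ι F) : Matrix ι ι F) - 1).mulVecLin = dev (isoOrth Q hf g).1 := by
    refine LinearMap.ext fun x => ?_
    rw [Matrix.mulVecLin_apply, Matrix.sub_mulVec, Matrix.one_mulVec, dev_apply, isoOrth_apply]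
  show Matrix.rank _ = 1 ↔ _
  rw [Matrix.rank, e]
  constructor
  · intro h
    exact eq_orefl hQ h1 _ h
  · rintro ⟨v, hv, hg⟩
    rw [hg]
    exact finrank_dev_orefl hQ hv

end Cfsg.Agent.Lib.Forms.TwoTranspositions
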