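/-
Odd characteristic: the reflections whose norms lie in one square class generate a subgroup of
index two (except in dimension four over the field of three elements).
-/
import Cfsg.Agent.Lib.Orth52.Spinor
import Cfsg.Agent.Lib.Forms.Basis

set_option autoImplicit false

namespace Cfsg.Agent.Lib.Forms.SquareClass

open Module QuadraticMap Cfsg.Agent.Lib.Orth52

variable {F : Type*} [Field F] [Finite F] {V : Type*} [AddCommGroup V] [Module F V]
  [FiniteDimensional F V] {Q : QuadraticForm F V}

/-- Reflections in vectors of norm in the class of `c`. -/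
def classSet (Q : QuadraticForm F V) (c : F) : Set (orth Q) :=
  {g | ∃ (v : V) (t : F), t ≠ 0 ∧ Q v = c * t ^ 2 ∧ g = orefl Q v}

omit [Finite F] [FiniteDimensional F V] in
theorem orefl_smul {a : F} (ha : a ≠ 0) (v : V) : orefl Q (a • v) = orefl Q v :=
  Subtype.ext (refl_smul Q ha v)

omit [Finite F] [FiniteDimensional F V] in
theorem classSet_normal (c : F) : (Subgroup.closure (classSet Q c)).Normal := by
  refine ⟨fun n hn g => ?_⟩
  have hle : Subgroup.closure (classSet Q c) ≤
      (Subgroup.closure (classSet Q c)).comap (MulAut.conj g).toMonoidHom := by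
    refine (Subgroup.closure_le _).2 ?_
    rintro _ ⟨v, t, ht, hv, rfl⟩
    refine Subgroup.subset_closure ⟨g.1 v, t, ht, (g.2 v).trans hv, Subtype.ext ?_⟩
    exact refl_conj g.2 v
  exact hle hn

/-- An isometry with one-dimensional deviation is a reflection. -/
theorem eq_orefl_of_range (h2 : (2 : F) ≠ 0) (hQ : Nondeg Q) (g : orth Q)
    (h : finrank F (LinearMap.range (dev g.1)) = 1) : ∃ z, Q z ≠ 0 ∧ g = orefl Q z := by
  obtain ⟨z, hz0, hz⟩ := finrank_eq_one_iff'.1 h
  have hz' : (z : V) ≠ 0 := fun e => hz0 (Subtype.ext e)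
  have hdev : ∀ x, ∃ a : F, dev g.1 x = a • (z : V) := fun x => by
    obtain ⟨a, ha⟩ := hz ⟨_, LinearMap.mem_range_self _ x⟩
    exact ⟨a, (congrArg Subtype.val ha).symm⟩
  obtain ⟨x₀, hx₀⟩ := z.2
  have hzQ : Q (z : V) ≠ 0 := by
    intro h0
    -- the functional pairing with `z` would vanish
    refine hz' (hQ _ fun y => ?_)
    have hkey : ∀ x, dev g.1 x ≠ 0 → polar Q (z : V) x = 0 := by
      intro x hx
      obtain ⟨a, ha⟩ := hdev x
      have := polar_self_dev g.2 x
      rw [ha, polar_smul_right, Q_smul, h0, mul_zero, neg_zero, smul_eq_mul] at this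
      exact (polar_comm Q _ _).trans ((mul_eq_zero.1 this).resolve_left fun e => hx (by rw [ha, e, zero_smul]))
    by_cases hy : dev g.1 y = 0
    · have h1 := hkey x₀ (by rw [hx₀]; exact hz')
      have h2' := hkey (x₀ + y) (by rw [map_add, hy, add_zero, hx₀]; exact hz')
      rwa [polar_add_right, h1, zero_add] at h2'
    · exact hkey y hy
  refine ⟨z, hzQ, Subtype.ext (LinearEquiv.ext fun x => ?_)⟩
  show g.1 x = refl Q (z : V) x
  rw [refl_apply, apply_eq_add_dev g.1 x]
  obtain ⟨a, ha⟩ := hdev x
  rw [ha]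
  have key : polar Q (z : V) x = -(a * Q (z : V)) := by
    obtain ⟨k, hk⟩ := hdev x₀
    have hk1 : k = 1 := smul_left_injective F hz' (show k • (z : V) = (1 : F) • (z : V) by
      rw [← hk, hx₀, one_smul])
    have e0 := polar_self_dev g.2 x₀
    rw [hx₀] at e0
    by_cases ha0 : a = 0
    · have hy : dev g.1 x = 0 := by rw [ha, ha0, zero_smul]
      have e1 := polar_self_dev g.2 (x₀ + x)
      rw [map_add, hy, add_zero, hx₀, polar_add_left] at e1
      rw [ha0, zero_mul, neg_zero, polar_comm]
      linear_combination e1 - e0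
    · have e1 := polar_self_dev g.2 x
      rw [ha, polar_smul_right, Q_smul, smul_eq_mul] at e1
      apply mul_left_cancel₀ ha0
      rw [polar_comm]
      linear_combination e1
  rw [key, sub_eq_add_neg, ← neg_smul]
  congr 2
  field_simp

/-- Two reflections with equal norms in a non-degenerate plane. -/
theorem mul_mem_of_plane (h2 : (2 : F) ≠ 0) (hQ : Nondeg Q) (hn : 2 ≤ finrank F V) {c : F}
    (hc : c ≠ 0) {δ : F} (hδ : δ ≠ 0) {v w : V} (hv : Q v = δ) (hw : Q w = δ)
    (hP : polar Q v w ^ 2 ≠ 4 * δ ^ 2) :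
    orefl Q v * orefl Q w ∈ Subgroup.closure (classSet Q c) := by
  have := Module.finite_of_finite F (M := V)
  set b := polar Q v w
  have hB : δ - b ^ 2 / (4 * δ) ≠ 0 := by
    intro e
    have h4 : (4 : F) * δ ≠ 0 := mul_ne_zero (by rw [show (4 : F) = 2 * 2 by norm_num]; exact mul_ne_zero h2 h2) hδ
    rw [sub_eq_zero, eq_div_iff h4] at e
    exact hP (by linear_combination -e)
  obtain ⟨s, y, hsy⟩ := exists_sq_add_sq h2 hδ hB c
  set a := (s - b * y / (2 * δ)) • v + y • w with ha
  have hQa : Q a = c := by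
    rw [ha, Q_comb, hv, hw, ← hsy]
    have h4 : (4 : F) ≠ 0 := by rw [show (4 : F) = 2 * 2 by norm_num]; exact mul_ne_zero h2 h2
    field_simp
    ring
  have hQa0 : Q a ≠ 0 := by rw [hQa]; exact hc
  have hQv : Q v ≠ 0 := by rw [hv]; exact hδ
  have hQw : Q w ≠ 0 := by rw [hw]; exact hδ
  set R := orefl Q a * (orefl Q v * orefl Q w) with hR
  have hd : dickson Q R = 1 := by
    rw [hR, ← mul_assoc, dickson_mul_orefl hQ _ hQw, dickson_mul_orefl hQ _ hQv, dickson_orefl hQ hQa0]
    decide
  have hrange : LinearMap.range (dev R.1) ≤ Submodule.span F {v, w} := by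
    rintro _ ⟨x, rfl⟩
    have hva : a ∈ Submodule.span F ({v, w} : Set V) := Submodule.mem_span_pair.2 ⟨_, _, rfl⟩
    have hv' : v ∈ Submodule.span F ({v, w} : Set V) := Submodule.subset_span (Set.mem_insert _ _)
    have hw' : w ∈ Submodule.span F ({v, w} : Set V) := Submodule.subset_span (Set.mem_insert_of_mem _ rfl)
    have step : ∀ u, u ∈ Submodule.span F ({v, w} : Set V) → ∀ x, refl Q u x - x ∈ Submodule.span F ({v, w} : Set V) := by
      intro u hu x
      rw [refl_apply, sub_sub_cancel_left]
      exact Submodule.neg_mem _ (Submodule.smul_mem _ _ hu)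
    rw [dev_apply]
    show refl Q a (refl Q v (refl Q w x)) - x ∈ _
    have h1 := step a hva (refl Q v (refl Q w x))
    have h2' := step v hv' (refl Q w x)
    have h3 := step w hw' x
    have := Submodule.add_mem _ (Submodule.add_mem _ h1 h2') h3
    convert this using 1
    abel
  have hle2 : finrank F (LinearMap.range (dev R.1)) ≤ 2 := by
    refine (Submodule.finrank_mono hrange).trans ?_
    have hli : finrank F (Submodule.span F (Set.range ![v, w])) ≤ Fintype.card (Fin 2) :=
      finrank_range_le_card _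
    have he : Set.range ![v, w] = {v, w} := by
      ext x
      simp [eq_comm, or_comm]
    rwa [he, Fintype.card_fin] at hli
  have h1 : finrank F (LinearMap.range (dev R.1)) = 1 := by
    have hd' : ((finrank F (LinearMap.range (dev R.1)) : ℕ) : ZMod 2) = 1 := hd
    interval_cases h : finrank F (LinearMap.range (dev R.1))
    · exact absurd hd' (by decide)
    · rfl
    · exact absurd hd' (by decide)
  obtain ⟨z, hz, hRz⟩ := eq_orefl_of_range h2 hQ R h1
  have hspin : spinHom hQ h2 hn (orefl Q z) = spinHom hQ h2 hn (orefl Q a) := by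
    rw [← hRz, hR, map_mul, map_mul]
    have e : spinHom hQ h2 hn (orefl Q v) = spinHom hQ h2 hn (orefl Q w) := by
      obtain ⟨g, hg⟩ := orefl_conj_of_eq hQ hQv one_ne_zero (w := w) (by rw [hw, hv, one_mul, one_mul])
      rw [← hg, map_mul, map_mul, map_inv, mul_comm (spinHom hQ h2 hn g), mul_inv_cancel_right]
    rw [e, Int.units_mul_self, mul_one]
  have hza : IsSquare (Q z) ↔ IsSquare (Q a) := by
    rw [← spinHom_orefl_eq_one_iff hQ h2 hn hz, hspin, spinHom_orefl_eq_one_iff hQ h2 hn hQa0]
  have hsq : IsSquare (Q z / c) := by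
    by_cases h : IsSquare (Q z)
    · exact h.div (hQa ▸ hza.1 h)
    · exact isSquare_div_of_nonsquares h2 h (hQa ▸ fun h' => h (hza.2 h'))
  obtain ⟨t, ht⟩ := hsq
  have hzc : Q z = c * t ^ 2 := by rw [pow_two, ← ht, mul_div_cancel₀ _ hc]
  have hmemR : R ∈ Subgroup.closure (classSet Q c) :=
    Subgroup.subset_closure ⟨z, t, fun e => hz (by rw [hzc, e]; ring), hzc, hRz⟩
  have hmema : orefl Q a ∈ Subgroup.closure (classSet Q c) :=
    Subgroup.subset_closure ⟨a, 1, one_ne_zero, by rw [hQa]; ring, rfl⟩
  have := mul_mem hmema hmemR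
  rwa [hR, ← mul_assoc, show orefl Q a * orefl Q a = 1 from Subtype.ext (refl_mul_self Q a), one_mul] at this

/-- Two reflections with equal norms. -/
theorem mul_mem (h2 : (2 : F) ≠ 0) (hQ : Nondeg Q) (hn : 2 ≤ finrank F V) (heven : Even (finrank F V))
    (h43 : ¬ (finrank F V = 4 ∧ Nat.card F = 3)) {c : F} (hc : c ≠ 0) {δ : F} (hδ : δ ≠ 0) {v w : V}
    (hv : Q v = δ) (hw : Q w = δ) : orefl Q v * orefl Q w ∈ Subgroup.closure (classSet Q c) := by
  by_cases hP : polar Q v w ^ 2 ≠ 4 * δ ^ 2
  · exact mul_mem_of_plane h2 hQ hn hc hδ hv hw hP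
  push Not at hP
  have h2δ : (2 : F) * δ ≠ 0 := mul_ne_zero h2 hδ
  have hb0 : polar Q v w ≠ 0 := fun e => by
    rw [e] at hP
    exact pow_ne_zero 2 h2δ (by linear_combination -hP)
  set s := 2 * δ / polar Q v w with hs
  have hs2 : s * s = 1 := by
    rw [hs, div_mul_div_comm, div_eq_one_iff_eq (mul_ne_zero hb0 hb0)]
    linear_combination -hP
  have hs0 : s ≠ 0 := div_ne_zero h2δ hb0
  set r := s • w - v with hr
  have hQv : Q v ≠ 0 := by rw [hv]; exact hδ
  have hvw' : polar Q v (s • w) = 2 * δ := by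
    rw [polar_smul_right, smul_eq_mul, hs, div_mul_cancel₀ _ hb0]
  have hvr : polar Q v r = 0 := by
    rw [hr, polar_sub_right, hvw', polar_self', hv, sub_self]
  have hQr : Q r = 0 := by
    have h := Q_add Q v r
    rw [show v + r = s • w by rw [hr]; abel, Q_smul, hs2, hvr, hw, hv] at h
    linear_combination -h
  by_cases hr0 : r = 0
  · have hwv : v = s • w := by rw [hr, sub_eq_zero] at hr0; exact hr0.symm
    rw [hwv, orefl_smul hs0, show orefl Q w * orefl Q w = 1 from Subtype.ext (refl_mul_self Q w)]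
    exact one_mem _
  -- a partner of `r` orthogonal to `v`
  obtain ⟨f₀, hf₀⟩ := exists_hypPair hQ hr0 hQr
  set f₁ := f₀ - (polar Q v f₀ / (2 * δ)) • v with hf₁
  have hrf₁ : polar Q r f₁ = 1 := by
    rw [hf₁, polar_sub_right, polar_smul_right, polar_comm Q r v, hvr, smul_zero, sub_zero, hf₀.pol]
  have hvf₁ : polar Q v f₁ = 0 := by
    rw [hf₁, polar_sub_right, polar_smul_right, polar_self', hv, smul_eq_mul, div_mul_cancel₀ _ h2δ,
      sub_self]
  set f := f₁ + (-Q f₁) • r with hf
  have hp : HypPair Q r f := by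
    refine ⟨hQr, ?_, ?_⟩
    · rw [hf, Q_add, Q_smul, hQr, polar_smul_right, polar_comm Q f₁ r, hrf₁, smul_eq_mul]; ring
    · rw [hf, polar_add_right, hrf₁, polar_smul_right, polar_self', hQr]; simp
  have hvf : polar Q v f = 0 := by rw [hf, polar_add_right, hvf₁, polar_smul_right, hvr, smul_zero, add_zero]
  have hvcore : v ∈ core Q r f := mem_core.2
    ⟨(polar_comm Q _ _).trans hvr, (polar_comm Q _ _).trans hvf⟩
  have hfin := hp.finrank_core
  -- an intermediate vector
  obtain ⟨u, hu, huv, huw⟩ : ∃ u, Q u = δ ∧ polar Q v u ^ 2 ≠ 4 * δ ^ 2 ∧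
      polar Q u (s • w) ^ 2 ≠ 4 * δ ^ 2 := by
    have hne : (4 : F) * δ ^ 2 ≠ 0 := fun e => pow_ne_zero 2 h2δ (by linear_combination e)
    have hsw : s • w = v + r := by rw [hr]; abel
    by_cases h5 : 5 ≤ finrank F V
    · set C := core Q r f
      have hC := hp.nondeg_core hQ
      let v' : C := ⟨v, hvcore⟩
      let K : Submodule F C := LinearMap.ker (polarBilin (res Q C) v')
      have hK : Nondeg (res (res Q C) K) := by
        intro x hx
        refine Subtype.ext (hC _ fun y => ?_)
        have hvx : polar (res Q C) v' (x : C) = 0 := x.2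
        have hy : y - (polar (res Q C) v' y / (2 * δ)) • v' ∈ K := by
          show polar (res Q C) v' _ = 0
          rw [polar_sub_right, polar_smul_right, polar_self', smul_eq_mul,
            show res Q C v' = δ from hv, div_mul_cancel₀ _ h2δ, sub_self]
        have h0 := hx ⟨_, hy⟩
        rw [res_polar, polar_sub_right, polar_smul_right, polar_comm (res Q C) (x : C) v', hvx,
          smul_zero, sub_zero] at h0
        exact h0
      have hKdim : 2 ≤ finrank F K := by
        have h1 := LinearMap.finrank_range_add_finrank_ker (polarBilin (res Q C) v')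
        have h3 := Submodule.finrank_le (LinearMap.range (polarBilin (res Q C) v'))
        rw [finrank_self] at h3
        show 2 ≤ finrank F (LinearMap.ker (polarBilin (res Q C) v'))
        omega
      obtain ⟨u, hu⟩ := exists_Q_eq hK hKdim δ
      have huv : polar Q v ((u : C) : V) = 0 := u.2
      have hur : polar Q ((u : C) : V) r = 0 := (polar_comm Q _ _).trans (mem_core.1 (u : C).2).1
      refine ⟨((u : C) : V), hu, ?_, ?_⟩
      · rw [huv, zero_pow two_ne_zero]; exact hne.symm
      · rw [hsw, polar_add_right, polar_comm Q _ v, huv, hur, add_zero, zero_pow two_ne_zero]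
        exact hne.symm
    · have hq : Nat.card F ≠ 3 := fun e => h43 ⟨by
        have := Nat.even_iff.1 heven
        have : 3 ≤ finrank F V := by
          have : 0 < finrank F (core Q r f) := Module.finrank_pos_iff_exists_ne_zero.2
            ⟨⟨v, hvcore⟩, fun e0 => hQv (by rw [show v = 0 from congrArg Subtype.val e0, QuadraticMap.map_zero])⟩
          omega
        omega, e⟩
      obtain ⟨z, hz0, hz⟩ : ∃ z : F, z ≠ 0 ∧ z ^ 2 ≠ 4 * δ ^ 2 := by
        classical
        have := Fintype.ofFinite F
        by_contra hc'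
        push Not at hc'
        have hsub : (Finset.univ : Finset F) ⊆ {0, 2 * δ, -(2 * δ)} := by
          intro x _
          by_cases hx : x = 0
          · simp [hx]
          · rcases eq_or_eq_neg_of_sq_eq_sq x (2 * δ) (by rw [hc' x hx]; ring) with e | e <;> simp [e]
        have h3 := (Finset.card_le_card hsub).trans Finset.card_le_three
        rw [Finset.card_univ, ← Nat.card_eq_fintype_card] at h3
        have hodd := odd_card_of_two_ne h2
        have h1 : 1 < Nat.card F := Finite.one_lt_card
        rcases hodd with ⟨k, hk⟩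
        omega
      refine ⟨(δ / z) • r + z • f, ?_, ?_, ?_⟩
      · rw [Q_comb, hp.left, hp.right, hp.pol]; field_simp; ring
      · rw [polar_add_right, polar_smul_right, polar_smul_right, hvr, hvf, smul_zero, smul_zero,
          add_zero, zero_pow two_ne_zero]
        exact hne.symm
      · have e : polar Q ((δ / z) • r + z • f) (s • w) = z := by
          rw [hsw, polar_add_left, polar_smul_left, polar_smul_left, polar_add_right, polar_add_right,
            polar_comm Q r v, hvr, polar_comm Q f v, hvf, hp.pol_ee, hp.pol', smul_eq_mul, smul_eq_mul]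
          ring
        rw [e]; exact hz
  have h1 := mul_mem_of_plane h2 hQ hn hc hδ hv hu huv
  have hsw' : Q (s • w) = δ := by rw [Q_smul, hs2, one_mul, hw]
  have h3 := mul_mem_of_plane h2 hQ hn hc hδ hu hsw' huw
  have := Subgroup.mul_mem _ h1 h3
  rwa [orefl_smul hs0, mul_assoc, ← mul_assoc (orefl Q u),
    show orefl Q u * orefl Q u = 1 from Subtype.ext (refl_mul_self Q u), one_mul] at this

/-- Reflections in one square class generate a subgroup of index two. -/
theorem index_closure_classSet (h2 : (2 : F) ≠ 0) (hQ : Nondeg Q) (hn : 2 ≤ finrank F V)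
    (heven : Even (finrank F V)) (h43 : ¬ (finrank F V = 4 ∧ Nat.card F = 3)) {c : F} (hc : c ≠ 0) :
    (Subgroup.closure (classSet Q c)).index = 2 := by
  have := Module.finite_of_finite F (M := V)
  set H := Subgroup.closure (classSet Q c) with hH
  have hnorm : H.Normal := classSet_normal c
  have hne := exists_ne01 h2
  obtain ⟨ν, hν⟩ := exists_nonsq h2
  have hν0 : ν ≠ 0 := fun e => hν (e ▸ IsSquare.zero)
  have hδ : c * ν ≠ 0 := mul_ne_zero hc hν0
  obtain ⟨v₀, hv₀⟩ := exists_Q_eq hQ hn (c * ν)
  have hv₀0 : Q v₀ ≠ 0 := by rw [hv₀]; exact hδ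
  -- the separating character
  obtain ⟨a, ha⟩ := exists_Q_eq hQ hn c
  have ha0 : Q a ≠ 0 := by rw [ha]; exact hc
  let ψ : orth Q →* ℤˣ := spinHom hQ h2 hn *
    (zmod2Char (spinHom hQ h2 hn (orefl Q a))).comp (dicksonHom hQ (Or.inl hne))
  have hψ : ∀ {v}, Q v ≠ 0 → ψ (orefl Q v) = spinHom hQ h2 hn (orefl Q v) * spinHom hQ h2 hn (orefl Q a) := by
    intro v hv
    show spinHom hQ h2 hn (orefl Q v) * zmod2Char _ (dicksonHom hQ (Or.inl hne) (orefl Q v)) = _
    rw [dicksonHom_orefl hQ _ hv, zmod2Char_gen]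
  have hHψ : H ≤ ψ.ker := by
    refine (Subgroup.closure_le _).2 ?_
    rintro _ ⟨v, t, ht, hv, rfl⟩
    have hv0 : Q v ≠ 0 := by rw [hv]; exact mul_ne_zero hc (pow_ne_zero 2 ht)
    show ψ (orefl Q v) = 1
    obtain ⟨g, hg⟩ := orefl_conj_of_eq hQ ha0 ht (w := v) (by rw [hv, ha]; ring)
    rw [hψ hv0, ← hg, map_mul, map_mul, map_inv, mul_comm (spinHom hQ h2 hn g), mul_inv_cancel_right,
      Int.units_mul_self]
  have hψ0 : ψ (orefl Q v₀) ≠ 1 := by
    rw [hψ hv₀0]
    intro e
    rw [mul_eq_one_iff_eq_inv, Int.units_inv_eq_self] at e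
    have h1 : IsSquare (Q v₀) ↔ IsSquare (Q a) := by
      rw [← spinHom_orefl_eq_one_iff hQ h2 hn hv₀0, e, spinHom_orefl_eq_one_iff hQ h2 hn ha0]
    rw [hv₀, ha] at h1
    by_cases hcs : IsSquare c
    · have := (h1.2 hcs).div hcs
      rw [mul_div_cancel_left₀ _ hc] at this
      exact hν this
    · have hn' : ¬ IsSquare (c * ν) := fun h => hcs (h1.1 h)
      have := isSquare_div_of_nonsquares h2 hn' hcs
      rw [mul_div_cancel_left₀ _ hc] at this
      exact hν this
  -- every element is in `H` or `H r₀`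
  have hr₀ : orefl Q v₀ * orefl Q v₀ = 1 := Subtype.ext (refl_mul_self Q v₀)
  have hall : ∀ g : orth Q, g ∈ H ∨ g * orefl Q v₀ ∈ H := by
    intro g
    have hg : g ∈ Subgroup.closure (reflSet Q) := by
      rw [closure_reflSet hQ (Or.inl hne)]; trivial
    induction hg using Subgroup.closure_induction with
    | mem x hx =>
      obtain ⟨v, hv, rfl⟩ := hx
      by_cases hs : IsSquare (Q v / c)
      · obtain ⟨t, ht⟩ := hs
        refine Or.inl (Subgroup.subset_closure ⟨v, t, ?_, ?_, rfl⟩)
        · rintro rfl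
          rw [mul_zero, div_eq_zero_iff] at ht
          exact ht.elim hv hc
        · rw [pow_two, ← ht, mul_div_cancel₀ _ hc]
      · obtain ⟨t, ht⟩ := isSquare_div_of_nonsquares h2 hν hs
        have ht0 : t ≠ 0 := by
          rintro rfl
          rw [mul_zero, div_eq_zero_iff] at ht
          exact ht.elim hν0 (div_ne_zero hv hc)
        refine Or.inr ?_
        have hQt : Q (t • v) = c * ν := by
          rw [Q_smul, ← ht]; field_simp
        have := mul_mem h2 hQ hn heven h43 hc hδ hQt hv₀
        rwa [orefl_smul ht0] at this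
    | one => exact Or.inl (one_mem _)
    | mul x y _ _ hx hy =>
      rcases hx with hx | hx <;> rcases hy with hy | hy
      · exact Or.inl (Subgroup.mul_mem _ hx hy)
      · exact Or.inr (by rw [mul_assoc]; exact Subgroup.mul_mem _ hx hy)
      · refine Or.inr ?_
        have h1 := hnorm.conj_mem y hy (orefl Q v₀)⁻¹
        have h3 := Subgroup.mul_mem _ hx h1
        rw [show x * orefl Q v₀ * ((orefl Q v₀)⁻¹ * y * (orefl Q v₀)⁻¹⁻¹) = x * y * orefl Q v₀ by group] at h3
        exact h3
      · refine Or.inl ?_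
        have h1 := hnorm.conj_mem _ hy (orefl Q v₀)⁻¹
        have h3 := Subgroup.mul_mem _ hx h1
        rw [inv_inv, mul_assoc x, mul_assoc (orefl Q v₀)⁻¹, mul_inv_cancel_left, mul_assoc y, hr₀,
          mul_one] at h3
        exact h3
    | inv x _ hx =>
      rcases hx with hx | hx
      · exact Or.inl (inv_mem hx)
      · refine Or.inr ?_
        have h1 := hnorm.conj_mem _ (inv_mem hx) (orefl Q v₀)
        rw [mul_inv_rev, inv_eq_of_mul_eq_one_left hr₀, ← mul_assoc (orefl Q v₀) (orefl Q v₀), hr₀,
          one_mul] at h1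
        exact h1
  have hker : ψ.ker = H := by
    refine le_antisymm (fun g hg => ?_) hHψ
    rcases hall g with h | h
    · exact h
    · exfalso
      have := hHψ h
      rw [MonoidHom.mem_ker, map_mul, MonoidHom.mem_ker.1 hg, one_mul] at this
      exact hψ0 this
  have hsurj : Function.Surjective ψ := by
    intro x
    rcases Int.units_eq_one_or x with rfl | rfl
    · exact ⟨1, map_one _⟩
    · exact ⟨orefl Q v₀, (Int.units_eq_one_or _).resolve_left hψ0⟩
  rw [← hker, Subgroup.index_ker, MonoidHom.range_eq_top.2 hsurj, Subgroup.card_top,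
    Nat.card_eq_fintype_card, Fintype.card_units_int]

end Cfsg.Agent.Lib.Forms.SquareClass
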