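/-
Stabilisers of orthogonal decompositions with a canonical frame inside each block (small fields of
odd order) are contained in the stabiliser of the frame, hence not maximal in `Ω`.
-/
import Cfsg.Agent.Lib.Subspaces.OrthNondeg
import Cfsg.Agent.Lib.Subspaces.Decomposition
import Cfsg.Agent.Lib.Forms.Bridge

set_option autoImplicit false

namespace Cfsg.Agent.Lib.Forms.FrameRefine

open Matrix Cfsg.Agent.Lib.Subspaces.Transvection Cfsg.Agent.Lib.Subspaces.FormVec
  Cfsg.Agent.Lib.Subspaces.OrthForm Cfsg.Agent.Lib.Subspaces.OmegaGL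
open scoped commutatorElement

variable {ι : Type} [Fintype ι] [DecidableEq ι] {F : Type*} [Field F] {Q : (ι → F) → F}

local notation "B" => QuadraticMap.polar Q

theorem card_eq {t m : ℕ} {D : Fin t → Submodule F (ι → F)}
    (hD : Cfsg.Geo.IsMDecomposition m D) : Fintype.card ι = t * m := by
  classical
  have b := (Cfsg.Agent.Lib.Subspaces.Decomposition.isInternal hD).collectedBasis
    fun i => Module.finBasisOfFinrankEq F (D i) (hD.finrank_eq i)
  have h := Module.finrank_eq_card_basis b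
  rw [Module.finrank_fintype_fun_eq_card] at h
  simpa using h

theorem eq_of_mem {t m : ℕ} {D : Fin t → Submodule F (ι → F)}
    (hD : Cfsg.Geo.IsMDecomposition m D) {i i' : Fin t} {x : ι → F} (hx : x ∈ D i)
    (hx' : x ∈ D i') (h0 : x ≠ 0) : i = i' := by
  by_contra h
  exact h0 ((Submodule.disjoint_def.mp (hD.indep.pairwiseDisjoint h)) x hx hx')

/-- The reflection in `GL`. -/
noncomputable def refG (hQ : Cfsg.Geo.IsNondegenerateQuadraticForm Q) (v : ι → F) :
    Cfsg.isometryGroup F Q := irefl (qf hQ) v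

theorem refG_mulVec (hQ : Cfsg.Geo.IsNondegenerateQuadraticForm Q) (v x : ι → F) :
    ((refG hQ v : GL ι F) : Matrix ι ι F) *ᵥ x = x - ((Q v)⁻¹ * B v x) • v := by
  rw [show ((refG hQ v : GL ι F) : Matrix ι ι F) = Cfsg.reflectionMatrix (⇑(qf hQ)) v from
    irefl_coe (qf hQ) v, reflectionMatrix_mulVec, refl_apply]
  rfl

theorem refG_inv (hQ : Cfsg.Geo.IsNondegenerateQuadraticForm Q) (v : ι → F) :
    (refG hQ v)⁻¹ = refG hQ v := irefl_inv (qf hQ) v

theorem refG_mulVec_self (hQ : Cfsg.Geo.IsNondegenerateQuadraticForm Q) (v x : ι → F) :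
    ((refG hQ v : GL ι F) : Matrix ι ι F) *ᵥ (((refG hQ v : GL ι F) : Matrix ι ι F) *ᵥ x) = x := by
  conv_lhs => rw [← gl_mul_mulVec]
  rw [← Subgroup.coe_mul, show refG hQ v * refG hQ v = 1 from irefl_mul_self (qf hQ) v]
  simp

theorem comm_mem_omega (hQ : Cfsg.Geo.IsNondegenerateQuadraticForm Q) (v w : ι → F) :
    (refG hQ v : GL ι F) * refG hQ w * refG hQ v * refG hQ w ∈ Cfsg.Geo.omegaGL Q := by
  refine ⟨⁅refG hQ v, refG hQ w⁆,
    Subgroup.commutator_mem_commutator (Subgroup.mem_top _) (Subgroup.mem_top _), ?_⟩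
  rw [commutatorElement_def, refG_inv, refG_inv]
  rfl

/-- A frame in one block whose values determine its lines gives an overgroup in `Ω`. -/
theorem exists_between (hQ : Cfsg.Geo.IsNondegenerateQuadraticForm Q) (h2 : (2 : F) ≠ 0)
    {t k : ℕ} {D : Fin t → Submodule F (ι → F)}
    (hD : Cfsg.Geo.IsOrthogonalMDecomposition Q k D) (ht : 4 ≤ t) (hk : 2 ≤ k) (i₀ : Fin t)
    (b : Fin k → ι → F) (hb : ∀ j, b j ∈ D i₀) (hbQ : ∀ j, Q (b j) ≠ 0)
    (hbo : ∀ j j', j ≠ j' → B (b j) (b j') = 0)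
    (hP : ∀ v ∈ D i₀, ∀ j, Q v = Q (b j) → ∃ (j' : Fin k) (s : F), v = s • b j') :
    ∃ K : Subgroup (GL ι F), Cfsg.Geo.decompositionStabilizer D ⊓ Cfsg.Geo.omegaGL Q < K ∧
      K < Cfsg.Geo.omegaGL Q := by
  classical
  have hb2 := hQ.polar_bilinear
  have hd := hD.decomp.decomp
  choose e he using fun i => hD.isometric i₀ i
  let bb : Fin t × Fin k → ι → F := fun p => (e p.1 ⟨b p.2, hb p.2⟩ : D p.1)
  have hmem : ∀ p, bb p ∈ D p.1 := fun p => Subtype.prop _
  have hbbQ : ∀ p, Q (bb p) = Q (b p.2) := fun p => he _ _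
  have hne : ∀ p, Q (bb p) ≠ 0 := fun p => by rw [hbbQ]; exact hbQ _
  have hbb0 : ∀ p, bb p ≠ 0 := fun p h => hne p (by rw [h, Q_zero hQ])
  have horth : ∀ p p', p ≠ p' → B (bb p) (bb p') = 0 := by
    rintro ⟨i, j⟩ ⟨i', j'⟩ h
    by_cases hi : i = i'
    · subst hi
      have hj : j ≠ j' := fun e => h (by rw [e])
      have h1 := he i (⟨b j, hb j⟩ + ⟨b j', hb j'⟩)
      rw [map_add, Submodule.coe_add, Submodule.coe_add] at h1
      show QuadraticMap.polar Q _ _ = 0
      rw [QuadraticMap.polar, h1]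
      show Q (b j + b j') - Q (bb (i, j)) - Q (bb (i, j')) = 0
      rw [hbbQ, hbbQ]
      exact hbo j j' hj
    · exact hD.decomp.orthogonal i i' hi _ (hmem (i, j)) _ (hmem (i', j'))
  have hPi : ∀ (i : Fin t), ∀ v ∈ D i, ∀ j, Q v = Q (b j) →
      ∃ (j' : Fin k) (s : F), v = s • bb (i, j') := by
    intro i v hv j hj
    have hv' : Q (((e i).symm ⟨v, hv⟩ : D i₀) : ι → F) = Q (b j) := by
      rw [← he i, LinearEquiv.apply_symm_apply]; exact hj
    obtain ⟨j', s, hs⟩ := hP _ (Subtype.prop _) j hv'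
    refine ⟨j', s, ?_⟩
    have h1 : (e i).symm ⟨v, hv⟩ = s • (⟨b j', hb j'⟩ : D i₀) := Subtype.ext hs
    have h2 := congrArg (e i) h1
    rw [LinearEquiv.apply_symm_apply, map_smul] at h2
    exact congrArg Subtype.val h2
  let L : Set (ι → F) := {x | ∃ (p : Fin t × Fin k) (s : F), x = s • bb p}
  -- swaps of two frame vectors of the same value
  have hswap : ∀ p p', p ≠ p' → Q (bb p) = Q (bb p') →
      (((refG hQ (bb p - bb p') : GL ι F) : Matrix ι ι F) *ᵥ bb p = bb p' ∧
       ((refG hQ (bb p - bb p') : GL ι F) : Matrix ι ι F) *ᵥ bb p' = bb p ∧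
       ∀ r, r ≠ p → r ≠ p' →
        ((refG hQ (bb p - bb p') : GL ι F) : Matrix ι ι F) *ᵥ bb r = bb r) := by
    intro p p' hpp hQp
    have hv : Q (bb p - bb p') = 2 * Q (bb p) := by
      rw [sub_eq_add_neg, ← neg_one_smul F (bb p'), Q_add_smul hQ, horth p p' hpp, ← hQp]; ring
    have h2c : 2 * Q (bb p) ≠ 0 := mul_ne_zero h2 (hne p)
    refine ⟨?_, ?_, fun r hr hr' => ?_⟩
    · rw [refG_mulVec, hv, form_sub_left (bil hQ), B_self hQ, horth p' p hpp.symm, sub_zero,
        inv_mul_cancel₀ h2c, one_smul, sub_sub_cancel]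
    · rw [refG_mulVec, hv, form_sub_left (bil hQ), B_self hQ, horth p p' hpp, zero_sub, mul_neg,
        ← hQp, inv_mul_cancel₀ h2c, neg_smul, one_smul, sub_neg_eq_add, add_sub_cancel]
    · rw [refG_mulVec, form_sub_left (bil hQ), horth p r hr.symm, horth p' r hr'.symm]
      simp
  have hswapL : ∀ p p', p ≠ p' → Q (bb p) = Q (bb p') →
      (refG hQ (bb p - bb p') : GL ι F) ∈ Cfsg.stabilizing (Cfsg.glToMat ι F) L := by
    intro p p' hpp hQp
    obtain ⟨h1, h1', h1''⟩ := hswap p p' hpp hQp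
    have hto : ∀ x ∈ L, ((refG hQ (bb p - bb p') : GL ι F) : Matrix ι ι F) *ᵥ x ∈ L := by
      rintro _ ⟨r, s, rfl⟩
      rw [mulVec_smul]
      by_cases hr : r = p
      · subst hr; exact ⟨p', s, by rw [h1]⟩
      by_cases hr' : r = p'
      · subst hr'; exact ⟨p, s, by rw [h1']⟩
      exact ⟨r, s, by rw [h1'' r hr hr']⟩
    refine fun x => ⟨hto x, fun hx => ?_⟩
    have := hto _ hx
    rwa [show (Cfsg.glToMat ι F) (refG hQ (bb p - bb p') : GL ι F) =
      ((refG hQ (bb p - bb p') : GL ι F) : Matrix ι ι F) from rfl, refG_mulVec_self] at this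
  let j₀ : Fin k := ⟨0, by omega⟩
  let pp : Fin 4 → Fin t × Fin k := fun l => (Fin.castLE ht l, j₀)
  have hpp : ∀ l l', l ≠ l' → pp l ≠ pp l' := fun l l' h e => h (by
    simpa [pp] using (Prod.ext_iff.mp e).1)
  have hval : ∀ l, Q (bb (pp l)) = Q (b j₀) := fun l => hbbQ _
  refine exists_between_of (K := Cfsg.stabilizing (Cfsg.glToMat ι F) L ⊓ Cfsg.Geo.omegaGL Q)
    ?_ inf_le_right ?_ ?_
  · have hto : ∀ g ∈ Cfsg.Geo.decompositionStabilizer D ⊓ Cfsg.Geo.omegaGL Q, ∀ x ∈ L,
        (g : Matrix ι ι F) *ᵥ x ∈ L := by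
      rintro g ⟨⟨σ, hσ⟩, hg⟩ _ ⟨p, s, rfl⟩
      have h1 : (g : Matrix ι ι F) *ᵥ bb p ∈ D (σ p.1) := by
        rw [← hσ p.1]; exact ⟨bb p, hmem p, Matrix.toLin'_apply _ _⟩
      obtain ⟨j', s', hj'⟩ := hPi _ _ h1 p.2 (by rw [omega_isometry hQ hg, hbbQ])
      exact ⟨(σ p.1, j'), s * s', by rw [mulVec_smul, hj', smul_smul]⟩
    intro g hg
    refine ⟨fun x => ⟨hto g hg x, fun hx => ?_⟩, hg.2⟩
    have := hto g⁻¹ (inv_mem hg) _ hx
    rwa [show (Cfsg.glToMat ι F) g = (g : Matrix ι ι F) from rfl, gl_inv_mulVec] at this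
  · -- a three-cycle of frame vectors across blocks
    have h01 := hpp 0 1 (by decide)
    have h12 := hpp 1 2 (by decide)
    have h02 := hpp 0 2 (by decide)
    obtain ⟨a1, -, a3⟩ := hswap _ _ h01 (by rw [hval, hval])
    obtain ⟨c1, -, c3⟩ := hswap _ _ h12 (by rw [hval, hval])
    set r := refG hQ (bb (pp 0) - bb (pp 1))
    set r' := refG hQ (bb (pp 1) - bb (pp 2))
    have hr : (r : GL ι F) ∈ Cfsg.stabilizing (Cfsg.glToMat ι F) L :=
      hswapL _ _ h01 (by rw [hval, hval])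
    have hr' : (r' : GL ι F) ∈ Cfsg.stabilizing (Cfsg.glToMat ι F) L :=
      hswapL _ _ h12 (by rw [hval, hval])
    refine ⟨(r : GL ι F) * r' * r * r',
      ⟨mul_mem (mul_mem (mul_mem hr hr') hr) hr', comm_mem_omega hQ _ _⟩, fun hgH => ?_⟩
    obtain ⟨σ, hσ⟩ := hgH.1
    have g0 : (((r : GL ι F) * r' * r * r' : GL ι F) : Matrix ι ι F) *ᵥ bb (pp 0) = bb (pp 2) := by
      rw [gl_mul_mulVec, gl_mul_mulVec, gl_mul_mulVec, c3 _ h01 h02, a1, c1, a3 _ h02.symm h12.symm]
    have hj : (⟨1, by omega⟩ : Fin k) ≠ j₀ := by simp [j₀, Fin.ext_iff]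
    set q0 : Fin t × Fin k := (Fin.castLE ht 0, ⟨1, by omega⟩)
    have hq : ∀ l, q0 ≠ pp l := fun l e => hj (Prod.ext_iff.mp e).2
    have g1 : (((r : GL ι F) * r' * r * r' : GL ι F) : Matrix ι ι F) *ᵥ bb q0 = bb q0 := by
      rw [gl_mul_mulVec, gl_mul_mulVec, gl_mul_mulVec, c3 _ (hq 1) (hq 2), a3 _ (hq 0) (hq 1),
        c3 _ (hq 1) (hq 2), a3 _ (hq 0) (hq 1)]
    have e0 : bb (pp 2) ∈ D (σ (Fin.castLE ht 0)) := by
      rw [← g0, ← hσ]; exact ⟨_, hmem (pp 0), Matrix.toLin'_apply _ _⟩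
    have e1 : bb q0 ∈ D (σ (Fin.castLE ht 0)) := by
      rw [← g1, ← hσ]; exact ⟨_, hmem q0, Matrix.toLin'_apply _ _⟩
    have := (eq_of_mem hd e0 (hmem _) (hbb0 _)).symm.trans (eq_of_mem hd e1 (hmem _) (hbb0 _))
    simp [pp, q0, Fin.ext_iff] at this
  · -- four frame vectors mixed
    set c := Q (b j₀) with hc
    have hc0 : c ≠ 0 := hbQ _
    set x := fun l => bb (pp l) with hx
    have hxx : ∀ l l', B (x l) (x l') = if l = l' then 2 * c else 0 := fun l l' => by
      split_ifs with h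
      · subst h; rw [B_self hQ, hx]; simp only [hval]
      · exact horth _ _ (hpp l l' h)
    set v := x 0 + x 1 + x 2 + x 3 with hv
    have hvx : ∀ l, B v (x l) = 2 * c := fun l => by
      simp only [hv, hb2.add_left, hxx]
      fin_cases l <;> simp
    have hvv : Q v = 4 * c := by
      have h1 : B v v = 8 * c := by
        conv_lhs => arg 3; rw [hv]
        simp only [hb2.add_right, hvx]; ring
      rw [B_self hQ] at h1
      exact mul_left_cancel₀ h2 (by rw [h1]; ring)
    have h4 : (4 : F) ≠ 0 := by rw [show (4 : F) = 2 * 2 by norm_num]; exact mul_ne_zero h2 h2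
    set y := x 1 - (2 : F)⁻¹ • v + x 0 with hy
    refine ⟨_, comm_mem_omega hQ v (x 0), fun hmem => ?_⟩
    have g1 : (((refG hQ v : GL ι F) * refG hQ (x 0) * refG hQ v * refG hQ (x 0) : GL ι F) :
        Matrix ι ι F) *ᵥ x 1 = y := by
      have s1 : ((refG hQ (x 0) : GL ι F) : Matrix ι ι F) *ᵥ x 1 = x 1 := by
        rw [refG_mulVec, hxx 0 1]; simp
      have hm1 : (4 * c)⁻¹ * (2 * c) = (2 : F)⁻¹ := by field_simp; ring
      have s2 : ((refG hQ v : GL ι F) : Matrix ι ι F) *ᵥ x 1 = x 1 - (2 : F)⁻¹ • v := by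
        rw [refG_mulVec, hvv, hvx, hm1]
      have hx0 : Q (x 0) = c := hval 0
      have hBv : B (x 0) v = 2 * c := by rw [B_comm, hvx]
      have hm2 : c⁻¹ * ((2 : F)⁻¹ * (2 * c)) = 1 := by field_simp
      have s3 : ((refG hQ (x 0) : GL ι F) : Matrix ι ι F) *ᵥ (x 1 - (2 : F)⁻¹ • v) = y := by
        rw [refG_mulVec, hx0, sub_right hQ, hb2.smul_right, hxx 0 1, hBv, if_neg (by decide),
          zero_sub, mul_neg, hm2, neg_one_smul, sub_neg_eq_add]
      have s4 : ((refG hQ v : GL ι F) : Matrix ι ι F) *ᵥ y = y := by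
        have h0 : B v y = 0 := by
          rw [hy, hb2.add_right, sub_right hQ, hb2.smul_right, hvx, hvx, B_self hQ, hvv]
          field_simp
          ring
        rw [refG_mulVec, h0, mul_zero, zero_smul, sub_zero]
      rw [gl_mul_mulVec, gl_mul_mulVec, gl_mul_mulVec, s1, s2, s3, s4]
    have hyL : y ∈ L := by
      rw [← g1]
      exact (hmem.1 _).1 ⟨pp 1, 1, (one_smul _ _).symm⟩
    obtain ⟨p, s, hp⟩ := hyL
    have hy0 : B y (x 0) = c := by
      rw [hy, hb2.add_left, form_sub_left (bil hQ), hb2.smul_left, hxx, hxx, hvx,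
        if_neg (by decide), if_pos rfl, inv_mul_cancel_left₀ h2]
      ring
    have hy2 : B y (x 2) = -c := by
      rw [hy, hb2.add_left, form_sub_left (bil hQ), hb2.smul_left, hxx, hxx, hvx,
        if_neg (by decide), if_neg (by decide), inv_mul_cancel_left₀ h2]
      ring
    rw [hp, hb2.smul_left] at hy0 hy2
    have e0 : p = pp 0 := by
      by_contra h
      rw [hx, horth _ _ h, mul_zero] at hy0
      exact hc0 hy0.symm
    rw [e0, hx, horth _ _ (hpp 0 2 (by decide)), mul_zero] at hy2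
    exact hc0 (by linear_combination hy2)

/-! ### Frames over the field with three elements and for `O₂⁺(5)` -/

theorem exists_orth_frame [Finite F] (hQ : Cfsg.Geo.IsNondegenerateQuadraticForm Q)
    (h2 : (2 : F) ≠ 0) {W : Submodule F (ι → F)} {k : ℕ} (hk : Module.finrank F W = k)
    (hW : Cfsg.Geo.IsNondegenerateOn B W) :
    ∃ b : Fin k → ι → F, (∀ j, b j ∈ W) ∧ (∀ j, Q (b j) ≠ 0) ∧
      (∀ j j', j ≠ j' → B (b j) (b j') = 0) ∧ ∀ v ∈ W, ∃ x : Fin k → F, v = ∑ j, x j • b j := by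
  have : Invertible (2 : F) := invertibleOfNonzero h2
  let Bf : LinearMap.BilinForm F W :=
    LinearMap.mk₂ F (fun u v : W => QuadraticMap.polar Q (u : ι → F) (v : ι → F))
      (fun a b c => hQ.polar_bilinear.add_left _ _ _)
      (fun a b c => hQ.polar_bilinear.smul_left _ _ _)
      (fun a b c => hQ.polar_bilinear.add_right _ _ _)
      (fun a b c => hQ.polar_bilinear.smul_right _ _ _)
  have hsym : LinearMap.IsSymm Bf := ⟨fun x y => B_comm (Q := Q) _ _⟩
  obtain ⟨v, hv⟩ := LinearMap.BilinForm.exists_orthogonal_basis hsym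
  let v' := v.reindex (finCongr hk)
  have ho : ∀ j j', j ≠ j' → B (v' j : ι → F) (v' j' : ι → F) = 0 := fun j j' h => by
    rw [Module.Basis.reindex_apply, Module.Basis.reindex_apply]
    exact hv (fun e => h ((finCongr hk).symm.injective e))
  refine ⟨fun j => (v' j : ι → F), fun j => Subtype.prop _, fun j hj => ?_, ho, fun w hw => ?_⟩
  · obtain ⟨-, z, hz, hjz⟩ := hW _ (Subtype.prop (v' j))
      (fun h => v'.ne_zero j (Subtype.ext h))
    apply hjz
    have hz' : z = ∑ l, v'.repr ⟨z, hz⟩ l • (v' l : ι → F) := by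
      conv_lhs => rw [show z = ((⟨z, hz⟩ : W) : ι → F) from rfl, ← v'.sum_repr ⟨z, hz⟩]
      push_cast; rfl
    rw [hz', form_sum_right' hQ]
    refine Finset.sum_eq_zero fun l _ => ?_
    by_cases h : j = l
    · subst h; rw [B_self hQ, hj]; ring
    · rw [ho j l h, mul_zero]
  · refine ⟨fun l => v'.repr ⟨w, hw⟩ l, ?_⟩
    conv_lhs => rw [show w = ((⟨w, hw⟩ : W) : ι → F) from rfl, ← v'.sum_repr ⟨w, hw⟩]
    push_cast; rfl
where
  form_sum_right' {n : ℕ} {x : ι → F} {c : Fin n → F} {y : Fin n → ι → F}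
      (hQ : Cfsg.Geo.IsNondegenerateQuadraticForm Q) :
      B x (∑ l, c l • y l) = ∑ l, c l * B x (y l) := by
    rw [show B x (∑ l, c l • y l) = (qf hQ).polarBilin x (∑ l, c l • y l) from rfl, map_sum]
    exact Finset.sum_congr rfl fun l _ => hQ.polar_bilinear.smul_right _ _ _

theorem Q_two (hQ : Cfsg.Geo.IsNondegenerateQuadraticForm Q) {a b : ι → F} (h : B a b = 0)
    (r s : F) : Q (r • a + s • b) = r * r * Q a + s * s * Q b := by
  rw [Cfsg.Agent.Lib.Subspaces.OrthForm.Q_add (Q := Q), hQ.smul, hQ.smul, hQ.polar_bilinear.smul_left, hQ.polar_bilinear.smul_right,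
    h]
  ring

theorem sq_eq_one [Fintype F] (h3 : Fintype.card F = 3) {a : F} (ha : a ≠ 0) : a * a = 1 := by
  have := FiniteField.pow_card_sub_one_eq_one a ha
  rw [h3] at this
  simpa [sq] using this

theorem three_eq_zero [Fintype F] (h3 : Fintype.card F = 3) : (3 : F) = 0 := by
  have := FiniteField.cast_card_eq_zero F
  rw [h3] at this
  simpa using this

theorem eq_neg_of_ne [Fintype F] (h3 : Fintype.card F = 3) {a b : F} (ha : a ≠ 0) (hb : b ≠ 0)
    (h : a ≠ b) : b = -a := by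
  have h1 : (a - b) * (a + b) = 0 := by linear_combination sq_eq_one h3 ha - sq_eq_one h3 hb
  rcases mul_eq_zero.mp h1 with h2 | h2
  · exact absurd (sub_eq_zero.mp h2) h
  · linear_combination h2

theorem frame_two [Fintype F] (hQ : Cfsg.Geo.IsNondegenerateQuadraticForm Q)
    (h3 : Fintype.card F = 3) {W : Submodule F (ι → F)} (hk : Module.finrank F W = 2)
    (hW : Cfsg.Geo.IsNondegenerateOn B W) :
    ∃ b : Fin 2 → ι → F, (∀ j, b j ∈ W) ∧ (∀ j, Q (b j) ≠ 0) ∧
      (∀ j j', j ≠ j' → B (b j) (b j') = 0) ∧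
      ∀ v ∈ W, ∀ j, Q v = Q (b j) → ∃ (j' : Fin 2) (s : F), v = s • b j' := by
  have h30 := three_eq_zero h3
  have h2 : (2 : F) ≠ 0 := fun h => one_ne_zero (by linear_combination h30 - h : (1 : F) = 0)
  obtain ⟨b, hb, hbQ, hbo, hspan⟩ := exists_orth_frame hQ h2 hk hW
  refine ⟨b, hb, hbQ, hbo, fun v hv j hj => ?_⟩
  obtain ⟨x, rfl⟩ := hspan v hv
  rw [Fin.sum_univ_two] at hj ⊢
  by_cases h0 : x 0 = 0
  · exact ⟨1, x 1, by rw [h0, zero_smul, zero_add]⟩
  by_cases h1 : x 1 = 0
  · exact ⟨0, x 0, by rw [h1, zero_smul, add_zero]⟩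
  rw [Q_two hQ (hbo 0 1 (by decide)), sq_eq_one h3 h0, sq_eq_one h3 h1] at hj
  fin_cases j <;> simp at hj
  · exact absurd hj (hbQ 1)
  · exact absurd hj (hbQ 0)

theorem frame_three [Fintype F] (hQ : Cfsg.Geo.IsNondegenerateQuadraticForm Q)
    (h3 : Fintype.card F = 3) {W : Submodule F (ι → F)} (hk : Module.finrank F W = 3)
    (hW : Cfsg.Geo.IsNondegenerateOn B W) :
    ∃ b : Fin 3 → ι → F, (∀ j, b j ∈ W) ∧ (∀ j, Q (b j) ≠ 0) ∧
      (∀ j j', j ≠ j' → B (b j) (b j') = 0) ∧
      ∀ v ∈ W, ∀ j, Q v = Q (b j) → ∃ (j' : Fin 3) (s : F), v = s • b j' := by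
  have h30 := three_eq_zero h3
  have h2 : (2 : F) ≠ 0 := fun h => one_ne_zero (by linear_combination h30 - h : (1 : F) = 0)
  have hb2 := hQ.polar_bilinear
  obtain ⟨b, hb, hbQ, hbo, hspan⟩ := exists_orth_frame hQ h2 hk hW
  -- make the three values equal
  obtain ⟨u, hu, c, hc, huQ, huo, husp⟩ : ∃ u : Fin 3 → ι → F, (∀ j, u j ∈ W) ∧ ∃ c : F, c ≠ 0 ∧
      (∀ j, Q (u j) = c) ∧ (∀ j j', j ≠ j' → B (u j) (u j') = 0) ∧
      ∀ v ∈ W, v ∈ Submodule.span F (Set.range u) := by
    have hsp : ∀ v ∈ W, v ∈ Submodule.span F (Set.range b) := fun v hv => by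
      obtain ⟨x, rfl⟩ := hspan v hv
      exact sum_mem fun j _ => Submodule.smul_mem _ _ (Submodule.subset_span ⟨j, rfl⟩)
    have key : ∀ i j l : Fin 3, i ≠ j → i ≠ l → j ≠ l → Q (b i) = Q (b j) → Q (b l) ≠ Q (b i) →
        ∃ u : Fin 3 → ι → F, (∀ r, u r ∈ W) ∧ ∃ c : F, c ≠ 0 ∧
          (∀ r, Q (u r) = c) ∧ (∀ r r', r ≠ r' → B (u r) (u r') = 0) ∧
          ∀ v ∈ W, v ∈ Submodule.span F (Set.range u) := by
      intro i j l hij hil hjl hQij hl
      have hneg := eq_neg_of_ne h3 (hbQ i) (hbQ l) (Ne.symm hl)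
      refine ⟨![b i + b j, b i - b j, b l], ?_, Q (b l), hbQ l, ?_, ?_, fun v hv => ?_⟩
      · intro r; fin_cases r
        exacts [W.add_mem (hb i) (hb j), W.sub_mem (hb i) (hb j), hb l]
      · intro r; fin_cases r
        · show Q (b i + b j) = _
          rw [Cfsg.Agent.Lib.Subspaces.OrthForm.Q_add (Q := Q), hbo i j hij, hneg, ← hQij]
          linear_combination Q (b i) * h30
        · show Q (b i - b j) = _
          rw [sub_eq_add_neg, ← neg_one_smul F (b j), Q_add_smul hQ, hbo i j hij, hneg, ← hQij]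
          linear_combination Q (b i) * h30
        · rfl
      · have e1 : B (b i + b j) (b i - b j) = 0 := by
          rw [sub_right hQ, hb2.add_left, hb2.add_left, B_self hQ, B_self hQ, hbo i j hij,
            hbo j i hij.symm, hQij]
          ring
        have e2 : B (b i + b j) (b l) = 0 := by
          rw [hb2.add_left, hbo i l hil, hbo j l hjl, add_zero]
        have e3 : B (b i - b j) (b l) = 0 := by
          rw [form_sub_left (bil hQ), hbo i l hil, hbo j l hjl, sub_zero]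
        intro r r' h
        fin_cases r <;> fin_cases r' <;>
          first | exact absurd rfl h | exact e1 | exact e2 | exact e3 | (rw [B_comm]; assumption)
      · refine Submodule.span_le.mpr ?_ (hsp v hv)
        rintro _ ⟨r, rfl⟩
        set S := Submodule.span F (Set.range ![b i + b j, b i - b j, b l])
        have m0 : b i + b j ∈ S := Submodule.subset_span ⟨0, rfl⟩
        have m1 : b i - b j ∈ S := Submodule.subset_span ⟨1, rfl⟩
        have m2 : b l ∈ S := Submodule.subset_span ⟨2, rfl⟩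
        have hall : ∀ r : Fin 3, r = i ∨ r = j ∨ r = l := by
          intro r; omega
        have hi : b i ∈ S := by
          have := S.smul_mem (2 : F)⁻¹ (S.add_mem m0 m1)
          rwa [show b i + b j + (b i - b j) = (2 : F) • b i by module, smul_smul,
            inv_mul_cancel₀ h2, one_smul] at this
        rcases hall r with rfl | rfl | rfl
        · exact hi
        · simpa using S.sub_mem m0 hi
        · exact m2
    by_cases h01 : Q (b 0) = Q (b 1)
    · by_cases h02 : Q (b 2) = Q (b 0)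
      · refine ⟨b, hb, Q (b 0), hbQ 0, fun r => ?_, hbo, hsp⟩
        fin_cases r
        exacts [rfl, h01.symm, h02]
      · exact key 0 1 2 (by decide) (by decide) (by decide) h01 h02
    · have h1 := eq_neg_of_ne h3 (hbQ 0) (hbQ 1) h01
      by_cases h02 : Q (b 0) = Q (b 2)
      · exact key 0 2 1 (by decide) (by decide) (by decide) h02 (Ne.symm h01)
      · have h2' := eq_neg_of_ne h3 (hbQ 0) (hbQ 2) h02
        exact key 1 2 0 (by decide) (by decide) (by decide) (h1.trans h2'.symm) h01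
  refine ⟨u, hu, fun j => by rw [huQ]; exact hc, huo, fun v hv j hj => ?_⟩
  obtain ⟨x, rfl⟩ := (Submodule.mem_span_range_iff_exists_fun F).mp (husp v hv)
  rw [Fin.sum_univ_three] at hj ⊢
  rw [huQ, Cfsg.Agent.Lib.Subspaces.OrthForm.Q_add (Q := Q), Q_two hQ (huo 0 1 (by decide)), hQ.smul, huQ, huQ, huQ,
    hb2.add_left, hb2.smul_left, hb2.smul_left, hb2.smul_right, hb2.smul_right,
    huo 0 2 (by decide), huo 1 2 (by decide)] at hj
  have hj' : x 0 * x 0 + x 1 * x 1 + x 2 * x 2 = 1 :=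
    mul_left_cancel₀ hc (by linear_combination hj)
  have hsq : ∀ a : F, a = 0 ∨ a * a = 1 := fun a => (eq_or_ne a 0).imp_right (sq_eq_one h3)
  rcases hsq (x 0) with h0 | h0 <;> rcases hsq (x 1) with h1 | h1 <;>
    rcases hsq (x 2) with h2' | h2'
  · simp [h0, h1, h2'] at hj'
  · exact ⟨2, x 2, by simp [h0, h1]⟩
  · exact ⟨1, x 1, by simp [h0, h2']⟩
  · exact absurd (show (1 : F) = 0 by rw [h0, h1, h2'] at hj'; linear_combination hj') one_ne_zero
  · exact ⟨0, x 0, by simp [h1, h2']⟩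
  · exact absurd (show (1 : F) = 0 by rw [h0, h1, h2'] at hj'; linear_combination hj') one_ne_zero
  · exact absurd (show (1 : F) = 0 by rw [h0, h1, h2'] at hj'; linear_combination hj') one_ne_zero
  · exact absurd (show (1 : F) = 0 by rw [h0, h1, h2'] at hj'; linear_combination h30 - hj')
      one_ne_zero

theorem frame_five [Fintype F] (hQ : Cfsg.Geo.IsNondegenerateQuadraticForm Q)
    (h5 : Fintype.card F = 5) {W : Submodule F (ι → F)} (hk : Module.finrank F W = 2)
    (hW : Cfsg.Geo.IsNondegenerateOn B W) (hp : Cfsg.Geo.IsPlusTypeOn Q W) :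
    ∃ b : Fin 2 → ι → F, (∀ j, b j ∈ W) ∧ (∀ j, Q (b j) ≠ 0) ∧
      (∀ j j', j ≠ j' → B (b j) (b j') = 0) ∧
      ∀ v ∈ W, ∀ j, Q v = Q (b j) → ∃ (j' : Fin 2) (s : F), v = s • b j' := by
  have h50 : (5 : F) = 0 := by
    have := FiniteField.cast_card_eq_zero F; rw [h5] at this; simpa using this
  have hb := hQ.polar_bilinear
  obtain ⟨U, hUW, hU, hUd⟩ := hp
  obtain ⟨e, heU, he0⟩ := Submodule.exists_mem_ne_zero_of_ne_bot
    (p := U) (fun h => by rw [h, finrank_bot, hk] at hUd; omega)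
  have heQ : Q e = 0 := hU e heU
  obtain ⟨-, y, hy, hey⟩ := hW e (hUW heU) he0
  set f := (B e y)⁻¹ • y + (-Q ((B e y)⁻¹ • y)) • e with hf
  have hee : B e e = 0 := by rw [B_self hQ, heQ, mul_zero]
  have hef : B e f = 1 := by
    rw [hf, hb.add_right, hb.smul_right, hb.smul_right, hee, inv_mul_cancel₀ hey, mul_zero,
      add_zero]
  have hfQ : Q f = 0 := by
    rw [hf, Q_add_smul hQ, heQ, hb.smul_left, B_comm y e, inv_mul_cancel₀ hey]
    ring
  have hfW : f ∈ W := W.add_mem (W.smul_mem _ hy) (W.smul_mem _ (hUW heU))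
  have hval : ∀ r s : F, Q (r • e + s • f) = r * s := fun r s => by
    rw [Cfsg.Agent.Lib.Subspaces.OrthForm.Q_add (Q := Q), hQ.smul, hQ.smul, heQ, hfQ, hb.smul_left, hb.smul_right, hef]; ring
  have hspan : ∀ v ∈ W, ∃ r s : F, r • e + s • f = v := by
    intro v hv
    have hle : Submodule.span F {e, f} ≤ W := Submodule.span_le.mpr
      (by rintro z (rfl | rfl); exacts [hUW heU, hfW])
    have hlt : Submodule.span F {e} < Submodule.span F {e, f} := by
      refine lt_of_le_of_ne (Submodule.span_mono (by simp)) fun h => ?_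
      obtain ⟨c, hc⟩ := Submodule.mem_span_singleton.mp
        (h.ge (Submodule.subset_span (by simp : f ∈ ({e, f} : Set (ι → F)))))
      exact one_ne_zero (by rw [← hef, ← hc, hb.smul_right, hee, mul_zero])
    have hd := Submodule.finrank_lt_finrank_of_lt hlt
    rw [finrank_span_singleton he0] at hd
    rw [← Submodule.eq_of_le_of_finrank_le hle (by omega)] at hv
    exact Submodule.mem_span_pair.mp hv
  clear_value f
  clear hf
  refine ⟨![(1 : F) • e + (1 : F) • f, (2 : F) • e + (3 : F) • f], ?_, ?_, ?_, fun v hv j hj => ?_⟩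
  · intro j; fin_cases j <;> exact W.add_mem (W.smul_mem _ (hUW heU)) (W.smul_mem _ hfW)
  · intro j
    fin_cases j
    · show Q ((1 : F) • e + (1 : F) • f) ≠ 0
      rw [hval]; simp
    · show Q ((2 : F) • e + (3 : F) • f) ≠ 0
      rw [hval, show (2 : F) * 3 = 1 by linear_combination h50]; exact one_ne_zero
  · have e1 : B ((1 : F) • e + (1 : F) • f) ((2 : F) • e + (3 : F) • f) = 0 := by
      rw [hb.add_left, hb.add_right, hb.add_right]
      simp only [hb.smul_left, hb.smul_right, hee, hef, B_comm f e, B_self hQ, hfQ]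
      linear_combination h50
    intro j j' h
    fin_cases j <;> fin_cases j' <;>
      first | exact absurd rfl h | exact e1 | (rw [B_comm]; exact e1)
  · obtain ⟨r, s, rfl⟩ := hspan v hv
    have hrs : r * s = 1 := by
      rw [hval] at hj
      fin_cases j
      · change r * s = Q ((1 : F) • e + (1 : F) • f) at hj
        rwa [hval, one_mul] at hj
      · change r * s = Q ((2 : F) • e + (3 : F) • f) at hj
        rwa [hval, show (2 : F) * 3 = 1 by linear_combination h50] at hj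
    have hr : r ≠ 0 := left_ne_zero_of_mul_eq_one hrs
    have h4 : r * r * (r * r) = 1 := by
      have := FiniteField.pow_card_sub_one_eq_one r hr
      rw [h5] at this; linear_combination this
    have : (r * r - 1) * (r * r - 4) = 0 := by
      linear_combination h4 + h50 * (1 - r * r)
    rcases mul_eq_zero.mp this with h | h
    · refine ⟨0, r, ?_⟩
      have hsr : s = r := mul_left_cancel₀ hr (by linear_combination hrs - h)
      show _ = r • ((1 : F) • e + (1 : F) • f)
      rw [hsr]; module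
    · refine ⟨1, 3 * r, ?_⟩
      have hsr : s = 4 * r := mul_left_cancel₀ hr (by linear_combination hrs - 4 * h - 3 * h50)
      show _ = (3 * r) • ((2 : F) • e + (3 : F) • f)
      rw [hsr]
      match_scalars
      · linear_combination -r * h50
      · linear_combination -r * h50

/-- Decompositions with blocks of dimension two or three over the field with three elements. -/
theorem exists_between_three [Fintype F] (hQ : Cfsg.Geo.IsNondegenerateQuadraticForm Q)
    (h3 : Fintype.card F = 3) (hn : 13 ≤ Fintype.card ι) {t k : ℕ} (hk : k = 2 ∨ k = 3)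
    {D : Fin t → Submodule F (ι → F)} (hD : Cfsg.Geo.IsOrthogonalMDecomposition Q k D) :
    ∃ K : Subgroup (GL ι F), Cfsg.Geo.decompositionStabilizer D ⊓ Cfsg.Geo.omegaGL Q < K ∧
      K < Cfsg.Geo.omegaGL Q := by
  have hc := card_eq hD.decomp.decomp
  have ht : 4 ≤ t := by rcases hk with rfl | rfl <;> omega
  have h2 : (2 : F) ≠ 0 := fun h =>
    one_ne_zero (by linear_combination three_eq_zero h3 - h : (1 : F) = 0)
  let i₀ : Fin t := ⟨0, by omega⟩
  have hd := hD.decomp.decomp.finrank_eq i₀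
  rcases hk with rfl | rfl
  · obtain ⟨b, hb, hbQ, hbo, hP⟩ := frame_two hQ h3 hd (hD.decomp.nondegenerate i₀)
    exact exists_between hQ h2 hD ht le_rfl i₀ b hb hbQ hbo hP
  · obtain ⟨b, hb, hbQ, hbo, hP⟩ := frame_three hQ h3 hd (hD.decomp.nondegenerate i₀)
    exact exists_between hQ h2 hD ht (by omega) i₀ b hb hbQ hbo hP

end Cfsg.Agent.Lib.Forms.FrameRefine
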