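/-
Characteristic two: stabilisers of orthogonal decompositions of types `O₂⁺(2)`, `O₂⁺(4)`, `O₄⁺(2)`
are not maximal in `Ω`.
-/
import Cfsg.Agent.Lib.Forms.FrameRefine

set_option autoImplicit false

namespace Cfsg.Agent.Lib.Forms.FrameRefineTwo

open Matrix Cfsg.Agent.Lib.Subspaces.Transvection Cfsg.Agent.Lib.Subspaces.FormVec
  Cfsg.Agent.Lib.Subspaces.OrthForm Cfsg.Agent.Lib.Subspaces.OmegaGL

variable {ι : Type} [Fintype ι] [DecidableEq ι] {F : Type*} [Field F] {Q : (ι → F) → F}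

local notation "B" => QuadraticMap.polar Q

theorem mem_stabilizing_of_mapsTo [Finite F] {S : Set (ι → F)} {g : GL ι F}
    (h : ∀ x ∈ S, (g : Matrix ι ι F) *ᵥ x ∈ S) : g ∈ Cfsg.stabilizing (Cfsg.glToMat ι F) S := by
  intro x
  refine ⟨h x, fun hx => ?_⟩
  obtain ⟨y, hy, hyx⟩ := (((Set.toFinite S).injOn_iff_bijOn_of_mapsTo
    (f := fun z => (g : Matrix ι ι F) *ᵥ z) h).mp (gl_mulVec_injective g).injOn).surjOn hx
  exact gl_mulVec_injective g hyx ▸ hy

/-- A vector with products against two different blocks lies in no block. -/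
theorem not_mem_block {t k : ℕ} {D : Fin t → Submodule F (ι → F)}
    (hD : Cfsg.Geo.IsOrthogonalMDecomposition Q k D) {i l : Fin t} (hil : i ≠ l) {z p r : ι → F}
    (hp : p ∈ D i) (hr : r ∈ D l) (hzp : B z p ≠ 0) (hzr : B z r ≠ 0) (j : Fin t) : z ∉ D j := by
  intro hz
  have h1 : j = i := by
    by_contra h
    exact hzp (hD.decomp.orthogonal j i h z hz p hp)
  have h2 : j = l := by
    by_contra h
    exact hzr (hD.decomp.orthogonal j l h z hz r hr)
  exact hil (h1.symm.trans h2)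

/-- The vectors of value one in the blocks. -/
def S1 (Q : (ι → F) → F) {t : ℕ} (D : Fin t → Submodule F (ι → F)) : Set (ι → F) :=
  {v | ∃ i, v ∈ D i ∧ Q v = 1}

theorem mapsTo_S1 {t : ℕ} {D : Fin t → Submodule F (ι → F)}
    (hQ : Cfsg.Geo.IsNondegenerateQuadraticForm Q) {g : GL ι F}
    (hg : g ∈ Cfsg.Geo.decompositionStabilizer D ⊓ Cfsg.Geo.omegaGL Q) :
    ∀ x ∈ S1 Q D, (g : Matrix ι ι F) *ᵥ x ∈ S1 Q D := by
  obtain ⟨⟨σ, hσ⟩, hgΩ⟩ := hg
  rintro x ⟨i, hx, hxQ⟩
  exact ⟨σ i, hσ i ▸ ⟨x, hx, Matrix.toLin'_apply _ _⟩, (omega_isometry hQ hgΩ x).trans hxQ⟩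

theorem exists_hyp_pair (hQ : Cfsg.Geo.IsNondegenerateQuadraticForm Q) {W : Submodule F (ι → F)}
    (hW : Cfsg.Geo.IsNondegenerateOn B W) {e : ι → F} (he : e ∈ W) (he0 : e ≠ 0) (heQ : Q e = 0) :
    ∃ f ∈ W, Q f = 0 ∧ B e f = 1 := by
  have hb := hQ.polar_bilinear
  obtain ⟨-, y, hy, hey⟩ := hW e he he0
  have hee : B e e = 0 := by rw [B_self hQ, heQ, mul_zero]
  refine ⟨(B e y)⁻¹ • y + (-Q ((B e y)⁻¹ • y)) • e, W.add_mem (W.smul_mem _ hy) (W.smul_mem _ he),
    ?_, ?_⟩
  · rw [Q_add_smul hQ, heQ, hb.smul_left, B_comm y e, inv_mul_cancel₀ hey]; ring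
  · rw [hb.add_right, hb.smul_right, hb.smul_right, hee, inv_mul_cancel₀ hey, mul_zero, add_zero]

theorem sieg_apply_zero (hQ : Cfsg.Geo.IsNondegenerateQuadraticForm Q) {u w : ι → F} (hu : Q u = 0)
    (hw : Q w = 0) (hwu : B w u = 0) (x : ι → F) :
    (sieg Q u w : Matrix ι ι F) *ᵥ x = x + B x u • w + (-(B x w)) • u := by
  rw [sieg_mulVec hQ hu hwu, hw, zero_mul, sub_zero]

/-- Blocks of type `O₂⁺` over two or four elements. -/
theorem exists_between_plane [Fintype F] (hQ : Cfsg.Geo.IsNondegenerateQuadraticForm Q)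
    (hq : Fintype.card F = 2 ∨ Fintype.card F = 4) (hn : 13 ≤ Fintype.card ι) {t : ℕ}
    {D : Fin t → Submodule F (ι → F)} (hD : Cfsg.Geo.IsOrthogonalMDecomposition Q 2 D)
    (hp : ∀ i, Cfsg.Geo.IsPlusTypeOn Q (D i)) :
    ∃ K : Subgroup (GL ι F), Cfsg.Geo.decompositionStabilizer D ⊓ Cfsg.Geo.omegaGL Q < K ∧
      K < Cfsg.Geo.omegaGL Q := by
  classical
  have hb := hQ.polar_bilinear
  have hd := hD.decomp.decomp
  have hc := FrameRefine.card_eq hd
  have h20 : (2 : F) = 0 := by
    have := FiniteField.cast_card_eq_zero F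
    rcases hq with h | h <;> rw [h] at this
    · simpa using this
    · have h4 : (2 : F) * 2 = 0 := by push_cast at this; linear_combination this
      simpa using h4
  -- values `x + x⁻¹`
  obtain ⟨P, lam, hlam, hP1, hP01⟩ : ∃ (P : AddSubgroup F) (lam : F), lam ∉ P ∧
      (∀ x : F, x ≠ 0 → x + x⁻¹ ∈ P) ∧ ∀ x : F, x ≠ 0 → x + x⁻¹ = 0 ∨ x + x⁻¹ = 1 := by
    rcases hq with h | h
    · have hone : ∀ x : F, x ≠ 0 → x + x⁻¹ = 0 := fun x hx => by
        have h1 := FiniteField.pow_card_sub_one_eq_one x hx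
        rw [h] at h1
        rw [show x = 1 by simpa using h1, inv_one]; linear_combination h20
      exact ⟨⊥, 1, by simp, fun x hx => by rw [hone x hx]; exact zero_mem _,
        fun x hx => Or.inl (hone x hx)⟩
    · have hone : ∀ x : F, x ≠ 0 → x + x⁻¹ = 0 ∨ x + x⁻¹ = 1 := fun x hx => by
        have h1 := FiniteField.pow_card_sub_one_eq_one x hx
        rw [h] at h1
        have h2 : (x - 1) * (x * x + x + 1) = 0 := by linear_combination h1
        rcases mul_eq_zero.mp h2 with h3 | h3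
        · rw [show x = 1 from sub_eq_zero.mp h3, inv_one]; exact Or.inl (by linear_combination h20)
        · refine Or.inr (mul_left_cancel₀ hx ?_)
          rw [mul_add, mul_inv_cancel₀ hx]; linear_combination h3 - x * h20
      let P : AddSubgroup F :=
        { carrier := {z | z * z = z}
          add_mem' := fun {a b} ha hb => by
            simp only [Set.mem_setOf_eq] at ha hb ⊢
            linear_combination ha + hb + a * b * h20
          zero_mem' := by simp
          neg_mem' := fun {a} ha => by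
            simp only [Set.mem_setOf_eq] at ha ⊢
            linear_combination ha + a * h20 }
      obtain ⟨lam, hlam⟩ : ∃ lam : F, lam ∉ ({0, 1} : Finset F) :=
        (Finset.exists_mem_notMem_of_card_lt_card (t := Finset.univ)
          (lt_of_le_of_lt Finset.card_le_two (by rw [Finset.card_univ, h]; norm_num))).imp
          fun _ hh => hh.2
      refine ⟨P, lam, fun hl => ?_, fun x hx => ?_, hone⟩
      · change lam * lam = lam at hl
        simp at hlam
        exact hlam.2 (mul_left_cancel₀ hlam.1 (hl.trans (mul_one _).symm))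
      · rcases hone x hx with h' | h' <;> rw [h']
        · exact zero_mem _
        · exact mul_one 1
  let i₀ : Fin t := ⟨0, by omega⟩
  obtain ⟨U, hUW, hU, hUd⟩ := hp i₀
  obtain ⟨e₀, heU, he0⟩ := Submodule.exists_mem_ne_zero_of_ne_bot
    (p := U) (fun h => by rw [h, finrank_bot, hd.finrank_eq i₀] at hUd; omega)
  have heQ : Q e₀ = 0 := hU e₀ heU
  obtain ⟨f₀, hfW, hfQ, hef⟩ := exists_hyp_pair hQ (hD.decomp.nondegenerate i₀) (hUW heU) he0 heQ
  have hspan : ∀ v ∈ D i₀, ∃ r s : F, r • e₀ + s • f₀ = v := by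
    intro v hv
    have hle : Submodule.span F {e₀, f₀} ≤ D i₀ := Submodule.span_le.mpr
      (by rintro z (rfl | rfl); exacts [hUW heU, hfW])
    have hlt : Submodule.span F {e₀} < Submodule.span F {e₀, f₀} := by
      refine lt_of_le_of_ne (Submodule.span_mono (by simp)) fun h => ?_
      obtain ⟨c, hc⟩ := Submodule.mem_span_singleton.mp
        (h.ge (Submodule.subset_span (by simp : f₀ ∈ ({e₀, f₀} : Set (ι → F)))))
      exact one_ne_zero (by rw [← hef, ← hc, hb.smul_right, B_self hQ, heQ]; ring)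
    have hd' := Submodule.finrank_lt_finrank_of_lt hlt
    rw [finrank_span_singleton he0] at hd'
    have := hd.finrank_eq i₀
    rw [← Submodule.eq_of_le_of_finrank_le hle (by omega)] at hv
    exact Submodule.mem_span_pair.mp hv
  choose g hg using fun i => hD.isometric i₀ i
  let ee : Fin t → ι → F := fun i => (g i ⟨e₀, hUW heU⟩ : D i)
  let ff : Fin t → ι → F := fun i => (g i ⟨f₀, hfW⟩ : D i)
  have hem : ∀ i, ee i ∈ D i := fun i => Subtype.prop _
  have hfm : ∀ i, ff i ∈ D i := fun i => Subtype.prop _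
  have heQ' : ∀ i, Q (ee i) = 0 := fun i => (hg i _).trans heQ
  have hfQ' : ∀ i, Q (ff i) = 0 := fun i => (hg i _).trans hfQ
  have hef' : ∀ i, B (ee i) (ff i) = 1 := fun i => by
    have h1 := hg i (⟨e₀, hUW heU⟩ + ⟨f₀, hfW⟩)
    rw [map_add, Submodule.coe_add, Submodule.coe_add] at h1
    show QuadraticMap.polar Q _ _ = 1
    rw [QuadraticMap.polar, h1, heQ', hfQ', ← hef, QuadraticMap.polar, heQ, hfQ]
  have hcross : ∀ {i j}, i ≠ j → ∀ {a b}, a ∈ D i → b ∈ D j → B a b = 0 :=
    fun h _ _ ha hb' => hD.decomp.orthogonal _ _ h _ ha _ hb'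
  obtain ⟨u, hu⟩ : ∃ u : Fin t → ι → F, ∀ i, u i = ee i + ff i := ⟨fun i => ee i + ff i, fun _ => rfl⟩
  have hum : ∀ i, u i ∈ D i := fun i => by rw [hu]; exact (D i).add_mem (hem i) (hfm i)
  have huQ : ∀ i, Q (u i) = 1 := fun i => by
    rw [hu, Cfsg.Agent.Lib.Subspaces.OrthForm.Q_add (Q := Q), heQ', hfQ', hef']; ring
  have huu : ∀ i j, B (u i) (u j) = 0 := fun i j => by
    by_cases h : i = j
    · subst h; rw [B_self hQ, h20, zero_mul]
    · exact hcross h (hum i) (hum j)
  have heu : ∀ i, B (ee i) (u i) = 1 := fun i => by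
    rw [hu, hb.add_right, B_self hQ, heQ', hef']; ring
  -- products of value-one vectors with the `u`
  have hsu : ∀ s ∈ S1 Q D, ∀ l, B s (u l) = 0 ∨ ∃ x : F, x ≠ 0 ∧ B s (u l) = x + x⁻¹ := by
    rintro s ⟨i, hs, hsQ⟩ l
    by_cases h : i = l
    · subst h
      obtain ⟨r, r', hrr⟩ := hspan _ ((g i).symm ⟨s, hs⟩ : D i₀).2
      have h1 : (g i).symm ⟨s, hs⟩ =
          r • (⟨e₀, hUW heU⟩ : D i₀) + r' • ⟨f₀, hfW⟩ := Subtype.ext hrr.symm
      have h2 := congrArg (g i) h1
      rw [LinearEquiv.apply_symm_apply, map_add, map_smul, map_smul] at h2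
      have hs' : s = r • ee i + r' • ff i := congrArg Subtype.val h2
      have hrr' : r * r' = 1 := by
        rw [← hsQ, hs', Cfsg.Agent.Lib.Subspaces.OrthForm.Q_add (Q := Q), hQ.smul, hQ.smul, heQ',
          hfQ', hb.smul_left, hb.smul_right, hef']
        ring
      refine Or.inr ⟨r, left_ne_zero_of_mul_eq_one hrr', ?_⟩
      rw [hs', hb.add_left, hb.smul_left, hb.smul_left, heu, hu, hb.add_right, B_self hQ (ff i), hfQ',
        B_comm (ff i) (ee i), hef', ← eq_inv_of_mul_eq_one_right hrr']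
      ring
    · exact Or.inl (hcross h hs (hum l))
  have hsu01 : ∀ s ∈ S1 Q D, ∀ l, B s (u l) = 0 ∨ B s (u l) = 1 := fun s hs l => by
    rcases hsu s hs l with h | ⟨x, hx, h⟩
    · exact Or.inl h
    · rw [h]; exact hP01 x hx
  let p : Fin 4 → Fin t := Fin.castLE (by omega)
  have hpne : ∀ a b, a ≠ b → p a ≠ p b := fun a b h e => h (Fin.castLE_injective _ e)
  let Λ : AddSubgroup (ι → F) := AddSubgroup.closure (S1 Q D)
  have hmaps : ∀ G : GL ι F, (∀ s ∈ S1 Q D, (G : Matrix ι ι F) *ᵥ s ∈ Λ) →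
      ∀ x ∈ Λ, (G : Matrix ι ι F) *ᵥ x ∈ Λ := by
    intro G hG x hx
    induction hx using AddSubgroup.closure_induction with
    | mem s hs => exact hG s hs
    | zero => rw [mulVec_zero]; exact zero_mem _
    | add a b _ _ ha hb => rw [mulVec_add]; exact add_mem ha hb
    | neg a _ ha => rw [mulVec_neg]; exact neg_mem ha
  have hΛu : ∀ i, u i ∈ Λ := fun i => AddSubgroup.subset_closure ⟨i, hum i, huQ i⟩
  refine exists_between_of
    (K := Cfsg.stabilizing (Cfsg.glToMat ι F) (Λ : Set (ι → F)) ⊓ Cfsg.Geo.omegaGL Q)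
    ?_ inf_le_right ?_ ?_
  · intro G hG
    exact ⟨mem_stabilizing_of_mapsTo (hmaps G fun s hs =>
      AddSubgroup.subset_closure (mapsTo_S1 hQ hG s hs)), hG.2⟩
  · -- fixes every `u`, mixes the blocks
    set a := u (p 0) + u (p 1)
    set w := u (p 2) + u (p 3)
    have haQ : Q a = 0 := by
      rw [Cfsg.Agent.Lib.Subspaces.OrthForm.Q_add (Q := Q), huQ, huQ, huu]; linear_combination h20
    have hwQ : Q w = 0 := by
      rw [Cfsg.Agent.Lib.Subspaces.OrthForm.Q_add (Q := Q), huQ, huQ, huu]; linear_combination h20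
    have hwa : B w a = 0 := by
      rw [hb.add_left, hb.add_right, hb.add_right, huu, huu, huu, huu]; ring
    refine ⟨sieg Q a w, ⟨mem_stabilizing_of_mapsTo (hmaps _ fun s hs => ?_),
      sieg_mem_omega hQ (by omega) haQ hwa⟩, fun hG => ?_⟩
    · rw [sieg_apply_zero hQ haQ hwQ hwa, hb.add_right, hb.add_right]
      have hclosed : ∀ l l' : Fin t, ∀ v ∈ Λ, (B s (u l) + B s (u l')) • v ∈ Λ := by
        intro l l' v hv
        rw [add_smul]
        refine add_mem ?_ ?_
        · rcases hsu01 s hs l with h | h <;> rw [h] <;> simp [hv, zero_mem]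
        · rcases hsu01 s hs l' with h | h <;> rw [h] <;> simp [hv, zero_mem]
      refine add_mem (add_mem (AddSubgroup.subset_closure hs)
        (hclosed _ _ _ (add_mem (hΛu _) (hΛu _)))) ?_
      rw [neg_smul]
      exact neg_mem (hclosed _ _ _ (add_mem (hΛu _) (hΛu _)))
    · obtain ⟨σ, hσ⟩ := hG.1
      have h1 : (sieg Q a w : Matrix ι ι F) *ᵥ ee (p 0) = ee (p 0) + w := by
        rw [sieg_apply_zero hQ haQ hwQ hwa, hb.add_right, hb.add_right, heu,
          hcross (hpne 0 1 (by decide)) (hem _) (hum _), hcross (hpne 0 2 (by decide)) (hem _) (hum _),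
          hcross (hpne 0 3 (by decide)) (hem _) (hum _)]
        simp
      have hm : ee (p 0) + w ∈ D (σ (p 0)) := h1 ▸ hσ (p 0) ▸ ⟨_, hem _, Matrix.toLin'_apply _ _⟩
      refine not_mem_block hD (hpne 0 2 (by decide)) (hum (p 0)) (hem (p 2)) ?_ ?_ _ hm
      · rw [hb.add_left, hb.add_left, heu, huu, huu]; simp
      · rw [hb.add_left, hb.add_left, hcross (hpne 0 2 (by decide)) (hem _) (hem _),
          B_comm (u (p 2)), heu, hcross (hpne 3 2 (by decide)) (hum _) (hem _)]
        simp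
  · -- moves the additive span
    have hew : B (lam • ee (p 1)) (ee (p 0)) = 0 := by
      rw [hb.smul_left, hcross (hpne 1 0 (by decide)) (hem _) (hem _), mul_zero]
    have hwQ : Q (lam • ee (p 1)) = 0 := by rw [hQ.smul, heQ', mul_zero]
    refine ⟨sieg Q (ee (p 0)) (lam • ee (p 1)), sieg_mem_omega hQ (by omega) (heQ' _) hew,
      fun hG => ?_⟩
    have h1 : (sieg Q (ee (p 0)) (lam • ee (p 1)) : Matrix ι ι F) *ᵥ u (p 0) =
        u (p 0) + lam • ee (p 1) := by
      rw [sieg_apply_zero hQ (heQ' _) hwQ hew, hb.smul_right, B_comm (u (p 0)) (ee (p 0)), heu,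
        hcross (hpne 0 1 (by decide)) (hum _) (hem _)]
      simp
    have hm : u (p 0) + lam • ee (p 1) ∈ Λ := h1 ▸ (hG.1 _).1 (hΛu _)
    have hall : ∀ x ∈ Λ, B x (u (p 1)) ∈ P := by
      intro x hx
      induction hx using AddSubgroup.closure_induction with
      | mem s hs =>
        rcases hsu s hs (p 1) with h | ⟨r, hr, h⟩ <;> rw [h]
        · exact zero_mem _
        · exact hP1 r hr
      | zero => rw [form_zero_left (bil hQ)]; exact zero_mem _
      | add a b _ _ ha hb' => rw [hb.add_left]; exact add_mem ha hb'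
      | neg a _ ha =>
        rw [show -a = (-1 : F) • a by simp, hb.smul_left, neg_one_mul]; exact neg_mem ha
    have := hall _ hm
    rw [hb.add_left, huu, hb.smul_left, heu, zero_add, mul_one] at this
    exact hlam this

/-- Blocks of type `O₄⁺(2)`. -/
theorem exists_between_four [Fintype F] (hQ : Cfsg.Geo.IsNondegenerateQuadraticForm Q)
    (hq : Fintype.card F = 2) (hn : 13 ≤ Fintype.card ι) {t : ℕ}
    {D : Fin t → Submodule F (ι → F)} (hD : Cfsg.Geo.IsOrthogonalMDecomposition Q 4 D)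
    (hp : ∀ i, Cfsg.Geo.IsPlusTypeOn Q (D i)) :
    ∃ K : Subgroup (GL ι F), Cfsg.Geo.decompositionStabilizer D ⊓ Cfsg.Geo.omegaGL Q < K ∧
      K < Cfsg.Geo.omegaGL Q := by
  classical
  have hb := hQ.polar_bilinear
  have hd := hD.decomp.decomp
  have hc := FrameRefine.card_eq hd
  have h20 : (2 : F) = 0 := by
    have := FiniteField.cast_card_eq_zero F
    rw [hq] at this
    simpa using this
  have h01 : ∀ a : F, a = 0 ∨ a = 1 := fun a => (eq_or_ne a 0).imp_right fun ha => by
    have h := FiniteField.pow_card_sub_one_eq_one a ha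
    rw [hq] at h
    simpa using h
  let i₀ : Fin t := ⟨0, by omega⟩
  obtain ⟨U, hUW, hU, hUd⟩ := hp i₀
  rw [hd.finrank_eq i₀] at hUd
  have hW := hD.decomp.nondegenerate i₀
  obtain ⟨e1, he1U, he10⟩ := Submodule.exists_mem_ne_zero_of_ne_bot
    (p := U) (fun h => by rw [h, finrank_bot] at hUd; omega)
  have he1Q : Q e1 = 0 := hU e1 he1U
  obtain ⟨f1, hf1W, hf1Q, hef1⟩ := exists_hyp_pair hQ hW (hUW he1U) he10 he1Q
  obtain ⟨e2', he2U', he2'⟩ : ∃ x ∈ U, x ∉ Submodule.span F {e1} := by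
    by_contra hcon
    push Not at hcon
    have := Submodule.finrank_mono (show U ≤ Submodule.span F {e1} from hcon)
    rw [finrank_span_singleton he10] at this
    omega
  set e2 := e2' - B e2' f1 • e1
  have he2U : e2 ∈ U := U.sub_mem he2U' (U.smul_mem _ he1U)
  have he2Q : Q e2 = 0 := hU e2 he2U
  have he2f1 : B e2 f1 = 0 := by
    rw [form_sub_left (bil hQ), hb.smul_left, hef1, mul_one, sub_self]
  have he20 : e2 ≠ 0 := fun h => he2' (by
    rw [sub_eq_zero.mp h]; exact Submodule.smul_mem _ _ (Submodule.mem_span_singleton_self _))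
  have hee : B e1 e2 = 0 := by
    rw [QuadraticMap.polar, hU _ (U.add_mem he1U he2U), he1Q, he2Q]; ring
  obtain ⟨y', hy'W, hy'Q, hey'⟩ := exists_hyp_pair hQ hW (hUW he2U) he20 he2Q
  set y1 := y' + (B y' f1) • e1 + (B y' e1) • f1 with hy1
  set f2 := y1 + Q y1 • e2 with hf2
  have h11 : B e1 e1 = 0 := by rw [B_self hQ, he1Q, mul_zero]
  have h22 : B e2 e2 = 0 := by rw [B_self hQ, he2Q, mul_zero]
  have hff : B f1 f1 = 0 := by rw [B_self hQ, hf1Q, mul_zero]
  have hy1W : y1 ∈ D i₀ := (D i₀).add_mem ((D i₀).add_mem hy'W ((D i₀).smul_mem _ (hUW he1U)))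
    ((D i₀).smul_mem _ hf1W)
  have hf2W : f2 ∈ D i₀ := (D i₀).add_mem hy1W ((D i₀).smul_mem _ (hUW he2U))
  have hy1e1 : B y1 e1 = 0 := by
    rw [hy1, hb.add_left, hb.add_left, hb.smul_left, hb.smul_left, h11, B_comm f1 e1, hef1]
    linear_combination (B y' e1) * h20
  have hy1f1 : B y1 f1 = 0 := by
    rw [hy1, hb.add_left, hb.add_left, hb.smul_left, hb.smul_left, hff, hef1]
    linear_combination (B y' f1) * h20
  have hy1e2 : B y1 e2 = 1 := by
    rw [hy1, hb.add_left, hb.add_left, hb.smul_left, hb.smul_left, hee, B_comm f1 e2, he2f1,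
      B_comm y' e2, hey']
    ring
  have hf2e1 : B f2 e1 = 0 := by
    rw [hf2, hb.add_left, hb.smul_left, hy1e1, B_comm e2 e1, hee]; ring
  have hf2f1 : B f2 f1 = 0 := by rw [hf2, hb.add_left, hb.smul_left, hy1f1, he2f1]; ring
  have hf2e2 : B f2 e2 = 1 := by rw [hf2, hb.add_left, hb.smul_left, hy1e2, h22]; ring
  have hf2Q : Q f2 = 0 := by
    rw [hf2, Q_add_smul hQ, he2Q, hy1e2]; linear_combination Q y1 * h20
  have hf22 : B f2 f2 = 0 := by rw [B_self hQ, hf2Q, mul_zero]
  clear_value e2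
  clear hy1 hf2
  clear_value f2
  -- two anisotropic planes
  let b₀ : Fin 4 → ι → F := ![e1 + f1, e1 + e2 + f2, e2 + f2, e2 + e1 + f1]
  have hb₀m : ∀ a, b₀ a ∈ D i₀ := by
    intro a; fin_cases a
    exacts [(D i₀).add_mem (hUW he1U) hf1W,
      (D i₀).add_mem ((D i₀).add_mem (hUW he1U) (hUW he2U)) hf2W,
      (D i₀).add_mem (hUW he2U) hf2W,
      (D i₀).add_mem ((D i₀).add_mem (hUW he2U) (hUW he1U)) hf1W]
  let Gm : Fin 4 → Fin 4 → F := fun a b =>
    if (a = 0 ∧ b = 1) ∨ (a = 1 ∧ b = 0) ∨ (a = 2 ∧ b = 3) ∨ (a = 3 ∧ b = 2) then 1 else 0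
  have hb₀B : ∀ a b, B (b₀ a) (b₀ b) = Gm a b := by
    intro a b
    fin_cases a <;> fin_cases b <;>
      simp [b₀, Gm, hb.add_left, hb.add_right, h11, h22, hff, hf22, hef1, he2f1, hee,
        B_comm f1 e1, B_comm e2 e1, B_comm f1 e2, B_comm e1 f2, B_comm f1 f2, B_comm e2 f2,
        hf2e1, hf2f1, hf2e2] <;>
      linear_combination h20
  have hb₀Q : ∀ a, Q (b₀ a) = 1 := by
    intro a
    fin_cases a <;>
      simp [b₀, Cfsg.Agent.Lib.Subspaces.OrthForm.Q_add (Q := Q), hb.add_left, he1Q, he2Q, hf1Q,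
        hf2Q, hef1, hee, B_comm e2 e1, B_comm e2 f2, B_comm e1 f2, hf2e1, hf2e2, he2f1]
  choose g hg using fun i => hD.isometric i₀ i
  let bb : Fin t → Fin 4 → ι → F := fun i a => (g i ⟨b₀ a, hb₀m a⟩ : D i)
  have hbm : ∀ i a, bb i a ∈ D i := fun i a => Subtype.prop _
  have hbQ : ∀ i a, Q (bb i a) = 1 := fun i a => (hg i _).trans (hb₀Q a)
  have hbB : ∀ i a b, B (bb i a) (bb i b) = Gm a b := fun i a b => by
    have h1 := hg i (⟨b₀ a, hb₀m a⟩ + ⟨b₀ b, hb₀m b⟩)
    rw [map_add, Submodule.coe_add, Submodule.coe_add] at h1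
    show QuadraticMap.polar Q _ _ = _
    rw [QuadraticMap.polar, h1, hbQ, hbQ, ← hb₀B, QuadraticMap.polar, hb₀Q, hb₀Q]
  have hcross : ∀ {i j}, i ≠ j → ∀ a b, B (bb i a) (bb j b) = 0 :=
    fun h a b => hD.decomp.orthogonal _ _ h _ (hbm _ a) _ (hbm _ b)
  -- coordinates in a block
  have hcoord : ∀ i, ∀ v ∈ D i, v = B v (bb i 1) • bb i 0 + B v (bb i 0) • bb i 1 +
      B v (bb i 3) • bb i 2 + B v (bb i 2) • bb i 3 := by
    intro i v hv
    set v' := B v (bb i 1) • bb i 0 + B v (bb i 0) • bb i 1 +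
      B v (bb i 3) • bb i 2 + B v (bb i 2) • bb i 3 with hv'
    have hv'm : v' ∈ D i := by
      repeat' apply Submodule.add_mem
      all_goals exact Submodule.smul_mem _ _ (hbm _ _)
    have hvb : ∀ a, B (v - v') (bb i a) = 0 := by
      intro a
      rw [form_sub_left (bil hQ), hv']
      simp only [hb.add_left, hb.smul_left, hbB]
      fin_cases a <;> simp [Gm]
    by_contra hne
    obtain ⟨-, z, hz, hzne⟩ := hD.decomp.nondegenerate i (v - v') ((D i).sub_mem hv hv'm)
      (sub_ne_zero.mpr hne)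
    have hli : LinearIndependent F (fun a => (⟨bb i a, hbm i a⟩ : D i)) := by
      rw [Fintype.linearIndependent_iff]
      intro c hc0 a
      have h1 := congrArg (fun y : D i => (y : ι → F)) hc0
      simp only [Fin.sum_univ_four, Submodule.coe_add, Submodule.coe_smul, Submodule.coe_zero] at h1
      have h2 := fun b => congrArg (fun y => B y (bb i b)) h1
      simp only [hb.add_left, hb.smul_left, hbB, form_zero_left (bil hQ)] at h2
      fin_cases a
      · simpa [Gm] using h2 1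
      · simpa [Gm] using h2 0
      · simpa [Gm] using h2 3
      · simpa [Gm] using h2 2
    have htop := hli.span_eq_top_of_card_eq_finrank' (by simp [hd.finrank_eq i])
    have hz' : (⟨z, hz⟩ : D i) ∈ Submodule.span F (Set.range fun a => (⟨bb i a, hbm i a⟩ : D i)) := by
      rw [htop]; trivial
    obtain ⟨c, hc'⟩ := (Submodule.mem_span_range_iff_exists_fun F).mp hz'
    have hz2 := congrArg (fun y : D i => (y : ι → F)) hc'
    simp only [Fin.sum_univ_four, Submodule.coe_add, Submodule.coe_smul] at hz2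
    exact hzne (by rw [← hz2]; simp [hb.add_right, hb.smul_right, hvb])
  have hplane : ∀ i, ∀ v ∈ D i, Q v = 1 →
      ∃ c d : F, v = c • bb i 0 + d • bb i 1 ∨ v = c • bb i 2 + d • bb i 3 := by
    intro i v hv hvQ
    have he := hcoord i v hv
    generalize B v (bb i 1) = c at he
    generalize B v (bb i 0) = d at he
    generalize B v (bb i 3) = c' at he
    generalize B v (bb i 2) = d' at he
    subst he
    simp only [Cfsg.Agent.Lib.Subspaces.OrthForm.Q_add (Q := Q), hQ.smul, hb.add_left, hb.smul_left,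
      hb.smul_right, hbQ, hbB] at hvQ
    simp [Gm] at hvQ
    by_cases h' : c' = 0 ∧ d' = 0
    · exact ⟨c, d, Or.inl (by simp [h'.1, h'.2])⟩
    by_cases h : c = 0 ∧ d = 0
    · exact ⟨c', d', Or.inr (by simp [h.1, h.2])⟩
    exfalso
    have hval : ∀ x y : F, ¬ (x = 0 ∧ y = 0) → x * x + y * y + x * y = 1 := by
      intro x y hxy
      rcases h01 x with rfl | rfl <;> rcases h01 y with rfl | rfl
      · exact absurd ⟨rfl, rfl⟩ hxy
      · ring
      · ring
      · linear_combination h20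
    exact one_ne_zero (α := F) (by
      linear_combination h20 - hvQ + hval c d h + hval c' d' h')
  let p : Fin 4 → Fin t := Fin.castLE (by omega)
  have hpne : ∀ a b, a ≠ b → p a ≠ p b := fun a b h e => h (Fin.castLE_injective _ e)
  refine exists_between_of
    (K := Cfsg.stabilizing (Cfsg.glToMat ι F) (S1 Q D) ⊓ Cfsg.Geo.omegaGL Q) ?_ inf_le_right ?_ ?_
  · exact fun G hG => ⟨mem_stabilizing_of_mapsTo (mapsTo_S1 hQ hG), hG.2⟩
  · -- swaps a plane of one block with a plane of another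
    set a := bb (p 0) 0 + bb (p 1) 0 with ha
    set w := bb (p 0) 1 + bb (p 1) 1 with hw
    have hp01 := hpne 0 1 (by decide)
    have haQ : Q a = 0 := by
      rw [ha, Cfsg.Agent.Lib.Subspaces.OrthForm.Q_add (Q := Q), hbQ, hbQ, hcross hp01]
      linear_combination h20
    have hwQ : Q w = 0 := by
      rw [hw, Cfsg.Agent.Lib.Subspaces.OrthForm.Q_add (Q := Q), hbQ, hbQ, hcross hp01]
      linear_combination h20
    have hwa : B w a = 0 := by
      rw [ha, hw, hb.add_left, hb.add_right, hb.add_right, hbB, hbB, hcross hp01, hcross hp01.symm]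
      simp [Gm]; linear_combination h20
    refine ⟨sieg Q a w, ⟨mem_stabilizing_of_mapsTo ?_, sieg_mem_omega hQ (by omega) haQ hwa⟩,
      fun hG => ?_⟩
    · rintro v ⟨i, hv, hvQ⟩
      have hQ' : Q ((sieg Q a w : Matrix ι ι F) *ᵥ v) = 1 :=
        (sieg_isometry hQ haQ hwa v).trans hvQ
      suffices h : ∃ j, (sieg Q a w : Matrix ι ι F) *ᵥ v ∈ D j from h.imp fun j hj => ⟨hj, hQ'⟩
      rw [sieg_apply_zero hQ haQ hwQ hwa]
      by_cases h0 : i = p 0
      · subst h0
        obtain ⟨c, d, rfl | rfl⟩ := hplane _ v hv hvQ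
        · refine ⟨p 1, ?_⟩
          have : c • bb (p 0) 0 + d • bb (p 0) 1 + B (c • bb (p 0) 0 + d • bb (p 0) 1) a • w +
              (-(B (c • bb (p 0) 0 + d • bb (p 0) 1) w)) • a = c • bb (p 1) 0 + d • bb (p 1) 1 := by
            simp only [ha, hw, hb.add_left, hb.add_right, hb.smul_left, hbB, hcross hp01]
            simp [Gm]
            match_scalars <;> first | ring1 | linear_combination c * h20 | linear_combination d * h20 |
              linear_combination -c * h20 | linear_combination -d * h20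
          rw [this]
          exact (D _).add_mem ((D _).smul_mem _ (hbm _ _)) ((D _).smul_mem _ (hbm _ _))
        · refine ⟨p 0, ?_⟩
          simp only [ha, hw, hb.add_left, hb.add_right, hb.smul_left, hbB, hcross hp01]
          simpa [Gm] using hv
      by_cases h1 : i = p 1
      · subst h1
        obtain ⟨c, d, rfl | rfl⟩ := hplane _ v hv hvQ
        · refine ⟨p 0, ?_⟩
          have : c • bb (p 1) 0 + d • bb (p 1) 1 + B (c • bb (p 1) 0 + d • bb (p 1) 1) a • w +
              (-(B (c • bb (p 1) 0 + d • bb (p 1) 1) w)) • a = c • bb (p 0) 0 + d • bb (p 0) 1 := by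
            simp only [ha, hw, hb.add_left, hb.add_right, hb.smul_left, hbB, hcross hp01.symm]
            simp [Gm]
            match_scalars <;> first | ring1 | linear_combination c * h20 | linear_combination d * h20 |
              linear_combination -c * h20 | linear_combination -d * h20
          rw [this]
          exact (D _).add_mem ((D _).smul_mem _ (hbm _ _)) ((D _).smul_mem _ (hbm _ _))
        · refine ⟨p 1, ?_⟩
          simp only [ha, hw, hb.add_left, hb.add_right, hb.smul_left, hbB, hcross hp01.symm]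
          simpa [Gm] using hv
      refine ⟨i, ?_⟩
      have hz : ∀ c j, i ≠ j → B v (bb j c) = 0 := fun c j h =>
        hD.decomp.orthogonal _ _ h _ hv _ (hbm _ _)
      simp only [ha, hw, hb.add_right, hz _ _ h0, hz _ _ h1]
      simpa using hv
    · obtain ⟨σ, hσ⟩ := hG.1
      have g0 : (sieg Q a w : Matrix ι ι F) *ᵥ bb (p 0) 2 = bb (p 0) 2 := by
        rw [sieg_apply_zero hQ haQ hwQ hwa]
        simp [ha, hw, hb.add_right, hbB, hcross hp01, Gm]
      have g1 : (sieg Q a w : Matrix ι ι F) *ᵥ bb (p 0) 0 = bb (p 1) 0 := by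
        rw [sieg_apply_zero hQ haQ hwQ hwa]
        simp only [ha, hw, hb.add_right, hbB, hcross hp01]
        simp [Gm]
        exact neg_eq_of_add_eq_zero_left (by rw [← two_smul F, h20, zero_smul])
      have hne0 : ∀ i c, bb i c ≠ 0 := fun i c h => by
        have := hbQ i c; rw [h, Q_zero hQ] at this; exact zero_ne_one this
      have e0 : bb (p 0) 2 ∈ D (σ (p 0)) := by
        rw [← g0, ← hσ]; exact ⟨_, hbm _ _, Matrix.toLin'_apply _ _⟩
      have e1 : bb (p 1) 0 ∈ D (σ (p 0)) := by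
        rw [← g1, ← hσ]; exact ⟨_, hbm _ _, Matrix.toLin'_apply _ _⟩
      exact hp01 ((FrameRefine.eq_of_mem hd e0 (hbm _ _) (hne0 _ _)).symm.trans
        (FrameRefine.eq_of_mem hd e1 (hbm _ _) (hne0 _ _)))
  · set a := bb (p 0) 0 + bb (p 1) 0 with ha
    set w := bb (p 2) 0 + bb (p 3) 0 with hw
    have haQ : Q a = 0 := by
      rw [ha, Cfsg.Agent.Lib.Subspaces.OrthForm.Q_add (Q := Q), hbQ, hbQ,
        hcross (hpne 0 1 (by decide))]
      linear_combination h20
    have hwQ : Q w = 0 := by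
      rw [hw, Cfsg.Agent.Lib.Subspaces.OrthForm.Q_add (Q := Q), hbQ, hbQ,
        hcross (hpne 2 3 (by decide))]
      linear_combination h20
    have hwa : B w a = 0 := by
      rw [ha, hw, hb.add_left, hb.add_right, hb.add_right, hcross (hpne 2 0 (by decide)),
        hcross (hpne 2 1 (by decide)), hcross (hpne 3 0 (by decide)), hcross (hpne 3 1 (by decide))]
      ring
    refine ⟨sieg Q a w, sieg_mem_omega hQ (by omega) haQ hwa, fun hG => ?_⟩
    obtain ⟨j, hj, -⟩ := (hG.1 (bb (p 0) 1)).1 ⟨p 0, hbm _ _, hbQ _ _⟩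
    have h1 : (sieg Q a w : Matrix ι ι F) *ᵥ bb (p 0) 1 = bb (p 0) 1 + w := by
      rw [sieg_apply_zero hQ haQ hwQ hwa, ha, hw, hb.add_right, hb.add_right, hbB,
        hcross (hpne 0 1 (by decide)), hcross (hpne 0 2 (by decide)), hcross (hpne 0 3 (by decide))]
      simp [Gm]
    change (sieg Q a w : Matrix ι ι F) *ᵥ bb (p 0) 1 ∈ D j at hj
    rw [h1] at hj
    refine not_mem_block hD (hpne 0 2 (by decide)) (hbm (p 0) 0) (hbm (p 2) 1) ?_ ?_ _ hj
    · rw [hw, hb.add_left, hb.add_left, hbB, hcross (hpne 2 0 (by decide)),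
        hcross (hpne 3 0 (by decide))]
      simp [Gm]
    · rw [hw, hb.add_left, hb.add_left, hbB, hcross (hpne 0 2 (by decide)),
        hcross (hpne 3 2 (by decide))]
      simp [Gm]

end Cfsg.Agent.Lib.Forms.FrameRefineTwo
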