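/-
A tensor decomposition whose first factor has a canonical frame: the stabiliser lies in the
stabiliser of the induced decomposition, hence is not maximal.
-/
import Cfsg.Agent.Lib.Forms.FrameRefineTwo

set_option autoImplicit false

namespace Cfsg.Agent.Lib.Forms.TensorFrame

open Matrix Cfsg.Agent.Lib.Subspaces.Transvection Cfsg.Agent.Lib.Subspaces.FormVec
  Cfsg.Agent.Lib.Subspaces.OrthForm Cfsg.Agent.Lib.Subspaces.OmegaGL
open scoped Kronecker

variable {ι : Type} [Fintype ι] [DecidableEq ι] {F : Type*} [Field F]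

section coords

variable {n₁ n₂ : ℕ}

/-- The pure tensor `x ⊗ y` in `F^ι`. -/
def pure (e : ι ≃ Fin n₁ × Fin n₂) (P : GL ι F) (x : Fin n₁ → F) (y : Fin n₂ → F) : ι → F :=
  (P : Matrix ι ι F) *ᵥ ((fun a : Fin n₁ × Fin n₂ => x a.1 * y a.2) ∘ e)

variable (e : ι ≃ Fin n₁ × Fin n₂) (P : GL ι F)

theorem pure_add_left (x x' : Fin n₁ → F) (y : Fin n₂ → F) :
    pure e P (x + x') y = pure e P x y + pure e P x' y := by
  rw [pure, pure, pure, ← mulVec_add]; congr 1; funext i; simp [add_mul]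

theorem pure_smul_left (c : F) (x : Fin n₁ → F) (y : Fin n₂ → F) :
    pure e P (c • x) y = c • pure e P x y := by
  rw [pure, pure, ← mulVec_smul]; congr 1; funext i; simp [mul_assoc]

theorem pure_add_right (x : Fin n₁ → F) (y y' : Fin n₂ → F) :
    pure e P x (y + y') = pure e P x y + pure e P x y' := by
  rw [pure, pure, pure, ← mulVec_add]; congr 1; funext i; simp [mul_add]

theorem pure_smul_right (c : F) (x : Fin n₁ → F) (y : Fin n₂ → F) :
    pure e P x (c • y) = c • pure e P x y := by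
  rw [pure, pure, ← mulVec_smul]; congr 1; funext i; simp [mul_left_comm]

theorem pure_inj {x x' : Fin n₁ → F} {y y' : Fin n₂ → F} (h : pure e P x y = pure e P x' y')
    (i : Fin n₁) (j : Fin n₂) : x i * y j = x' i * y' j := by
  have := congrFun (gl_mulVec_injective P h) (e.symm (i, j))
  simpa using this

theorem exists_of_mem_tensor {g : GL ι F} (hg : g ∈ Cfsg.Geo.tensorProductSubgroup n₁ n₂ e P) :
    ∃ (a : GL (Fin n₁) F) (b : GL (Fin n₂) F), ∀ x y, (g : Matrix ι ι F) *ᵥ pure e P x y =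
      pure e P ((a : Matrix (Fin n₁) (Fin n₁) F) *ᵥ x) ((b : Matrix (Fin n₂) (Fin n₂) F) *ᵥ y) := by
  obtain ⟨h, ⟨k, ⟨a, b, hk⟩, rfl⟩, rfl⟩ := hg
  refine ⟨a, b, fun x y => ?_⟩
  show ((P * _ * P⁻¹ : GL ι F) : Matrix ι ι F) *ᵥ ((P : Matrix ι ι F) *ᵥ _) = _
  rw [gl_mul_mulVec, gl_mul_mulVec, gl_inv_mulVec, pure]
  congr 1
  show ((Matrix.reindexAlgEquiv F F e.symm) (k : Matrix (Fin n₁ × Fin n₂) (Fin n₁ × Fin n₂) F)) *ᵥ _ = _
  rw [Matrix.reindexAlgEquiv_apply, Matrix.reindex_apply, Equiv.symm_symm,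
    Matrix.submatrix_mulVec_equiv, hk]
  congr 1
  funext p
  simp only [mulVec, dotProduct, Matrix.kroneckerMap_apply, Fintype.sum_prod_type,
    Finset.sum_mul_sum, Function.comp_apply, Equiv.apply_symm_apply]
  exact Finset.sum_congr rfl fun i _ => Finset.sum_congr rfl fun j _ => by ring

end coords

theorem eq_formOfGram {κ : Type} [Fintype κ] [DecidableEq κ] {f : (κ → F) → (κ → F) → F}
    {σ : F → F} (hl : IsLinearLeft f) (hr : ∀ v x y, f v (x + y) = f v x + f v y)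
    (hs : ∀ (c : F) v x, f v (c • x) = σ c * f v x) (x y : κ → F) :
    f x y = Cfsg.Geo.formOfGram σ (Cfsg.Geo.gramMatrix f) x y := by
  rw [← formVec_dot hl, Cfsg.Geo.formOfGram, dotProduct]
  refine Finset.sum_congr rfl fun a _ => ?_
  rw [mul_comm, formVec]
  let L : (κ → F) →+ F := AddMonoidHom.mk' (f (Pi.single a 1)) fun u v => hr _ u v
  have hy : y = ∑ b, y b • Pi.single b (1 : F) := by
    funext i; simp [Pi.single_apply, Finset.sum_apply]
  show x a * L y = _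
  conv_lhs => rw [hy, map_sum]
  rw [Finset.mul_sum]
  refine Finset.sum_congr rfl fun b _ => ?_
  show x a * f _ (y b • _) = _
  rw [hs, Cfsg.Geo.gramMatrix]
  ring

theorem form_pure {n₁ n₂ : ℕ} {σ : F → F} {f : (ι → F) → (ι → F) → F}
    {f₁ : (Fin n₁ → F) → (Fin n₁ → F) → F} {f₂ : (Fin n₂ → F) → (Fin n₂ → F) → F}
    {e : ι ≃ Fin n₁ × Fin n₂} {P : GL ι F} (hσ : ∀ a b, σ (a * b) = σ a * σ b)
    (h₁ : ∀ x y, f₁ x y = Cfsg.Geo.formOfGram σ (Cfsg.Geo.gramMatrix f₁) x y)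
    (h₂ : ∀ x y, f₂ x y = Cfsg.Geo.formOfGram σ (Cfsg.Geo.gramMatrix f₂) x y)
    (hT : Cfsg.Geo.IsTensorFormStructure σ f f₁ f₂ e P) :
    ∃ c : F, c ≠ 0 ∧ ∀ x y x' y', f (pure e P x y) (pure e P x' y') = c * (f₁ x x' * f₂ y y') := by
  obtain ⟨c, hc, h⟩ := hT
  refine ⟨c, hc, fun x y x' y' => ?_⟩
  rw [pure, pure, h, h₁, h₂]
  simp only [Cfsg.Geo.formOfGram]
  congr 1
  simp only [Fintype.sum_prod_type, Matrix.kroneckerMap_apply, hσ]
  rw [Finset.sum_mul_sum]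
  refine Finset.sum_congr rfl fun a _ => Finset.sum_congr rfl fun a' _ => ?_
  rw [Finset.sum_mul_sum]
  exact Finset.sum_congr rfl fun b _ => Finset.sum_congr rfl fun b' _ => by ring

/-- A bilinear map `(x, y) ↦ x ⊗ y`. -/
structure IsTensorMap {r s : ℕ} (T : (Fin r → F) → (Fin s → F) → ι → F) : Prop where
  add_left : ∀ x x' y, T (x + x') y = T x y + T x' y
  smul_left : ∀ (c : F) x y, T (c • x) y = c • T x y
  add_right : ∀ x y y', T x (y + y') = T x y + T x y'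
  smul_right : ∀ (c : F) x y, T x (c • y) = c • T x y
  inj : ∀ {x x' y y'}, T x y = T x' y' → ∀ i j, x i * y j = x' i * y' j

theorem isTensorMap_pure {n₁ n₂ : ℕ} (e : ι ≃ Fin n₁ × Fin n₂) (P : GL ι F) :
    IsTensorMap (pure e P) :=
  ⟨pure_add_left e P, pure_smul_left e P, pure_add_right e P, pure_smul_right e P, pure_inj e P⟩

theorem isTensorMap_flip {n₁ n₂ : ℕ} (e : ι ≃ Fin n₁ × Fin n₂) (P : GL ι F) :
    IsTensorMap (fun x y => pure e P y x) :=
  ⟨fun x x' y => pure_add_right e P y x x', fun c x y => pure_smul_right e P c y x,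
    fun x y y' => pure_add_left e P y y' x, fun c x y => pure_smul_left e P c y x,
    fun h i j => by rw [mul_comm, pure_inj e P h j i, mul_comm]⟩

section core

variable {r s : ℕ} {T : (Fin r → F) → (Fin s → F) → ι → F} {u : Fin r → Fin r → F}
  {H X : Subgroup (GL ι F)}

theorem eq_zero_of_T (hT : IsTensorMap T) {x : Fin r → F} (hx : x ≠ 0) {y : Fin s → F}
    (h : T x y = 0) : y = 0 := by
  obtain ⟨i, hi⟩ := Function.ne_iff.mp hx
  have h' : T x y = T x ((0 : F) • y) := by rw [hT.smul_right, zero_smul, h]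
  funext j
  have := hT.inj h' i j
  simp at this
  exact this.resolve_left hi

/-- The overgroup. -/
theorem exists_between_core [Finite F] (hT : IsTensorMap T) (hHX : H ≤ X)
    (hH : ∀ g ∈ H, ∃ (a : GL (Fin r) F) (b : GL (Fin s) F),
      (∀ x y, (g : Matrix ι ι F) *ᵥ T x y =
        T ((a : Matrix (Fin r) (Fin r) F) *ᵥ x) ((b : Matrix (Fin s) (Fin s) F) *ᵥ y)) ∧
      ∀ i, ∃ (j : Fin r) (c : F), (a : Matrix (Fin r) (Fin r) F) *ᵥ u i = c • u j)
    {g₁ : GL ι F} (hg₁ : g₁ ∈ X)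
    (hg₁L : ∀ i y, ∃ j y', (g₁ : Matrix ι ι F) *ᵥ T (u i) y = T (u j) y') {i₀ i₁ : Fin r}
    (hu₁ : u i₁ ≠ 0) (hfix : ∀ y, (g₁ : Matrix ι ι F) *ᵥ T (u i₁) y = T (u i₁) y)
    {p : Fin s → F} (hp : p ≠ 0) (hfp : (g₁ : Matrix ι ι F) *ᵥ T (u i₀) p = T (u i₀) p)
    {y₁ : Fin s → F} (hmove : (g₁ : Matrix ι ι F) *ᵥ T (u i₀) y₁ ≠ T (u i₀) y₁)
    {g₂ : GL ι F} (hg₂ : g₂ ∈ X) {k : Fin r} {z : Fin s → F}
    (hout : ∀ j y', (g₂ : Matrix ι ι F) *ᵥ T (u k) z ≠ T (u j) y') :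
    ∃ K : Subgroup (GL ι F), H < K ∧ K < X := by
  let L : Set (ι → F) := {v | ∃ i y, v = T (u i) y}
  refine exists_between_of (K := Cfsg.stabilizing (Cfsg.glToMat ι F) L ⊓ X) (fun g hg => ⟨?_, hHX hg⟩)
    inf_le_right ⟨g₁, ⟨?_, hg₁⟩, fun hmem => hmove ?_⟩ ⟨g₂, hg₂, fun hmem => ?_⟩
  · refine FrameRefineTwo.mem_stabilizing_of_mapsTo ?_
    rintro _ ⟨i, y, rfl⟩
    obtain ⟨a, b, hab, ha⟩ := hH g hg
    obtain ⟨j, c, hc⟩ := ha i
    exact ⟨j, c • ((b : Matrix (Fin s) (Fin s) F) *ᵥ y), by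
      rw [hab, hc, hT.smul_left, hT.smul_right]⟩
  · refine FrameRefineTwo.mem_stabilizing_of_mapsTo ?_
    rintro _ ⟨i, y, rfl⟩
    exact hg₁L i y
  · obtain ⟨a, b, hab, -⟩ := hH g₁ hmem
    obtain ⟨i, hi⟩ := Function.ne_iff.mp hu₁
    obtain ⟨j, hj⟩ := Function.ne_iff.mp hp
    simp only [Pi.zero_apply] at hi hj
    have h1 := fun y => hT.inj ((hab (u i₁) y).symm.trans (hfix y))
    set a1 := ((a : Matrix (Fin r) (Fin r) F) *ᵥ u i₁) i with ha1
    have ha0 : a1 ≠ 0 := fun e => by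
      have := h1 p i j
      rw [← ha1, e, zero_mul] at this
      exact mul_ne_zero hi hj this.symm
    set μ := u i₁ i / a1
    have hb : ∀ y, (b : Matrix (Fin s) (Fin s) F) *ᵥ y = μ • y := fun y => funext fun l => by
      have := h1 y i l
      rw [← ha1] at this
      rw [Pi.smul_apply, smul_eq_mul, div_mul_eq_mul_div, eq_div_iff ha0]
      linear_combination this
    have h0 : μ • ((a : Matrix (Fin r) (Fin r) F) *ᵥ u i₀) = u i₀ := funext fun l => by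
      have := hT.inj ((hab (u i₀) p).symm.trans hfp) l j
      rw [hb, Pi.smul_apply, smul_eq_mul] at this
      exact mul_right_cancel₀ hj (by rw [Pi.smul_apply, smul_eq_mul]; linear_combination this)
    rw [hab, hb, hT.smul_right, ← hT.smul_left, h0]
  · obtain ⟨j, y', h⟩ := (hmem.1 _).1 ⟨k, z, rfl⟩
    exact hout j y' h

variable {f : (ι → F) → (ι → F) → F} {c : F} {f₁ : (Fin r → F) → (Fin r → F) → F}
  {f₂ : (Fin s → F) → (Fin s → F) → F}

/-- Forms with transvections. -/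
theorem exists_between_transvection [Finite F] (hT : IsTensorMap T) (hHX : H ≤ X)
    (hH : ∀ g ∈ H, ∃ (a : GL (Fin r) F) (b : GL (Fin s) F),
      (∀ x y, (g : Matrix ι ι F) *ᵥ T x y =
        T ((a : Matrix (Fin r) (Fin r) F) *ᵥ x) ((b : Matrix (Fin s) (Fin s) F) *ᵥ y)) ∧
      ∀ i, ∃ (j : Fin r) (c : F), (a : Matrix (Fin r) (Fin r) F) *ᵥ u i = c • u j)
    (hl : IsLinearLeft f) (hr : ∀ v x y, f v (x + y) = f v x + f v y)
    (hX : ∀ v, f v v = 0 → tv v (formVec f v) ∈ X) (hc : c ≠ 0)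
    (hB : ∀ x y x' y', f (T x y) (T x' y') = c * (f₁ x x' * f₂ y y'))
    (hr1 : 1 < r) (hu : ∀ i, f₁ (u i) (u i) ≠ 0) (huo : ∀ i j, i ≠ j → f₁ (u i) (u j) = 0)
    (hu0 : ∀ i, u i ≠ 0) {p y : Fin s → F} (hp : f₂ p p = 0) (hp0 : p ≠ 0) (hyp : f₂ y p ≠ 0)
    (hpy : f₂ p y ≠ 0) : ∃ K : Subgroup (GL ι F), H < K ∧ K < X := by
  let i₀ : Fin r := ⟨0, by omega⟩
  let i₁ : Fin r := ⟨1, hr1⟩
  have h01 : i₀ ≠ i₁ := by simp [i₀, i₁, Fin.ext_iff]
  set v := T (u i₀) p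
  set w := T (u i₀) p + T (u i₁) p
  have hv : f v v = 0 := by rw [hB, hp, mul_zero, mul_zero]
  have hw : f w w = 0 := by
    rw [hl.add_left, hr, hr, hB, hB, hB, hB, hp]; ring
  have hv' : ∀ x, (tv v (formVec f v) : Matrix ι ι F) *ᵥ x = x + f x v • v := fun x => by
    rw [tv_mulVec (by rw [formVec_dot hl, hv]), formVec_dot hl]
  have hw' : ∀ x, (tv w (formVec f w) : Matrix ι ι F) *ᵥ x = x + f x w • w := fun x => by
    rw [tv_mulVec (by rw [formVec_dot hl, hw]), formVec_dot hl]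
  refine exists_between_core hT hHX hH (hX v hv) (fun i z => ?_) (i₀ := i₀) (i₁ := i₁) (hu0 i₁)
    (fun z => ?_) hp0 ?_ (y₁ := y) ?_ (hX w hw) (k := i₀) (z := y) fun j y' hj => ?_
  · by_cases h : i = i₀
    · subst h
      exact ⟨i₀, z + f (T (u i₀) z) v • p, by rw [hv', hT.add_right, hT.smul_right]⟩
    · exact ⟨i, z, by rw [hv', hB, huo _ _ h, zero_mul, mul_zero, zero_smul, add_zero]⟩
  · rw [hv', hB, huo _ _ h01.symm, zero_mul, mul_zero, zero_smul, add_zero]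
  · rw [hv', hB, hp, mul_zero, mul_zero, zero_smul, add_zero]
  · rw [hv', hB]
    intro h
    have h' : T (u i₀) ((c * (f₁ (u i₀) (u i₀) * f₂ y p)) • p) = 0 := by
      rw [hT.smul_right]; simpa using h
    rcases smul_eq_zero.mp (eq_zero_of_T hT (hu0 i₀) h') with h2 | h2
    · exact mul_ne_zero hc (mul_ne_zero (hu i₀) hyp) h2
    · exact hp0 h2
  · rw [hw'] at hj
    have hk : f (T (u i₀) y) w = c * (f₁ (u i₀) (u i₀) * f₂ y p) := by
      rw [hr, hB, hB, huo _ _ h01, zero_mul, mul_zero, add_zero]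
    rw [hk] at hj
    have e1 := congrArg (fun x => f x (T (u i₁) y)) hj
    have e0 := congrArg (fun x => f x (T (u i₀) p)) hj
    simp only [w, hl.add_left, hl.smul_left, hB, huo _ _ h01, huo _ _ h01.symm, hp, zero_mul,
      mul_zero, zero_add, add_zero] at e1 e0
    have j1 : j = i₁ := by
      by_contra hne
      rw [huo _ _ hne, zero_mul, mul_zero] at e1
      exact mul_ne_zero (mul_ne_zero hc (mul_ne_zero (hu i₀) hyp))
        (mul_ne_zero hc (mul_ne_zero (hu i₁) hpy)) e1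
    rw [j1, huo _ _ h01.symm, zero_mul, mul_zero] at e0
    exact mul_ne_zero hc (mul_ne_zero (hu i₀) hyp) e0

/-- Orthogonal forms. -/
theorem exists_between_siegel [Finite F] {Q : (ι → F) → F} (hT : IsTensorMap T)
    (hQ : Cfsg.Geo.IsNondegenerateQuadraticForm Q) (h2 : (2 : F) ≠ 0) (hn : 5 ≤ Fintype.card ι)
    (hHX : H ≤ Cfsg.Geo.omegaGL Q)
    (hH : ∀ g ∈ H, ∃ (a : GL (Fin r) F) (b : GL (Fin s) F),
      (∀ x y, (g : Matrix ι ι F) *ᵥ T x y =
        T ((a : Matrix (Fin r) (Fin r) F) *ᵥ x) ((b : Matrix (Fin s) (Fin s) F) *ᵥ y)) ∧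
      ∀ i, ∃ (j : Fin r) (c : F), (a : Matrix (Fin r) (Fin r) F) *ᵥ u i = c • u j)
    (hc : c ≠ 0) (hB : ∀ x y x' y', QuadraticMap.polar Q (T x y) (T x' y') = c * (f₁ x x' * f₂ y y'))
    (hr1 : 1 < r) (hu : ∀ i, f₁ (u i) (u i) ≠ 0) (huo : ∀ i j, i ≠ j → f₁ (u i) (u j) = 0)
    (hu0 : ∀ i, u i ≠ 0) {p q y : Fin s → F} (hp : f₂ p p = 0) (hp0 : p ≠ 0)
    (hqp : f₂ q p = 0) (hpq : f₂ p q = 0) (hq : q ∉ Submodule.span F {p}) (hyp : f₂ y p ≠ 0)
    (hpy : f₂ p y ≠ 0) :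
    ∃ K : Subgroup (GL ι F), H < K ∧ K < Cfsg.Geo.omegaGL Q := by
  have hb := hQ.polar_bilinear
  let i₀ : Fin r := ⟨0, by omega⟩
  let i₁ : Fin r := ⟨1, hr1⟩
  have h01 : i₀ ≠ i₁ := by simp [i₀, i₁, Fin.ext_iff]
  set v := T (u i₀) p with hv
  set w := T (u i₀) q with hw
  set w' := T (u i₁) p with hw'
  have hs : ∀ i, Q (T (u i) p) = 0 := fun i => by
    have h := B_self hQ (T (u i) p)
    rw [hB, hp, mul_zero, mul_zero] at h
    exact (mul_eq_zero.mp h.symm).resolve_left h2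
  have hwv : QuadraticMap.polar Q w v = 0 := by rw [hB, hqp, mul_zero, mul_zero]
  have hwv' : QuadraticMap.polar Q w' v = 0 := by rw [hB, huo _ _ h01.symm, zero_mul, mul_zero]
  refine exists_between_core hT hHX hH (sieg_mem_omega hQ hn (hs i₀) hwv) (fun i z => ?_)
    (i₀ := i₀) (i₁ := i₁) (hu0 i₁) (fun z => ?_) hp0 ?_ (y₁ := y) ?_
    (sieg_mem_omega hQ hn (hs i₀) hwv') (k := i₀) (z := y) fun j y' hj => ?_
  · by_cases h : i = i₀
    · subst h
      refine ⟨i₀, z + QuadraticMap.polar Q (T (u i₀) z) v • q +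
        (-(QuadraticMap.polar Q (T (u i₀) z) w) - Q w * QuadraticMap.polar Q (T (u i₀) z) v) • p, ?_⟩
      rw [sieg_mulVec hQ (hs i₀) hwv, hT.add_right, hT.add_right, hT.smul_right, hT.smul_right]
    · refine ⟨i, z, ?_⟩
      rw [sieg_mulVec hQ (hs i₀) hwv, hw, hB, hB, huo _ _ h]
      simp
  · rw [sieg_mulVec hQ (hs i₀) hwv, hw, hB, hB, huo _ _ h01.symm]
    simp
  · rw [sieg_mulVec hQ (hs i₀) hwv, hw, hB, hB, hp, hpq]
    simp
  · rw [sieg_mulVec hQ (hs i₀) hwv]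
    intro h
    set β := QuadraticMap.polar Q (T (u i₀) y) v with hβ
    set γ := -(QuadraticMap.polar Q (T (u i₀) y) w) - Q w * β
    have h' : T (u i₀) (β • q + γ • p) = 0 := by
      rw [hT.add_right, hT.smul_right, hT.smul_right]
      simpa [add_assoc] using h
    have h'' := eq_zero_of_T hT (hu0 i₀) h'
    have hβ0 : β ≠ 0 := by rw [hβ, hB]; exact mul_ne_zero hc (mul_ne_zero (hu i₀) hyp)
    refine hq (Submodule.mem_span_singleton.mpr ⟨-(β⁻¹ * γ), ?_⟩)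
    have := congrArg (fun t => β⁻¹ • t) h''
    simp only [smul_add, smul_smul, inv_mul_cancel₀ hβ0, one_smul, smul_zero] at this
    rw [neg_smul]
    exact (eq_neg_of_add_eq_zero_left this).symm
  · rw [sieg_mulVec hQ (hs i₀) hwv', hw', hB, hB, huo _ _ h01, hs i₁] at hj
    simp only [zero_mul, mul_zero, neg_zero, sub_zero, zero_smul, add_zero] at hj
    have e1 := congrArg (fun x => QuadraticMap.polar Q x (T (u i₁) y)) hj
    have e0 := congrArg (fun x => QuadraticMap.polar Q x (T (u i₀) p)) hj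
    simp only [hb.add_left, hb.smul_left, hB, huo _ _ h01, huo _ _ h01.symm, zero_mul,
      mul_zero, zero_add, add_zero] at e1 e0
    have j1 : j = i₁ := by
      by_contra hne
      rw [huo _ _ hne, zero_mul, mul_zero] at e1
      exact mul_ne_zero (mul_ne_zero hc (mul_ne_zero (hu i₀) hyp))
        (mul_ne_zero hc (mul_ne_zero (hu i₁) hpy)) e1
    rw [j1, huo _ _ h01.symm, zero_mul, mul_zero] at e0
    exact mul_ne_zero hc (mul_ne_zero (hu i₀) hyp) e0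

end core

/-- The first factor of an isometric pure tensor map is a similitude. -/
theorem similitude {n₁ n₂ : ℕ} {f : (ι → F) → (ι → F) → F}
    {f₁ : (Fin n₁ → F) → (Fin n₁ → F) → F} {f₂ : (Fin n₂ → F) → (Fin n₂ → F) → F}
    {T : (Fin n₁ → F) → (Fin n₂ → F) → ι → F} {c : F} (hc : c ≠ 0)
    (hB : ∀ x y x' y', f (T x y) (T x' y') = c * (f₁ x x' * f₂ y y'))
    {g : GL ι F} (hg : ∀ x y, f ((g : Matrix ι ι F) *ᵥ x) ((g : Matrix ι ι F) *ᵥ y) = f x y)
    {a : GL (Fin n₁) F} {b : GL (Fin n₂) F}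
    (hab : ∀ x y, (g : Matrix ι ι F) *ᵥ T x y =
      T ((a : Matrix (Fin n₁) (Fin n₁) F) *ᵥ x) ((b : Matrix (Fin n₂) (Fin n₂) F) *ᵥ y))
    {y y' : Fin n₂ → F} (hy : f₂ y y' ≠ 0) {x₀ x₀' : Fin n₁ → F} (hx₀ : f₁ x₀ x₀' ≠ 0) :
    ∃ lam : F, lam ≠ 0 ∧ ∀ x x', f₁ ((a : Matrix (Fin n₁) (Fin n₁) F) *ᵥ x)
      ((a : Matrix (Fin n₁) (Fin n₁) F) *ᵥ x') = lam * f₁ x x' := by
  set w := f₂ ((b : Matrix (Fin n₂) (Fin n₂) F) *ᵥ y) ((b : Matrix (Fin n₂) (Fin n₂) F) *ᵥ y')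
  have h : ∀ x x', f₁ ((a : Matrix (Fin n₁) (Fin n₁) F) *ᵥ x)
      ((a : Matrix (Fin n₁) (Fin n₁) F) *ᵥ x') * w = f₁ x x' * f₂ y y' := fun x x' => by
    have := hg (T x y) (T x' y')
    rw [hab, hab, hB, hB] at this
    exact mul_left_cancel₀ hc this
  have hw : w ≠ 0 := fun e => by
    have := h x₀ x₀'
    rw [e, mul_zero] at this
    exact mul_ne_zero hx₀ hy this.symm
  refine ⟨f₂ y y' / w, div_ne_zero hy hw, fun x x' => ?_⟩
  rw [div_mul_eq_mul_div, eq_div_iff hw, mul_comm (f₂ y y'), h]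

end Cfsg.Agent.Lib.Forms.TensorFrame
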