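/-
Stabilisers of subspaces in `GL_n`: the set `{v | v i = 0 for k ≤ i}` as a submodule, invariant
subspaces of its stabiliser, maximality and non-conjugacy.
-/
import Cfsg.Prelude.Def_ClassicalGeometry
import Cfsg.Agent.Lib.Subspaces.Transvection

set_option autoImplicit false

namespace Cfsg.Agent.Lib.Forms.GLParabolic

open Matrix Cfsg.Agent.Lib.Subspaces

variable {F : Type*} [Field F] {n : ℕ}

/-- The span of the first `k` standard basis vectors. -/
def firstK (F : Type*) [Field F] (n k : ℕ) : Submodule F (Fin n → F) where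
  carrier := {v | ∀ i : Fin n, k ≤ (i : ℕ) → v i = 0}
  add_mem' ha hb i hi := by simp [ha i hi, hb i hi]
  zero_mem' i _ := rfl
  smul_mem' c v hv i hi := by simp [hv i hi]

theorem coe_firstK (k : ℕ) :
    ({v : Fin n → F | ∀ i : Fin n, k ≤ (i : ℕ) → v i = 0}) = (firstK F n k : Set (Fin n → F)) := rfl

theorem stabilizing_eq (k : ℕ) :
    Cfsg.stabilizing (Cfsg.glToMat (Fin n) F) {v : Fin n → F | ∀ i : Fin n, k ≤ (i : ℕ) → v i = 0} =
      Cfsg.Geo.subspaceStabilizer (firstK F n k) := by
  ext g; exact Iff.rfl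

theorem single_mem_firstK {k : ℕ} {j : Fin n} (hj : (j : ℕ) < k) :
    (Pi.single j (1 : F) : Fin n → F) ∈ firstK F n k := fun i hi => by
  rw [Pi.single_eq_of_ne]
  intro h; subst h; omega

theorem mem_stab_iff {k : ℕ} (g : GL (Fin n) F) :
    g ∈ Cfsg.Geo.subspaceStabilizer (firstK F n k) ↔
      ∀ i j : Fin n, k ≤ (i : ℕ) → (j : ℕ) < k → (g : Matrix (Fin n) (Fin n) F) i j = 0 := by
  rw [Transvection.mem_subspaceStabilizer_iff]
  constructor
  · intro h i j hi hj
    have := h _ (single_mem_firstK hj) i hi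
    simpa using this
  · intro h w hw i hi
    show ∑ j, (g : Matrix (Fin n) (Fin n) F) i j * w j = 0
    refine Finset.sum_eq_zero fun j _ => ?_
    by_cases hj : (j : ℕ) < k
    · rw [h i j hi hj, zero_mul]
    · rw [hw j (not_lt.1 hj), mul_zero]

theorem finrank_firstK {k : ℕ} (hk : k ≤ n) : Module.finrank F (firstK F n k) = k := by
  let e : (Fin k → F) ≃ₗ[F] firstK F n k :=
    { toFun := fun c => ⟨fun i => if h : (i : ℕ) < k then c ⟨i, h⟩ else 0, fun i hi => by
        simp [not_lt.2 hi]⟩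
      map_add' := fun a b => by ext i; simp only [Submodule.coe_add, Pi.add_apply]; split <;> simp
      map_smul' := fun a b => by
        ext i; simp only [SetLike.val_smul, Pi.smul_apply, RingHom.id_apply]; split <;> simp
      invFun := fun v j => (v : Fin n → F) (Fin.castLE hk j)
      left_inv := fun c => by funext j; simp
      right_inv := fun v => by
        ext i
        simp only
        split
        · rfl
        · exact (v.2 i (not_lt.1 (by assumption))).symm }
  rw [← e.finrank_eq]; simp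

theorem firstK_ne_bot {k : ℕ} (h0 : 0 < k) (hk : k ≤ n) : firstK F n k ≠ ⊥ := by
  intro h
  have := finrank_firstK (F := F) hk
  rw [h, finrank_bot] at this
  omega

theorem firstK_ne_top {k : ℕ} (hk : k < n) : firstK F n k ≠ ⊤ := by
  intro h
  have := finrank_firstK (F := F) hk.le
  rw [h, finrank_top, Module.finrank_fintype_fun_eq_card, Fintype.card_fin] at this
  omega

/-- The only subspaces invariant under the stabiliser of `W` are `0`, `W` and everything. -/
theorem invariant_subspace {ι : Type} [Fintype ι] [DecidableEq ι] (W U : Submodule F (ι → F))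
    (hU : ∀ g ∈ Cfsg.Geo.subspaceStabilizer W, ∀ u ∈ U, (g : Matrix ι ι F) *ᵥ u ∈ U) :
    U = ⊥ ∨ U = W ∨ U = ⊤ := by
  by_cases hUW : U ≤ W
  · by_cases hU0 : U = ⊥
    · exact Or.inl hU0
    refine Or.inr (Or.inl (le_antisymm hUW fun v hv => ?_))
    obtain ⟨u, hu, hu0⟩ := Submodule.exists_mem_ne_zero_of_ne_bot hU0
    by_cases hsp : u ∈ Submodule.span F {v}
    · obtain ⟨c, hc⟩ := Submodule.mem_span_singleton.1 hsp
      have hc0 : c ≠ 0 := fun h => hu0 (by rw [← hc, h, zero_smul])
      have : v = c⁻¹ • u := by rw [← hc, smul_smul, inv_mul_cancel₀ hc0, one_smul]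
      rw [this]; exact U.smul_mem _ hu
    · obtain ⟨φ, hφv, hφu⟩ := Transvection.exists_functional hsp
      have h0 : φ ⬝ᵥ v = 0 := hφv v (Submodule.mem_span_singleton_self v)
      have := hU _ (Transvection.tv_mem_stabilizer_of_center (φ := φ) hv) u hu
      rw [Transvection.tv_mulVec h0, hφu, one_smul] at this
      simpa using U.sub_mem this hu
  · refine Or.inr (Or.inr (eq_top_iff.2 fun v _ => ?_))
    obtain ⟨u, hu, huW⟩ := SetLike.not_le_iff_exists.1 hUW
    obtain ⟨φ, hφW, hφu⟩ := Transvection.exists_functional huW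
    have hker : ∀ x, φ ⬝ᵥ x = 0 → x ∈ U := fun x hx => by
      have := hU _ (Transvection.tv_mem_stabilizer_of_axis (v := x) hφW) u hu
      rw [Transvection.tv_mulVec hx, hφu, one_smul] at this
      simpa using U.sub_mem this hu
    have := U.add_mem (hker (v - (φ ⬝ᵥ v) • u) (by
      rw [dotProduct_sub, dotProduct_smul, hφu, smul_eq_mul, mul_one, sub_self]))
      (U.smul_mem (φ ⬝ᵥ v) hu)
    simpa using this

theorem exists_det_eq {k : ℕ} (h0 : 0 < k) (hk : k ≤ n) (c : Fˣ) :
    ∃ g ∈ Cfsg.Geo.subspaceStabilizer (firstK F n k),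
      Matrix.GeneralLinearGroup.det g = c := by
  classical
  let d : Fin n → F := Function.update 1 ⟨0, by omega⟩ (c : F)
  have hdet : (Matrix.diagonal d).det = c := by
    rw [Matrix.det_diagonal, Finset.prod_update_of_mem (Finset.mem_univ _)]
    simp
  refine ⟨Matrix.GeneralLinearGroup.mkOfDetNeZero (Matrix.diagonal d) (by
    rw [hdet]; exact c.ne_zero), ?_, Units.ext hdet⟩
  rw [mem_stab_iff]
  intro i j hi hj
  exact Matrix.diagonal_apply_ne _ (fun h => by subst h; omega)

theorem isCoatom_stab {k : ℕ} (hk0 : 0 < k) (hkn : k < n) :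
    IsCoatom (Cfsg.Geo.subspaceStabilizer (firstK F n k)) := by
  set W := firstK F n k
  obtain ⟨v, φ, -, hnot⟩ := Transvection.exists_tv_not_mem_stabilizer
    (firstK_ne_bot (F := F) hk0 hkn.le) (firstK_ne_top hkn)
  refine ⟨fun h => hnot (by rw [h]; trivial), fun M hM => ?_⟩
  obtain ⟨g, hgM, hgW⟩ := SetLike.exists_of_lt hM
  obtain ⟨w, hw, hw0⟩ := Submodule.exists_mem_ne_zero_of_ne_bot (firstK_ne_bot (F := F) hk0 hkn.le)
  have hSL : Cfsg.Geo.specialLinear (Fin n) F ≤ M := by
    refine Transvection.specialLinear_le_of_irreducible (fun U hU => ?_) hw0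
      (fun φ _ => hM.le (Transvection.tv_mem_stabilizer_of_center hw))
    rcases invariant_subspace W U (fun x hx => hU x (hM.le hx)) with h | h | h
    · exact Or.inl h
    · exfalso
      subst h
      exact hgW (Transvection.mem_subspaceStabilizer_iff.2 (hU g hgM))
    · exact Or.inr h
  refine eq_top_iff.2 fun x _ => ?_
  obtain ⟨s, hs, hsd⟩ := exists_det_eq hk0 hkn.le (Matrix.GeneralLinearGroup.det x)
  have hmem : x * s⁻¹ ∈ Cfsg.Geo.specialLinear (Fin n) F := by
    rw [Cfsg.Geo.specialLinear, MonoidHom.mem_ker, map_mul, map_inv, hsd, mul_inv_cancel]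
  have := M.mul_mem (hSL hmem) (hM.le hs)
  rwa [inv_mul_cancel_right] at this

theorem not_conj {k l : ℕ} (hk0 : 0 < k) (hkn : k < n) (hl : l ≤ n) (hkl : k ≠ l)
    (g : GL (Fin n) F) :
    (Cfsg.Geo.subspaceStabilizer (firstK F n k)).map (MulAut.conj g).toMonoidHom ≠
      Cfsg.Geo.subspaceStabilizer (firstK F n l) := by
  intro heq
  let e : (Fin n → F) ≃ₗ[F] (Fin n → F) :=
    LinearEquiv.ofInjectiveEndo (Matrix.mulVecLin (g : Matrix (Fin n) (Fin n) F))
      (Transvection.gl_mulVec_injective g)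
  set U := (firstK F n k).map e.toLinearMap with hU
  have hinv : ∀ h ∈ Cfsg.Geo.subspaceStabilizer (firstK F n l), ∀ u ∈ U,
      (h : Matrix (Fin n) (Fin n) F) *ᵥ u ∈ U := by
    intro h hh u hu
    rw [← heq] at hh
    obtain ⟨a, ha, rfl⟩ := hh
    obtain ⟨w, hw, rfl⟩ := hu
    refine ⟨(a : Matrix (Fin n) (Fin n) F) *ᵥ w, Transvection.mem_subspaceStabilizer_iff.1 ha w hw, ?_⟩
    show (g : Matrix (Fin n) (Fin n) F) *ᵥ ((a : Matrix (Fin n) (Fin n) F) *ᵥ w) =
      ((g * a * g⁻¹ : GL (Fin n) F) : Matrix (Fin n) (Fin n) F) *ᵥ ((g : Matrix (Fin n) (Fin n) F) *ᵥ w)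
    rw [Transvection.gl_mul_mulVec, Transvection.gl_mul_mulVec, Transvection.gl_inv_mulVec]
  have hfU : Module.finrank F U = k := by
    rw [hU, LinearEquiv.finrank_map_eq, finrank_firstK hkn.le]
  rcases invariant_subspace _ U hinv with h | h | h <;> rw [h] at hfU
  · rw [finrank_bot] at hfU; omega
  · rw [finrank_firstK hl] at hfU; omega
  · rw [finrank_top, Module.finrank_fintype_fun_eq_card, Fintype.card_fin] at hfU; omega

/-- `g ↦ w (g⁻¹)ᵀ w` with `w` the reversal permutation matrix. -/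
def revDual (g : GL (Fin n) F) : GL (Fin n) F where
  val := ((g⁻¹ : GL (Fin n) F) : Matrix (Fin n) (Fin n) F)ᵀ.submatrix Fin.rev Fin.rev
  inv := (g : Matrix (Fin n) (Fin n) F)ᵀ.submatrix Fin.rev Fin.rev
  val_inv := by
    rw [show (Fin.rev : Fin n → Fin n) = Fin.revPerm from rfl, Matrix.submatrix_mul_equiv,
      ← Matrix.transpose_mul, ← Units.val_mul, mul_inv_cancel, Units.val_one, Matrix.transpose_one,
      Matrix.submatrix_one_equiv]
  inv_val := by
    rw [show (Fin.rev : Fin n → Fin n) = Fin.revPerm from rfl, Matrix.submatrix_mul_equiv,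
      ← Matrix.transpose_mul, ← Units.val_mul, inv_mul_cancel, Units.val_one, Matrix.transpose_one,
      Matrix.submatrix_one_equiv]

theorem revDual_apply (g : GL (Fin n) F) (i j : Fin n) :
    (revDual g : Matrix (Fin n) (Fin n) F) i j =
      ((g⁻¹ : GL (Fin n) F) : Matrix (Fin n) (Fin n) F) j.rev i.rev := rfl

theorem revDual_mul (g h : GL (Fin n) F) : revDual (g * h) = revDual g * revDual h := by
  apply Units.ext
  show ((((g * h)⁻¹ : GL (Fin n) F) : Matrix (Fin n) (Fin n) F)ᵀ).submatrix Fin.rev Fin.rev = _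
  rw [Units.val_mul, _root_.mul_inv_rev, Units.val_mul, Matrix.transpose_mul]
  show _ = (((g⁻¹ : GL (Fin n) F) : Matrix (Fin n) (Fin n) F)ᵀ).submatrix Fin.rev Fin.rev *
    (((h⁻¹ : GL (Fin n) F) : Matrix (Fin n) (Fin n) F)ᵀ).submatrix Fin.rev Fin.rev
  rw [show (Fin.rev : Fin n → Fin n) = Fin.revPerm from rfl, Matrix.submatrix_mul_equiv]

theorem revDual_revDual (g : GL (Fin n) F) : revDual (revDual g) = g := by
  apply Units.ext
  ext i j
  show ((g : Matrix (Fin n) (Fin n) F)ᵀ.submatrix Fin.rev Fin.rev) j.rev i.rev = _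
  simp

/-- `revDual` as an automorphism of `GL_n`. -/
def revDualEquiv : GL (Fin n) F ≃* GL (Fin n) F where
  toFun := revDual
  invFun := revDual
  left_inv := revDual_revDual
  right_inv := revDual_revDual
  map_mul' := revDual_mul

theorem map_revDual {k : ℕ} (hk : k ≤ n) :
    (Cfsg.Geo.subspaceStabilizer (firstK F n k)).map (revDualEquiv (F := F) (n := n)).toMonoidHom =
      Cfsg.Geo.subspaceStabilizer (firstK F n (n - k)) := by
  ext g
  rw [Subgroup.mem_map_equiv]
  show revDual g ∈ _ ↔ _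
  rw [mem_stab_iff, ← (Cfsg.Geo.subspaceStabilizer (firstK F n (n - k))).inv_mem_iff, mem_stab_iff]
  constructor
  · intro h i j hi hj
    have := h j.rev i.rev (by rw [Fin.val_rev]; omega) (by rw [Fin.val_rev]; omega)
    rwa [revDual_apply, Fin.rev_rev, Fin.rev_rev] at this
  · intro h i j hi hj
    rw [revDual_apply]
    exact h _ _ (by rw [Fin.val_rev]; omega) (by rw [Fin.val_rev]; omega)

end Cfsg.Agent.Lib.Forms.GLParabolic
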