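/-
The heart of the permutation module over the field with two elements as a quadratic space, and the
orthogonal representation of the symmetric group on it.
-/
import Cfsg.Agent.Lib.Forms.Count

set_option autoImplicit false

namespace Cfsg.Agent.Lib.Forms.PermModule

open Module QuadraticMap

variable {F : Type*} [Field F] {n : ℕ}

/-- `∑_{i<j} x i * x j`. -/
def pairForm (F : Type*) [Field F] (n : ℕ) : QuadraticForm F (Fin n → F) :=
  ∑ i : Fin n, ∑ j : Fin n,
    (if i < j then (1 : F) else 0) • QuadraticMap.linMulLin (LinearMap.proj i) (LinearMap.proj j)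

theorem pairForm_apply (x : Fin n → F) :
    pairForm F n x = ∑ i, ∑ j, if i < j then x i * x j else 0 := by
  simp only [pairForm, QuadraticMap.sum_apply, QuadraticMap.smul_apply, QuadraticMap.linMulLin_apply,
    LinearMap.proj_apply, smul_eq_mul, ite_mul, one_mul, zero_mul]

theorem pairForm_polar (x y : Fin n → F) :
    polar (pairForm F n) x y = (∑ i, x i) * (∑ i, y i) - ∑ i, x i * y i := by
  simp only [polar, pairForm_apply, Pi.add_apply]
  have h1 : ∀ i j : Fin n, (if i < j then (x i + y i) * (x j + y j) else 0) =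
      ((if i < j then x i * x j else 0) + (if i < j then y i * y j else 0)) +
        ((if i < j then x i * y j else 0) + (if i < j then y i * x j else 0)) := by
    intro i j; split <;> ring
  simp only [h1, Finset.sum_add_distrib]
  rw [Finset.sum_comm (f := fun i j => if i < j then y i * x j else 0), Finset.sum_mul_sum]
  have h2 : ∀ i j : Fin n, x i * y j = ((if i < j then x i * y j else 0) +
      (if j < i then y j * x i else 0)) + (if i = j then x i * y j else 0) := by
    intro i j
    rcases lt_trichotomy i j with h | h | h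
    · simp [h, h.ne, h.not_gt]
    · simp [h]
    · simp [h, h.ne', h.not_gt, mul_comm]
  conv_rhs => rw [Finset.sum_congr rfl fun i _ => Finset.sum_congr rfl fun j _ => h2 i j]
  simp only [Finset.sum_add_distrib, Finset.sum_ite_eq, Finset.mem_univ, if_true]
  ring

theorem pairForm_single (a : Fin n) (c : F) : pairForm F n (Pi.single a c) = 0 := by
  rw [pairForm_apply]
  refine Finset.sum_eq_zero fun i _ => Finset.sum_eq_zero fun j _ => ?_
  split
  · next h =>
    by_cases hi : i = a
    · subst hi; rw [Pi.single_eq_of_ne h.ne', mul_zero]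
    · rw [Pi.single_eq_of_ne hi, zero_mul]
  · rfl

theorem pairForm_pair {a b : Fin n} (hab : a ≠ b) :
    pairForm F n (Pi.single a 1 + Pi.single b 1) = 1 := by
  rw [QuadraticMap.map_add (pairForm F n), pairForm_single, pairForm_single, pairForm_polar]
  simp [Pi.single_apply, hab.symm]

/-- Sum-zero vectors. -/
def evenSub (F : Type*) [Field F] (n : ℕ) : Submodule F (Fin n → F) :=
  LinearMap.ker (∑ i : Fin n, (LinearMap.proj i : (Fin n → F) →ₗ[F] F))

theorem mem_evenSub {x : Fin n → F} : x ∈ evenSub F n ↔ ∑ i, x i = 0 := by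
  simp [evenSub]

theorem evenSub_le_span (h2 : (2 : F) = 0) (hn : 0 < n) :
    evenSub F n ≤ Submodule.span F
      {v | ∃ a b : Fin n, a ≠ b ∧ v = Pi.single a 1 + Pi.single b 1} := by
  intro x hx
  rw [mem_evenSub] at hx
  let z : Fin n := ⟨0, hn⟩
  have hdec : x = ∑ i, x i • ((Pi.single i 1 : Fin n → F) + Pi.single z 1) := by
    simp only [smul_add, Finset.sum_add_distrib, ← Finset.sum_smul, hx, zero_smul, add_zero]
    exact pi_eq_sum_univ' x
  rw [hdec]
  refine Submodule.sum_mem _ fun i _ => Submodule.smul_mem _ _ ?_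
  by_cases hi : i = z
  · rw [hi, ← two_smul F, h2, zero_smul]; exact Submodule.zero_mem _
  · exact Submodule.subset_span ⟨i, z, hi, rfl⟩

/-- Permutations preserve the form on sum-zero vectors. -/
theorem pairForm_perm (h2 : (2 : F) = 0) (hn : 0 < n) (σ : Equiv.Perm (Fin n)) {x : Fin n → F}
    (hx : x ∈ evenSub F n) : pairForm F n (x ∘ σ) = pairForm F n x := by
  have hspan := evenSub_le_span h2 hn hx
  clear hx
  induction hspan using Submodule.span_induction with
  | mem v hv =>
    obtain ⟨a, b, hab, rfl⟩ := hv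
    have : (Pi.single a 1 + Pi.single b 1 : Fin n → F) ∘ σ =
        Pi.single (σ.symm a) 1 + Pi.single (σ.symm b) 1 := by
      funext i
      simp [Pi.single_apply, Equiv.eq_symm_apply]
    rw [this, pairForm_pair hab, pairForm_pair (σ.symm.injective.ne hab)]
  | zero => rfl
  | add u v _ _ hu hv =>
    show pairForm F n (u ∘ σ + v ∘ σ) = _
    rw [QuadraticMap.map_add (pairForm F n), QuadraticMap.map_add (pairForm F n), hu, hv,
      pairForm_polar, pairForm_polar]
    simp only [Function.comp_apply]
    rw [Equiv.sum_comp σ fun i => u i * v i, Equiv.sum_comp σ u, Equiv.sum_comp σ v]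
  | smul c v _ hv =>
    show pairForm F n (c • (v ∘ σ)) = _
    rw [QuadraticMap.map_smul, QuadraticMap.map_smul, hv]

/-- The model of the heart: sum-zero vectors with `c * x 0 = 0`. -/
def heartSub (F : Type*) [Field F] (n : ℕ) [NeZero n] (c : F) : Submodule F (Fin n → F) :=
  evenSub F n ⊓ LinearMap.ker (c • (LinearMap.proj 0 : (Fin n → F) →ₗ[F] F))

theorem mem_heartSub [NeZero n] {c : F} {x : Fin n → F} :
    x ∈ heartSub F n c ↔ (∑ i, x i = 0) ∧ c * x 0 = 0 := by
  rw [heartSub, Submodule.mem_inf, mem_evenSub, LinearMap.mem_ker, LinearMap.smul_apply,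
    LinearMap.proj_apply, smul_eq_mul]

/-- The data making the heart work: either `c = 0` and `n` odd, or `c = 1` and `n ≡ 0, 1 (mod 4)` even. -/
structure Good (F : Type*) [Field F] (n : ℕ) [NeZero n] (c : F) : Prop where
  two : (2 : F) = 0
  five : 5 ≤ n
  case : (c = 0 ∧ (n : F) = 1) ∨ (c = 1 ∧ (n : F) = 0 ∧ pairForm F n 1 = 0)

variable [NeZero n] {c : F}

/-- The normalised permutation action. -/
def act (F : Type*) [Field F] (n : ℕ) [NeZero n] (c : F) (σ : Equiv.Perm (Fin n)) :
    (Fin n → F) →ₗ[F] (Fin n → F) :=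
  LinearMap.funLeft F F σ.symm +
    (c • (LinearMap.proj 0).comp (LinearMap.funLeft F F σ.symm)).smulRight (1 : Fin n → F)

theorem act_apply (σ : Equiv.Perm (Fin n)) (x : Fin n → F) (i : Fin n) :
    act F n c σ x i = x (σ.symm i) + c * x (σ.symm 0) := by
  simp [act, LinearMap.funLeft_apply]

theorem act_mem (h : Good F n c) (σ : Equiv.Perm (Fin n)) {x : Fin n → F}
    (hx : x ∈ heartSub F n c) : act F n c σ x ∈ heartSub F n c := by
  rw [mem_heartSub] at hx ⊢
  simp only [act_apply, Finset.sum_add_distrib, σ.symm.sum_comp, hx.1, zero_add, Finset.sum_const,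
    Finset.card_univ, Fintype.card_fin, nsmul_eq_mul]
  rcases h.case with ⟨rfl, -⟩ | ⟨rfl, hn, -⟩
  · simp
  · refine ⟨by rw [hn, zero_mul], ?_⟩
    rw [one_mul, one_mul, ← two_mul, h.two, zero_mul]

theorem act_mul (h : Good F n c) (σ τ : Equiv.Perm (Fin n)) {x : Fin n → F} :
    act F n c σ (act F n c τ x) = act F n c (σ * τ) x := by
  funext i
  simp only [act_apply, Equiv.Perm.mul_def, Equiv.symm_trans_apply]
  rcases h.case with ⟨rfl, -⟩ | ⟨rfl, -⟩
  · ring
  · linear_combination (x (τ.symm 0)) * h.two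

theorem act_one (h : Good F n c) {x : Fin n → F} (hx : x ∈ heartSub F n c) :
    act F n c 1 x = x := by
  funext i
  rw [act_apply]
  rw [show (1 : Equiv.Perm (Fin n)).symm i = i from rfl,
    show (1 : Equiv.Perm (Fin n)).symm 0 = 0 from rfl, (mem_heartSub.1 hx).2, add_zero]

theorem act_form (h : Good F n c) (σ : Equiv.Perm (Fin n)) {x : Fin n → F}
    (hx : x ∈ heartSub F n c) : pairForm F n (act F n c σ x) = pairForm F n x := by
  have hE : x ∈ evenSub F n := hx.1
  have hcomp : act F n c σ x = x ∘ σ.symm + (c * x (σ.symm 0)) • (1 : Fin n → F) := by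
    funext i; simp [act_apply]
  rw [hcomp, QuadraticMap.map_add (pairForm F n), pairForm_perm h.two (Nat.pos_of_neZero n) _ hE,
    QuadraticMap.map_smul, pairForm_polar]
  have h0 : ∑ i, (x ∘ σ.symm) i = 0 := by
    simp only [Function.comp_apply]; rw [Equiv.sum_comp σ.symm x]; exact mem_evenSub.1 hE
  rw [h0, zero_mul, show ∑ i, (x ∘ σ.symm) i * ((c * x (σ.symm 0)) • (1 : Fin n → F)) i = 0 by
    simp only [Pi.smul_apply, Pi.one_apply, smul_eq_mul, mul_one, ← Finset.sum_mul, h0, zero_mul]]
  rcases h.case with ⟨rfl, -⟩ | ⟨rfl, -, hQ⟩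
  · simp
  · rw [hQ]; simp

/-- The heart form. -/
abbrev heartForm (F : Type*) [Field F] (n : ℕ) [NeZero n] (c : F) :
    QuadraticForm F (heartSub F n c) := res (pairForm F n) (heartSub F n c)

theorem heart_nondeg (h : Good F n c) : Nondeg (heartForm F n c) := by
  intro x hx
  have hxm := mem_heartSub.1 x.2
  have hall : ∀ y : Fin n → F, ∑ i, y i = 0 → ∑ i, (x : Fin n → F) i * y i = 0 := by
    intro y hy
    have hmem : y + (c * y 0) • (1 : Fin n → F) ∈ heartSub F n c := by
      rw [mem_heartSub]
      simp only [Pi.add_apply, Pi.smul_apply, Pi.one_apply, smul_eq_mul, mul_one, Finset.sum_add_distrib,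
        hy, zero_add, Finset.sum_const, Finset.card_univ, Fintype.card_fin, nsmul_eq_mul]
      rcases h.case with ⟨rfl, -⟩ | ⟨rfl, hn, -⟩
      · simp
      · exact ⟨by rw [hn, zero_mul], by rw [one_mul, one_mul, ← two_mul, h.two, zero_mul]⟩
    have := hx ⟨_, hmem⟩
    rw [res_polar, pairForm_polar, hxm.1, zero_mul, zero_sub, neg_eq_zero] at this
    simp only [Pi.add_apply, Pi.smul_apply, Pi.one_apply, smul_eq_mul, mul_one, mul_add,
      Finset.sum_add_distrib, ← Finset.sum_mul, hxm.1, zero_mul, add_zero] at this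
    exact this
  have hconst : ∀ a, (x : Fin n → F) a = (x : Fin n → F) 0 := by
    intro a
    by_cases ha : a = 0
    · rw [ha]
    have := hall (Pi.single a 1 + Pi.single 0 1) (by
      simp [Finset.sum_add_distrib, one_add_one_eq_two, h.two])
    simp [mul_add, Finset.sum_add_distrib, Pi.single_apply] at this
    linear_combination this - (x : Fin n → F) 0 * h.two
  have hx0 : (x : Fin n → F) 0 = 0 := by
    rcases h.case with ⟨-, hn⟩ | ⟨rfl, -⟩
    · have := hxm.1
      rw [Finset.sum_congr rfl fun a _ => hconst a, Finset.sum_const, Finset.card_univ,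
        Fintype.card_fin, nsmul_eq_mul, hn, one_mul] at this
      exact this
    · simpa using hxm.2
  exact Subtype.ext (funext fun a => (hconst a).trans hx0)

theorem exists_hom (h : Good F n c) :
    ∃ f : Equiv.Perm (Fin n) →* orth (heartForm F n c), Function.Injective f := by
  let P : Equiv.Perm (Fin n) → (heartSub F n c →ₗ[F] heartSub F n c) := fun σ =>
    (act F n c σ).restrict fun x hx => act_mem h σ hx
  have hP : ∀ σ τ, (P σ).comp (P τ) = P (σ * τ) := fun σ τ =>
    LinearMap.ext fun x => Subtype.ext (act_mul h σ τ)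
  have hP1 : P 1 = LinearMap.id := LinearMap.ext fun x => Subtype.ext (act_one h x.2)
  let g : Equiv.Perm (Fin n) → orth (heartForm F n c) := fun σ =>
    ⟨LinearEquiv.ofLinearMap (P σ) (P σ⁻¹) (by rw [hP, mul_inv_cancel, hP1])
      (by rw [hP, inv_mul_cancel, hP1]), fun x => act_form h σ x.2⟩
  let gh : Equiv.Perm (Fin n) →* orth (heartForm F n c) := MonoidHom.mk' g fun σ τ =>
    Subtype.ext (LinearEquiv.ext fun x => (LinearMap.congr_fun (hP σ τ) x).symm)
  refine ⟨gh, (injective_iff_map_eq_one _).2 fun σ hσ => ?_⟩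
  by_contra hne
  obtain ⟨i, hi⟩ : ∃ i, σ i ≠ i := by
    by_contra hc; push Not at hc; exact hne (Equiv.ext hc)
  have hn := h.five
  obtain ⟨k, -, hk⟩ := Finset.exists_mem_notMem_of_card_lt_card
    (s := ({i, σ i} : Finset (Fin n))) (t := Finset.univ) (by
      have := Finset.card_le_two (a := i) (b := σ i)
      rw [Finset.card_univ, Fintype.card_fin]; omega)
  simp at hk
  set y : Fin n → F := Pi.single i 1 + Pi.single k 1 with hy
  have hys : ∑ l, y l = 0 := by simp [hy, Finset.sum_add_distrib, one_add_one_eq_two, h.two]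
  have hmem : y + (c * y 0) • (1 : Fin n → F) ∈ heartSub F n c := by
    rw [mem_heartSub]
    simp only [Pi.add_apply, Pi.smul_apply, Pi.one_apply, smul_eq_mul, mul_one, Finset.sum_add_distrib,
      hys, zero_add, Finset.sum_const, Finset.card_univ, Fintype.card_fin, nsmul_eq_mul]
    rcases h.case with ⟨rfl, -⟩ | ⟨rfl, hn, -⟩
    · simp
    · exact ⟨by rw [hn, zero_mul], by rw [one_mul, one_mul, ← two_mul, h.two, zero_mul]⟩
  have hfix : act F n c σ (y + (c * y 0) • (1 : Fin n → F)) = y + (c * y 0) • (1 : Fin n → F) := by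
    have := congrArg (fun z : orth (heartForm F n c) =>
      ((z.1 ⟨_, hmem⟩ : heartSub F n c) : Fin n → F)) hσ
    exact this
  obtain ⟨d, hd⟩ : ∃ d : F, ∀ l, y (σ.symm l) - y l = d := by
    refine ⟨c * y 0 - (c * y 0 + c * (y (σ.symm 0) + c * y 0)), fun l => ?_⟩
    have := congrFun hfix l
    simp only [act_apply, Pi.add_apply, Pi.smul_apply, Pi.one_apply, smul_eq_mul, mul_one] at this
    linear_combination this
  obtain ⟨l, -, hl⟩ := Finset.exists_mem_notMem_of_card_lt_card
    (s := ({i, k, σ i, σ k} : Finset (Fin n))) (t := Finset.univ) (by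
      have := Finset.card_le_four (a := i) (b := k) (c := σ i) (d := σ k)
      rw [Finset.card_univ, Fintype.card_fin]; omega)
  simp at hl
  have h1 := hd l
  have h3 := hd (σ i)
  simp [hy, Pi.single_apply, Equiv.symm_apply_eq, hl.1, hl.2.1, hl.2.2.1, hl.2.2.2] at h1
  simp [hy, Pi.single_apply, hk.1, Ne.symm hk.1, Ne.symm hk.2, hi] at h3
  exact one_ne_zero (h3.trans h1.symm)

theorem finrank_heart [DecidableEq F] (h : Good F n c) :
    finrank F (heartSub F n c) + (if c = 0 then 1 else 2) = n := by
  classical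
  have hn := h.five
  let one : Fin n := ⟨1, by omega⟩
  let two : Fin n := ⟨2, by omega⟩
  let L : (Fin n → F) →ₗ[F] F := ∑ i : Fin n, LinearMap.proj i
  have hL : ∀ x, L x = ∑ i, x i := fun x => by simp [L]
  rcases h.case with ⟨hc, -⟩ | ⟨hc, -⟩
  · rw [if_pos hc]
    have heq : heartSub F n c = LinearMap.ker L := by
      ext x; rw [mem_heartSub, LinearMap.mem_ker, hL, hc]; simp
    have hs : LinearMap.range L = ⊤ :=
      LinearMap.range_eq_top.2 fun a => ⟨Pi.single 0 a, by simp [hL]⟩
    have h1 := L.finrank_range_add_finrank_ker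
    rw [hs, finrank_top, finrank_self, finrank_fin_fun] at h1
    rw [heq]; omega
  · subst hc
    rw [if_neg one_ne_zero]
    let L₂ : (Fin n → F) →ₗ[F] F × F := L.prod (LinearMap.proj 0)
    have heq : heartSub F n (1 : F) = LinearMap.ker L₂ := by
      ext x; rw [mem_heartSub, LinearMap.mem_ker]; simp [L₂, hL, Prod.ext_iff]
    have hs : LinearMap.range L₂ = ⊤ := LinearMap.range_eq_top.2 fun p =>
      ⟨Pi.single one (p.1 - p.2) + Pi.single 0 p.2, by
        have h10 : (0 : Fin n) ≠ one := fun e => by simpa [one] using congrArg Fin.val e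
        simp [L₂, hL, Finset.sum_add_distrib, Pi.single_apply, h10]⟩
    have h1 := L₂.finrank_range_add_finrank_ker
    rw [hs, finrank_top, finrank_prod, finrank_self, finrank_fin_fun] at h1
    rw [heq]; omega

end Cfsg.Agent.Lib.Forms.PermModule
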