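/-
`S_4` as orthogonal group of the heart of its permutation module in characteristic three, and the
resulting isomorphism with `SO_3(3)`.
-/
import Cfsg.Agent.Lib.Forms.Bridge
import Cfsg.Agent.Lib.OrthStd.Models

set_option autoImplicit false

namespace Cfsg.Agent.Lib.Forms.SO3Three

open Module QuadraticMap

variable {F : Type*} [Field F]

/-- Sum-zero vectors in `F^4`. -/
def sub4 (F : Type*) [Field F] : Submodule F (Fin 4 → F) :=
  LinearMap.ker (∑ i : Fin 4, (LinearMap.proj i : (Fin 4 → F) →ₗ[F] F))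

theorem mem_sub4 {x : Fin 4 → F} : x ∈ sub4 F ↔ ∑ i, x i = 0 := by simp [sub4]

/-- The sum of squares restricted to sum-zero vectors. -/
abbrev form4 (F : Type*) [Field F] : QuadraticForm F (sub4 F) :=
  res (weightedSumSquares F (fun _ : Fin 4 => (1 : F))) (sub4 F)

theorem form4_apply (x : sub4 F) : form4 F x = ∑ i, (x : Fin 4 → F) i * (x : Fin 4 → F) i := by
  simp [weightedSumSquares_apply]

theorem finrank_sub4 : finrank F (sub4 F) = 3 := by
  classical
  let L : (Fin 4 → F) →ₗ[F] F := ∑ i : Fin 4, LinearMap.proj i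
  have hs : LinearMap.range L = ⊤ :=
    LinearMap.range_eq_top.2 fun a => ⟨Pi.single 0 a, by simp [L]⟩
  have h1 := L.finrank_range_add_finrank_ker
  rw [hs, finrank_top, finrank_self, finrank_fin_fun] at h1
  show finrank F (LinearMap.ker L) = 3
  omega

theorem nondeg_form4 (h2 : (2 : F) ≠ 0) : Nondeg (form4 F) := by
  intro x hx
  have hpol : ∀ y : Fin 4 → F, ∑ i, y i = 0 → ∑ i, (x : Fin 4 → F) i * y i = 0 := by
    intro y hy
    have h := hx ⟨y, mem_sub4.2 hy⟩
    simp only [polar, form4_apply, Submodule.coe_add, Pi.add_apply, ← Finset.sum_sub_distrib] at h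
    apply mul_left_cancel₀ h2
    rw [mul_zero, Finset.mul_sum, ← h]
    exact Finset.sum_congr rfl fun i _ => by ring
  have hconst : ∀ a, (x : Fin 4 → F) a = (x : Fin 4 → F) 0 := by
    intro a
    by_cases ha : a = 0
    · rw [ha]
    have := hpol (Pi.single a 1 - Pi.single 0 1) (by simp [Finset.sum_sub_distrib])
    simp [mul_sub, Finset.sum_sub_distrib, Pi.single_apply] at this
    linear_combination this
  have h4 : (4 : F) * (x : Fin 4 → F) 0 = 0 := by
    have := mem_sub4.1 x.2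
    rw [Finset.sum_congr rfl fun a _ => hconst a] at this
    simpa using this
  have h4' : (4 : F) ≠ 0 := by rw [show (4 : F) = 2 * 2 by norm_num]; exact mul_ne_zero h2 h2
  exact Subtype.ext (funext fun a => (hconst a).trans ((mul_eq_zero.1 h4).resolve_left h4'))

theorem exists_perm_hom :
    ∃ f : Equiv.Perm (Fin 4) →* orth (form4 F), Function.Injective f := by
  let P : Equiv.Perm (Fin 4) → (sub4 F →ₗ[F] sub4 F) := fun σ =>
    (LinearMap.funLeft F F σ.symm).restrict fun x hx =>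
      mem_sub4.2 ((Equiv.sum_comp σ.symm x).trans (mem_sub4.1 hx))
  have hP : ∀ σ τ, (P σ).comp (P τ) = P (σ * τ) := fun σ τ => rfl
  have hP1 : P 1 = LinearMap.id := rfl
  let g : Equiv.Perm (Fin 4) → orth (form4 F) := fun σ =>
    ⟨LinearEquiv.ofLinearMap (P σ) (P σ⁻¹) (by rw [hP, mul_inv_cancel, hP1])
      (by rw [hP, inv_mul_cancel, hP1]), fun x => by
        rw [form4_apply, form4_apply]
        exact Equiv.sum_comp σ.symm fun i => (x : Fin 4 → F) i * (x : Fin 4 → F) i⟩
  let gh : Equiv.Perm (Fin 4) →* orth (form4 F) := MonoidHom.mk' g fun σ τ =>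
    Subtype.ext (LinearEquiv.ext fun x => rfl)
  refine ⟨gh, (injective_iff_map_eq_one _).2 fun σ hσ => Equiv.ext fun i => ?_⟩
  by_contra hi
  obtain ⟨k, hki, hkj⟩ : ∃ k : Fin 4, k ≠ i ∧ k ≠ σ i := by
    obtain ⟨k, -, hk⟩ := Finset.exists_mem_notMem_of_card_lt_card
      (s := ({i, σ i} : Finset (Fin 4))) (t := Finset.univ)
      (by simp; exact lt_of_le_of_lt Finset.card_le_two (by norm_num))
    simp at hk
    exact ⟨k, hk.1, hk.2⟩
  have hy : (Pi.single i 1 - Pi.single k 1 : Fin 4 → F) ∈ sub4 F :=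
    mem_sub4.2 (by simp [Finset.sum_sub_distrib])
  have h := congrArg (fun z : orth (form4 F) => ((z.1 ⟨_, hy⟩ : sub4 F) : Fin 4 → F) (σ i)) hσ
  change (Pi.single i 1 - Pi.single k 1 : Fin 4 → F) (σ.symm (σ i)) =
    (Pi.single i 1 - Pi.single k 1 : Fin 4 → F) (σ i) at h
  simp [Ne.symm hki, Pi.single_apply, Ne.symm hkj] at h
  simp at hi
  simp [hi] at h

/-- The orthogonal group of `form4` is that of `quadFormOdd 1`. -/
theorem nonempty_iso [Finite F] (h2 : (2 : F) ≠ 0) :
    Nonempty (orth (form4 F) ≃* Cfsg.isometryGroup F (Cfsg.quadFormOdd 1 F)) := by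
  rcases classify (form4 F) (nondeg_form4 h2) with ⟨k, hk, -⟩ | ⟨k, c, hc, -, hk, he⟩ |
    ⟨k, a, b, -, hk, -⟩
  · rw [finrank_sub4] at hk; omega
  · rw [finrank_sub4] at hk
    obtain rfl : k = 1 := by omega
    obtain ⟨e⟩ := he
    let L : ((Fin 1 ⊕ Fin 1 → F) × F) ≃ₗ[F] ((Fin 1 ⊕ Fin 1 → F) × F) :=
      { toFun := fun p => (Sum.elim (fun i => c⁻¹ * p.1 (Sum.inl i)) (fun i => p.1 (Sum.inr i)), p.2)
        map_add' := fun p p' => by
          refine Prod.ext (funext fun i => ?_) rfl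
          rcases i with i | i <;> simp [mul_add]
        map_smul' := fun t p => by
          refine Prod.ext (funext fun i => ?_) rfl
          rcases i with i | i <;> simp [mul_left_comm]
        invFun := fun p => (Sum.elim (fun i => c * p.1 (Sum.inl i)) (fun i => p.1 (Sum.inr i)), p.2)
        left_inv := fun p => by
          refine Prod.ext (funext fun i => ?_) rfl
          rcases i with i | i <;> simp [hc]
        right_inv := fun p => by
          refine Prod.ext (funext fun i => ?_) rfl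
          rcases i with i | i <;> simp [hc] }
    let e' : (c⁻¹ • ((qPlus (F := F) 1).prod (qOne c))).IsometryEquiv
        ((qPlus (F := F) 1).prod (qOne (1 : F))) :=
      { L with
        map_app' := fun p => by
          simp [L, qPlus_apply, qOne_apply]
          field_simp }
    exact ⟨((orthCongr e).trans (MulEquiv.subgroupCongr
      (orth_smul ((qPlus (F := F) 1).prod (qOne c)) (inv_ne_zero hc)).symm)).trans
      ((orthCongr e').trans ((orthCongr (OrthStd.oddIso 1 F)).symm.trans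
        (isoOrth (OrthStd.qOddC 1 F) (OrthStd.quadFormOdd_eq 1)).symm))⟩
  · rw [finrank_sub4] at hk; omega

theorem special_iso [Fintype F] (hF : Fintype.card F = 3) :
    Nonempty (Cfsg.specialIsometryGroup F (Cfsg.quadFormOdd 1 F) ≃* Equiv.Perm (Fin 4)) := by
  classical
  have h2 : (2 : F) ≠ 0 := by
    intro h
    have h3 := FiniteField.cast_card_eq_zero F
    rw [hF] at h3
    push_cast at h3
    exact one_ne_zero (by linear_combination h3 - h : (1 : F) = 0)
  obtain ⟨f₀, hf₀⟩ := exists_perm_hom (F := F)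
  obtain ⟨Ψ⟩ := nonempty_iso (F := F) h2
  let G := Cfsg.isometryGroup F (Cfsg.quadFormOdd 1 F)
  let f : Equiv.Perm (Fin 4) →* G := Ψ.toMonoidHom.comp f₀
  have hf : Function.Injective f := Ψ.injective.comp hf₀
  have hnd : Nondeg (OrthStd.qOddC 1 F) := (prod_nondeg (qPlus_nondeg 1) (qOne_nondeg one_ne_zero h2)).of_equiv (OrthStd.oddIso 1 F).symm
  have hQ : ∀ (g : G) v, OrthStd.qOddC 1 F
      (((g : Matrix.GeneralLinearGroup (Unit ⊕ (Fin 1 ⊕ Fin 1)) F) :
        Matrix (Unit ⊕ (Fin 1 ⊕ Fin 1)) (Unit ⊕ (Fin 1 ⊕ Fin 1)) F).mulVec v) =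
      OrthStd.qOddC 1 F v := fun g v => by
    rw [← OrthStd.quadFormOdd_eq, ← OrthStd.quadFormOdd_eq]
    exact g.2 v v
  let d : G → F := fun g =>
    ((g : Matrix.GeneralLinearGroup (Unit ⊕ (Fin 1 ⊕ Fin 1)) F) :
      Matrix (Unit ⊕ (Fin 1 ⊕ Fin 1)) (Unit ⊕ (Fin 1 ⊕ Fin 1)) F).det
  have hd : ∀ g, d g * d g = 1 := fun g => by
    rcases det_sq_of_isometry hnd _ (hQ g) with h | h <;> simp [d, h]
  let M : G → Matrix (Unit ⊕ (Fin 1 ⊕ Fin 1)) (Unit ⊕ (Fin 1 ⊕ Fin 1)) F := fun g =>
    d g • ((g : Matrix.GeneralLinearGroup (Unit ⊕ (Fin 1 ⊕ Fin 1)) F) : Matrix _ _ F)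
  have hMdet : ∀ g, (M g).det = 1 := fun g => by
    rw [Matrix.det_smul]
    show d g ^ Fintype.card (Unit ⊕ (Fin 1 ⊕ Fin 1)) * d g = 1
    simp only [Fintype.card_sum, Fintype.card_unit, Fintype.card_fin]
    linear_combination (d g * d g + 1) * hd g
  let S : G → Cfsg.specialIsometryGroup F (Cfsg.quadFormOdd 1 F) := fun g =>
    ⟨⟨Matrix.GeneralLinearGroup.mkOfDetNeZero (M g) (by rw [hMdet]; exact one_ne_zero), fun u v => by
      show Cfsg.quadFormOdd 1 F ((M g).mulVec u) = Cfsg.quadFormOdd 1 F u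
      rw [OrthStd.quadFormOdd_eq, OrthStd.quadFormOdd_eq, Matrix.smul_mulVec, Q_smul, hQ g u, hd,
        one_mul]⟩, Units.ext (hMdet g)⟩
  have hS : ∀ g g', S (g * g') = S g * S g' := fun g g' => by
    refine Subtype.ext (Subtype.ext (Units.ext ?_))
    show M (g * g') = M g * M g'
    simp only [M, d, Subgroup.coe_mul, Units.val_mul, Matrix.det_mul, Matrix.smul_mul,
      Matrix.mul_smul, smul_smul, mul_comm]
  let f' : Equiv.Perm (Fin 4) →* Cfsg.specialIsometryGroup F (Cfsg.quadFormOdd 1 F) :=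
    (MonoidHom.mk' S hS).comp f
  have hf' : Function.Injective f' := by
    refine (injective_iff_map_eq_one _).2 fun σ hσ => ?_
    have h0 := congrArg Subtype.val (congrArg Subtype.val hσ)
    have h1 : M (f σ) = 1 := congrArg Units.val h0
    have hscal : ((f σ : Matrix.GeneralLinearGroup (Unit ⊕ (Fin 1 ⊕ Fin 1)) F) :
        Matrix (Unit ⊕ (Fin 1 ⊕ Fin 1)) (Unit ⊕ (Fin 1 ⊕ Fin 1)) F) =
        d (f σ) • (1 : Matrix (Unit ⊕ (Fin 1 ⊕ Fin 1)) (Unit ⊕ (Fin 1 ⊕ Fin 1)) F) := by
      rw [← h1]; simp only [M, smul_smul, hd, one_smul]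
    have hc : σ ∈ Subgroup.center (Equiv.Perm (Fin 4)) := by
      rw [Subgroup.mem_center_iff]
      intro τ
      apply hf
      rw [map_mul, map_mul]
      refine Subtype.ext (Units.ext ?_)
      rw [Subgroup.coe_mul, Subgroup.coe_mul, Units.val_mul, Units.val_mul, hscal, Matrix.mul_smul,
        Matrix.smul_mul, Matrix.mul_one, Matrix.one_mul]
    refine Equiv.ext fun i => ?_
    by_contra hi
    obtain ⟨k, -, hk⟩ := Finset.exists_mem_notMem_of_card_lt_card
      (s := ({i, σ i} : Finset (Fin 4))) (t := Finset.univ)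
      (by simp; exact lt_of_le_of_lt Finset.card_le_two (by norm_num))
    simp at hk
    simp at hi
    have h := congrArg (fun e : Equiv.Perm (Fin 4) => e i) (Subgroup.mem_center_iff.1 hc (Equiv.swap (σ i) k))
    simp [Equiv.swap_apply_of_ne_of_ne (Ne.symm hi) (Ne.symm hk.1)] at h
    exact hk.2 h
  have hcard : Nat.card (Equiv.Perm (Fin 4)) = 24 := by
    rw [Nat.card_perm, Nat.card_eq_fintype_card, Fintype.card_fin]; rfl
  have hG : Nat.card G = 48 := by
    show Nat.card (Cfsg.isometryGroup F (Cfsg.quadFormOdd 1 F)) = 48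
    rw [OrthStd.card_orth_odd (q := 3) hF (by decide) 1]
    simp
  have hne : Cfsg.specialIsometryGroup F (Cfsg.quadFormOdd 1 F) ≠ ⊤ := by
    intro h
    let v : Unit ⊕ (Fin 1 ⊕ Fin 1) → F := Pi.single (Sum.inl ()) 1
    have hv : OrthStd.qOddC 1 F v ≠ 0 := by
      rw [← OrthStd.quadFormOdd_eq]; simp [v, Cfsg.quadFormOdd]
    let g : G := (isoOrth (OrthStd.qOddC 1 F) (OrthStd.quadFormOdd_eq 1)).symm
      (orefl (OrthStd.qOddC 1 F) v)
    have h1 : Matrix.GeneralLinearGroup.det (g : Matrix.GeneralLinearGroup (Unit ⊕ (Fin 1 ⊕ Fin 1)) F) = 1 := by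
      have hg : g ∈ Cfsg.specialIsometryGroup F (Cfsg.quadFormOdd 1 F) := by rw [h]; trivial
      exact hg
    have h3 : ((g : Matrix.GeneralLinearGroup (Unit ⊕ (Fin 1 ⊕ Fin 1)) F) : Matrix _ _ F) =
        Cfsg.reflectionMatrix (⇑(OrthStd.qOddC 1 F)) v := by
      apply Matrix.ext_of_mulVec_single
      intro j
      rw [reflectionMatrix_mulVec, ← isoOrth_apply (OrthStd.qOddC 1 F) (OrthStd.quadFormOdd_eq 1) g,
        MulEquiv.apply_symm_apply]
      rfl
    have h4 := congrArg Units.val h1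
    rw [Matrix.GeneralLinearGroup.val_det_apply, h3, det_reflectionMatrix _ hv, Units.val_one] at h4
    exact h2 (by linear_combination -h4)
  have hle : Nat.card (Cfsg.specialIsometryGroup F (Cfsg.quadFormOdd 1 F)) ≤ 24 := by
    have h1 := Subgroup.card_mul_index (Cfsg.specialIsometryGroup F (Cfsg.quadFormOdd 1 F))
    have h3 : (Cfsg.specialIsometryGroup F (Cfsg.quadFormOdd 1 F)).index ≠ 1 := fun e =>
      hne (Subgroup.index_eq_one.1 e)
    have h4 : (Cfsg.specialIsometryGroup F (Cfsg.quadFormOdd 1 F)).index ≠ 0 := Subgroup.index_ne_zero_of_finite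
    rw [show Nat.card (Cfsg.isometryGroup F (Cfsg.quadFormOdd 1 F)) = 48 from hG] at h1
    have h5 : 2 ≤ (Cfsg.specialIsometryGroup F (Cfsg.quadFormOdd 1 F)).index := by omega
    have := Nat.mul_le_mul_left (Nat.card (Cfsg.specialIsometryGroup F (Cfsg.quadFormOdd 1 F))) h5
    omega
  have hbij : Function.Bijective f' := (Nat.bijective_iff_injective_and_card f').2 ⟨hf',
    le_antisymm (Nat.card_le_card_of_injective f' hf') (hcard.symm ▸ hle)⟩
  exact ⟨(MulEquiv.ofBijective f' hbij).symm⟩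

end Cfsg.Agent.Lib.Forms.SO3Three
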