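/-
Siegel transformations of pairs of orthogonal singular vectors: they are commutators, and they
generate `Ω` in dimension at least five.
-/
import Cfsg.Agent.Lib.Forms.Bridge
import Cfsg.Agent.Lib.OrthOmega.Structure
import Cfsg.Prelude.Def_ClassicalGeometry

set_option autoImplicit false

namespace Cfsg.Agent.Lib.Forms.SiegelOmega

open Module QuadraticMap Cfsg.Agent.Lib.OrthOmega
open scoped commutatorElement

section abstr

variable {F : Type*} [Field F] {V : Type*} [AddCommGroup V] [Module F V] [FiniteDimensional F V]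
  {Q : QuadraticForm F V}

/-- A Siegel transformation of two singular vectors is a commutator (odd characteristic). -/
theorem rho_mem_commutatorSet (h2 : (2 : F) ≠ 0) (hQ : Nondeg Q) {u v : V} (hu : SPair Q u v)
    (hv : Q v = 0) : rho hu ∈ commutatorSet (orth Q) := by
  by_cases hli : LinearIndependent F ![u, v]
  · have hli' : LinearIndependent F ![u, -v] := by
      rw [LinearIndependent.pair_iff] at hli ⊢
      intro s t h
      rw [smul_neg, ← neg_smul] at h
      obtain ⟨h1, h3⟩ := hli s (-t) h
      exact ⟨h1, neg_eq_zero.1 h3⟩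
    obtain ⟨a, ha, hav⟩ := witt_orth hQ _ _ hli hli'
      (fun i => by fin_cases i <;> simp)
      (fun i j => by fin_cases i <;> fin_cases j <;>
        simp [polar_neg_right, polar_neg_left, polar_self', hu.sing, hv, hu.perp, hu.perp'])
    let g : orth Q := ⟨a, ha⟩
    have hs : SPair Q u ((-(1 / 2) : F) • v) := hu.smul _
    have hmap : SPair Q u ((1 / 2 : F) • v) := hu.smul _
    refine mem_commutatorSet_iff.2 ⟨g, rho hs, ?_⟩
    have e : g * rho hs * g⁻¹ = rho hmap := by
      rw [rho_conj]
      refine rho_congr _ _ (by simpa using hav 0) ?_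
      show a _ = _
      have := hav 1
      simp only [Matrix.cons_val_one, Matrix.cons_val_fin_one] at this
      rw [map_smul, this, smul_neg, neg_smul, neg_neg]
    rw [commutatorElement_def, e, rho_inv hs, rho_mul]
    refine rho_congr _ _ rfl ?_
    rw [neg_smul, neg_neg, ← add_smul, show (1 / 2 : F) + 1 / 2 = 1 by field_simp; norm_num, one_smul]
  · have : rho hu = 1 := by
      rw [LinearIndependent.pair_iff] at hli
      push Not at hli
      obtain ⟨s, t, hst, hne⟩ := hli
      refine orth_ext fun x => ?_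
      rw [rho_apply, hv, zero_mul, add_zero]
      show _ = x
      by_cases ht : t = 0
      · have hu0 : u = 0 := by
          rw [ht, zero_smul, add_zero] at hst
          exact (smul_eq_zero.1 hst).resolve_left fun e => hne e ht
        simp [hu0]
      · have hvu : v = (-(s / t)) • u := by
          have : v + (s / t) • u = 0 := by
            have := congrArg (fun z => t⁻¹ • z) hst
            simp only [smul_add, smul_smul, smul_zero, inv_mul_cancel₀ ht, one_smul] at this
            rw [div_eq_inv_mul, add_comm]; exact this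
          rw [neg_smul]; exact eq_neg_of_add_eq_zero_left this
        rw [hvu, polar_smul_left, smul_smul, smul_eq_mul]
        module
    exact mem_commutatorSet_iff.2 ⟨1, 1, by rw [this, commutatorElement_one_right]⟩

/-- A subgroup containing the Siegel transformations of singular pairs contains all of them. -/
theorem EG_le_of_singular [Finite F] (hQ : Nondeg Q) (h3 : 5 ≤ finrank F V) {H : Subgroup (orth Q)}
    (hH : ∀ (e u : V) (hu : SPair Q e u), Q u = 0 → rho hu ∈ H) : EG Q ≤ H := by
  refine EG_le fun e u hu => ?_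
  by_cases he : e = 0
  · subst he
    have : rho hu = 1 := orth_ext fun x => by rw [rho_apply]; simp
    rw [this]; exact H.one_mem
  obtain ⟨f, hp⟩ := exists_hypPair hQ he hu.sing
  set C := core Q e f
  -- the vectors whose multiples all give elements of `H`
  let T : Submodule F V :=
    { carrier := {w | polar Q e w = 0 ∧ ∀ (t : F) (hw : SPair Q e (t • w)), rho hw ∈ H}
      add_mem' := by
        rintro a b ⟨ha, ha'⟩ ⟨hb, hb'⟩
        refine ⟨by rw [polar_add_right, ha, hb, add_zero], fun t hw => ?_⟩
        have h1 : SPair Q e (t • a) := ⟨hu.sing, by rw [polar_smul_right, ha, smul_zero]⟩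
        have h2' : SPair Q e (t • b) := ⟨hu.sing, by rw [polar_smul_right, hb, smul_zero]⟩
        rw [rho_congr hw (h1.add h2') rfl (smul_add t a b), ← rho_mul h1 h2']
        exact H.mul_mem (ha' t h1) (hb' t h2')
      zero_mem' := by
        refine ⟨polar_zero_right (Q := Q) e, fun t hw => ?_⟩
        rw [rho_congr hw (SPair.zero hu.sing) rfl (smul_zero t), rho_zero]
        exact H.one_mem
      smul_mem' := by
        rintro c a ⟨ha, ha'⟩
        refine ⟨by rw [polar_smul_right, ha, smul_zero], fun t hw => ?_⟩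
        have h1 : SPair Q e ((t * c) • a) := ⟨hu.sing, by rw [polar_smul_right, ha, smul_zero]⟩
        rw [rho_congr hw h1 rfl (smul_smul t c a)]
        exact ha' _ h1 }
  have hsing : ∀ w, polar Q e w = 0 → Q w = 0 → w ∈ T := fun w hw hQw =>
    ⟨hw, fun t h => hH _ _ h (by rw [Q_smul, hQw, mul_zero])⟩
  have heT : e ∈ T := hsing e hp.pol_ee hu.sing
  have hC : ∀ r ∈ C, r ∈ T := by
    have hN := hp.nondeg_core hQ
    obtain ⟨e', f', hp'⟩ := OrthOmega.exists_hyp hN (by have := hp.finrank_core; omega)
    have he' : (e' : V) ∈ T := hsing _ e'.2.1 hp'.left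
    have hf' : (f' : V) ∈ T := hsing _ f'.2.1 hp'.right
    intro r hr
    let r' : C := ⟨r, hr⟩
    set a := polar (res Q C) f' r'
    set b := polar (res Q C) e' r'
    set r₀ : C := r' - a • e' - b • f' with hr₀
    have hr₀c := hp'.proj_mem r'
    have hs : (r₀ : V) + (e' : V) - Q (r₀ : V) • (f' : V) ∈ T := by
      refine hsing _ ?_ ?_
      · rw [polar_sub_right, polar_add_right, polar_smul_right, (mem_core.1 r₀.2).1, (mem_core.1 e'.2).1,
          (mem_core.1 f'.2).1]; simp
      · have h1 : polar Q (r₀ : V) (e' : V) = 0 := (polar_comm Q _ _).trans hr₀c.1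
        have h2' : polar Q (r₀ : V) (f' : V) = 0 := (polar_comm Q _ _).trans hr₀c.2
        rw [sub_eq_add_neg, ← neg_smul, Q_add, Q_add, Q_smul, polar_add_left, polar_smul_right,
          polar_smul_right, h1, h2', show Q (e' : V) = 0 from hp'.left,
          show Q (f' : V) = 0 from hp'.right,
          show polar Q (e' : V) (f' : V) = 1 from hp'.pol]
        simp only [smul_eq_mul]; ring
    have hr₀T : (r₀ : V) ∈ T := by
      have := T.add_mem (T.sub_mem hs he') (T.smul_mem (Q (r₀ : V)) hf')
      convert this using 1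
      abel
    have := T.add_mem (T.add_mem hr₀T (T.smul_mem a he')) (T.smul_mem b hf')
    convert this using 1
    simp only [hr₀, Submodule.coe_sub, SetLike.val_smul]
    abel
  have huT : u ∈ T := by
    have hmem := hp.proj_mem u
    rw [hu.perp, zero_smul, sub_zero] at hmem
    have := T.add_mem (hC _ hmem) (T.smul_mem (polar Q f u) heT)
    rwa [sub_add_cancel] at this
  have h1 : SPair Q e ((1 : F) • u) := hu.smul 1
  rw [rho_congr hu h1 rfl (one_smul F u).symm]
  exact huT.2 1 h1

end abstr

variable {F : Type*} [Field F] {ι : Type} [Fintype ι] [DecidableEq ι] (Q : QuadraticForm F (ι → F))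

theorem siegelMatrix_mulVec {u v : ι → F} (hv : Q v = 0) (c : F) (x : ι → F) :
    Matrix.mulVec (Cfsg.siegelMatrix (⇑Q) u v c) x = rhoMap Q u (c • v) x := by
  rw [Cfsg.siegelMatrix, Matrix.add_mulVec, Matrix.one_mulVec, Matrix.smul_mulVec, Matrix.sub_mulVec,
    Matrix.vecMulVec_mulVec, Matrix.vecMulVec_mulVec, polarVec_dotProduct, polarVec_dotProduct,
    rhoMap_apply, Q_smul, hv, polar_smul_left, op_smul_eq_smul, op_smul_eq_smul, smul_eq_mul]
  module

variable {Q}

theorem coe_eq_siegel_iff {u v : ι → F} (hv : Q v = 0) (c : F)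
    (hs : SPair Q u (c • v)) (g : Cfsg.isometryGroup F (⇑Q)) :
    ((g : Matrix.GeneralLinearGroup ι F) : Matrix ι ι F) = Cfsg.siegelMatrix (⇑Q) u v c ↔
      toOrth Q g = rho hs := by
  constructor
  · intro h
    refine orth_ext fun x => ?_
    rw [isoOrth_apply, h, siegelMatrix_mulVec Q hv]
    rfl
  · intro h
    apply Matrix.ext_of_mulVec_single
    intro j
    rw [siegelMatrix_mulVec Q hv, ← isoOrth_apply Q (fun _ => rfl) g, h]
    rfl

theorem mem_commutatorSet_equiv {G H : Type*} [Group G] [Group H] (e : G ≃* H) {g : G}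
    (h : e g ∈ commutatorSet H) : g ∈ commutatorSet G := by
  obtain ⟨a, b, hab⟩ := mem_commutatorSet_iff.1 h
  refine mem_commutatorSet_iff.2 ⟨e.symm a, e.symm b, ?_⟩
  apply e.injective
  rw [map_commutatorElement, e.apply_symm_apply, e.apply_symm_apply, hab]

theorem siegel_mem (h2 : (2 : F) ≠ 0) (hQ : Nondeg Q) {u v : ι → F} (hu : Q u = 0) (hv : Q v = 0)
    (huv : polar (⇑Q) u v = 0) (c : F) (g : Cfsg.isometryGroup F (⇑Q))
    (hg : ((g : Matrix.GeneralLinearGroup ι F) : Matrix ι ι F) = Cfsg.siegelMatrix (⇑Q) u v c) :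
    g ∈ commutatorSet (Cfsg.isometryGroup F (⇑Q)) ∧ g ∈ Cfsg.Omega F (⇑Q) := by
  have hs : SPair Q u (c • v) := ⟨hu, by rw [polar_smul_right, huv, smul_zero]⟩
  have h : g ∈ commutatorSet (Cfsg.isometryGroup F (⇑Q)) := by
    refine mem_commutatorSet_equiv (toOrth Q) ?_
    rw [(coe_eq_siegel_iff hv c hs g).1 hg]
    exact rho_mem_commutatorSet h2 hQ hs (by rw [Q_smul, hv, mul_zero])
  refine ⟨h, ?_⟩
  show g ∈ commutator _
  rw [commutator_eq_closure]
  exact Subgroup.subset_closure h

theorem Omega_eq_closure_siegel [Finite F] (h2 : (2 : F) ≠ 0) (hQ : Nondeg Q)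
    (h5 : 5 ≤ finrank F (ι → F)) :
    Cfsg.Omega F (⇑Q) = Subgroup.closure {g : Cfsg.isometryGroup F (⇑Q) | ∃ (u v : ι → F) (c : F),
      Q u = 0 ∧ Q v = 0 ∧ polar (⇑Q) u v = 0 ∧
      ((g : Matrix.GeneralLinearGroup ι F) : Matrix ι ι F) = Cfsg.siegelMatrix (⇑Q) u v c} := by
  refine le_antisymm ?_ ((Subgroup.closure_le _).2 ?_)
  · intro g hg
    have h1 : toOrth Q g ∈ EG Q := by
      rw [← commutator_eq_EG hQ h5]
      exact (mem_commutator_equiv (toOrth Q) g).1 hg
    have h3 : EG Q ≤ (Subgroup.closure {g : Cfsg.isometryGroup F (⇑Q) | ∃ (u v : ι → F) (c : F),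
        Q u = 0 ∧ Q v = 0 ∧ polar (⇑Q) u v = 0 ∧
        ((g : Matrix.GeneralLinearGroup ι F) : Matrix ι ι F) = Cfsg.siegelMatrix (⇑Q) u v c}).comap
          (toOrth Q).symm.toMonoidHom := by
      refine EG_le_of_singular hQ h5 fun e u hu hu0 => Subgroup.subset_closure ⟨e, u, 1, hu.sing, hu0,
        hu.perp, ?_⟩
      refine (coe_eq_siegel_iff hu0 1 (hu.smul 1) _).2 ?_
      show toOrth Q ((toOrth Q).symm (rho hu)) = _
      rw [MulEquiv.apply_symm_apply]
      exact rho_congr _ _ rfl (one_smul F u).symm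
    have h4 := h3 h1
    rw [Subgroup.mem_comap, MulEquiv.coe_toMonoidHom, MulEquiv.symm_apply_apply] at h4
    exact h4
  · rintro g ⟨u, v, c, hu, hv, huv, hg⟩
    exact (siegel_mem h2 hQ hu hv huv c g hg).2

end Cfsg.Agent.Lib.Forms.SiegelOmega
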