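/-
Stabilisers of subspaces in the isometry group of an alternating form: non-degenerate subspaces
(product decomposition) and totally isotropic subspaces (orbit counting on bases).
-/
import Cfsg.Agent.Lib.Forms.Witt
import Cfsg.Agent.Lib.Symplectic.Std

set_option autoImplicit false

namespace Cfsg.Agent.Lib.Forms.SpStab

open Module Cfsg.Agent.Lib.Symplectic

variable {F V : Type*} [Field F] [AddCommGroup V] [Module F V] {B : V →ₗ[F] V →ₗ[F] F}

theorem smul_add' (g : Isom B) (x y : V) : g • (x + y) = g • x + g • y :=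
  map_add (g : V ≃ₗ[F] V) x y

/-- The isometries mapping `W` onto itself. -/
def setStab (B : V →ₗ[F] V →ₗ[F] F) (W : Submodule F V) : Subgroup (Isom B) where
  carrier := {g | ∀ v, v ∈ W ↔ g • v ∈ W}
  mul_mem' {a b} ha hb v := by rw [mul_smul]; exact (hb v).trans (ha _)
  one_mem' v := by rw [one_smul]
  inv_mem' {a} ha v := by
    have := (ha (a⁻¹ • v)).symm
    rwa [smul_inv_smul] at this

theorem mem_setStab {W : Submodule F V} {g : Isom B} :
    g ∈ setStab B W ↔ ∀ v, v ∈ W ↔ g • v ∈ W := Iff.rfl

theorem mem_setStab_of_map [FiniteDimensional F V] {W : Submodule F V} {g : Isom B}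
    (h : ∀ v ∈ W, g • v ∈ W) : g ∈ setStab B W := by
  intro v
  refine ⟨h v, fun hv => ?_⟩
  obtain ⟨w, hw⟩ := (LinearMap.injective_iff_surjective.1
    (show Function.Injective ((g : V ≃ₗ[F] V).toLinearMap.restrict h) from fun a b e =>
      Subtype.ext ((g : V ≃ₗ[F] V).injective (congrArg Subtype.val e)))) ⟨_, hv⟩
  have : (w : V) = v := (g : V ≃ₗ[F] V).injective (congrArg Subtype.val hw)
  rw [← this]; exact w.2

theorem orth_mem_of_stab (W : Submodule F V) {g : Isom B} (hg : g ∈ setStab B W) {x : V}
    (hx : x ∈ LinearMap.BilinForm.orthogonal B W) :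
    g • x ∈ LinearMap.BilinForm.orthogonal B W := by
  intro w hw
  show B w (g • x) = 0
  rw [← smul_inv_smul g w, isom_apply_smul]
  exact hx _ ((mem_setStab.1 ((setStab B W).inv_mem hg) w).1 hw)

theorem orth_iff_of_stab (W : Submodule F V) {g : Isom B} (hg : g ∈ setStab B W) (x : V) :
    x ∈ LinearMap.BilinForm.orthogonal B W ↔ g • x ∈ LinearMap.BilinForm.orthogonal B W := by
  refine ⟨orth_mem_of_stab W hg, fun h => ?_⟩
  have := orth_mem_of_stab W ((setStab B W).inv_mem hg) h
  rwa [inv_smul_smul] at this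

/-- Restriction of a stabilising isometry to an invariant subspace. -/
def restrIsom (U : Submodule F V) (g : Isom B) (h : ∀ v, v ∈ U ↔ g • v ∈ U) : Isom (restr B U) :=
  ⟨LinearEquiv.ofLinearMap
    ((g : V ≃ₗ[F] V).toLinearMap.restrict (fun v hv => (h v).1 hv))
    ((((g⁻¹ : Isom B) : V ≃ₗ[F] V)).toLinearMap.restrict
      (fun v hv => (h _).2 (show g • (g⁻¹ • v) ∈ U by rw [smul_inv_smul]; exact hv)))
    (LinearMap.ext fun x => Subtype.ext (smul_inv_smul g (x : V)))
    (LinearMap.ext fun x => Subtype.ext (inv_smul_smul g (x : V))),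
    fun x y => g.2 (x : V) y⟩

theorem restrIsom_smul (U : Submodule F V) (g : Isom B) (h : ∀ v, v ∈ U ↔ g • v ∈ U) (x : U) :
    ((restrIsom U g h • x : U) : V) = g • (x : V) := rfl

theorem apply_decomp (hB : IsSympForm B) {W : Submodule F V} (a a' : W)
    (b b' : LinearMap.BilinForm.orthogonal B W) :
    B ((a : V) + b) ((a' : V) + b') = restr B W a a' +
      restr B (LinearMap.BilinForm.orthogonal B W) b b' := by
  have h1 : B (a : V) (b' : V) = 0 := b'.2 _ a.2
  have h2 : B (b : V) (a' : V) = 0 := by rw [hB.swap, (b.2 _ a'.2 : B (a' : V) (b : V) = 0), neg_zero]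
  simp only [map_add, LinearMap.add_apply, restr_apply, h1, h2]
  ring

theorem restr_isSympForm (hB : IsSympForm B) {W : Submodule F V}
    (hW : ∀ u ∈ W, (∀ v ∈ W, B u v = 0) → u = 0) : IsSympForm (restr B W) where
  self x := hB.self _
  nondeg x hx := Subtype.ext (hW _ x.2 fun v hv => hx ⟨v, hv⟩)

theorem isCompl_orth [FiniteDimensional F V] (hB : IsSympForm B) {W : Submodule F V}
    (hW : ∀ u ∈ W, (∀ v ∈ W, B u v = 0) → u = 0) :
    IsCompl W (LinearMap.BilinForm.orthogonal B W) := by
  have hrefl : LinearMap.BilinForm.IsRefl B := fun x y h => hB.comm_eq_zero.1 h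
  refine LinearMap.BilinForm.isCompl_orthogonal_of_restrict_nondegenerate hrefl ⟨?_, ?_⟩
  · intro x hx; exact Subtype.ext (hW _ x.2 fun v hv => hx ⟨v, hv⟩)
  · intro y hy
    exact Subtype.ext (hW _ y.2 fun v hv => hB.comm_eq_zero.1 (hy ⟨v, hv⟩))

theorem orth_nondeg [FiniteDimensional F V] (hB : IsSympForm B) {W : Submodule F V}
    (hW : ∀ u ∈ W, (∀ v ∈ W, B u v = 0) → u = 0) :
    ∀ u ∈ LinearMap.BilinForm.orthogonal B W,
      (∀ v ∈ LinearMap.BilinForm.orthogonal B W, B u v = 0) → u = 0 := by
  intro u hu h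
  refine hB.nondeg u fun v => ?_
  obtain ⟨a, ha, b, hb, rfl⟩ := Submodule.mem_sup.1
    (show v ∈ W ⊔ LinearMap.BilinForm.orthogonal B W by
      rw [(isCompl_orth hB hW).sup_eq_top]; trivial)
  rw [map_add, hB.comm_eq_zero.1 (hu a ha : B a u = 0), h b hb, add_zero]

/-- The stabiliser of a non-degenerate subspace is the product of the two isometry groups. -/
theorem nonempty_setStab_prod [FiniteDimensional F V] (hB : IsSympForm B) {W : Submodule F V}
    (hW : ∀ u ∈ W, (∀ v ∈ W, B u v = 0) → u = 0) :
    Nonempty (setStab B W ≃* Isom (restr B W) ×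
      Isom (restr B (LinearMap.BilinForm.orthogonal B W))) := by
  have hc := isCompl_orth hB hW
  let ψ : setStab B W →* Isom (restr B W) × Isom (restr B (LinearMap.BilinForm.orthogonal B W)) :=
    MonoidHom.mk' (fun g => (restrIsom W g.1 (mem_setStab.1 g.2),
      restrIsom _ g.1 (orth_iff_of_stab W g.2))) (fun a b => Prod.ext
        (isom_ext fun x => Subtype.ext (by
          rw [restrIsom_smul, Subgroup.coe_mul, mul_smul]; rfl))
        (isom_ext fun x => Subtype.ext (by
          rw [restrIsom_smul, Subgroup.coe_mul, mul_smul]; rfl)))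
  have hdec : ∀ v : V, ∃ a : W, ∃ b : LinearMap.BilinForm.orthogonal B W, (a : V) + b = v := by
    intro v
    obtain ⟨a, ha, b, hb, h⟩ := Submodule.mem_sup.1
      (show v ∈ W ⊔ LinearMap.BilinForm.orthogonal B W by rw [hc.sup_eq_top]; trivial)
    exact ⟨⟨a, ha⟩, ⟨b, hb⟩, h⟩
  refine ⟨MulEquiv.ofBijective ψ ⟨?_, ?_⟩⟩
  · intro g g' h
    refine Subtype.ext (isom_ext fun v => ?_)
    obtain ⟨a, b, rfl⟩ := hdec v
    rw [smul_add', smul_add']
    have h1 := congrArg (fun p => ((p.1 • a : W) : V)) h
    have h2 := congrArg (fun p => ((p.2 • b : LinearMap.BilinForm.orthogonal B W) : V)) h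
    simp only [ψ, MonoidHom.mk'_apply, restrIsom_smul] at h1 h2
    rw [h1, h2]
  · rintro ⟨g1, g2⟩
    let e := Submodule.prodEquivOfIsCompl W _ hc
    let G : V ≃ₗ[F] V := e.symm.trans (((g1 : W ≃ₗ[F] W).prodCongr
      (g2 : LinearMap.BilinForm.orthogonal B W ≃ₗ[F] LinearMap.BilinForm.orthogonal B W)).trans e)
    have hG : ∀ (a : W) (b : LinearMap.BilinForm.orthogonal B W),
        G ((a : V) + b) = ((g1 • a : W) : V) + ((g2 • b : LinearMap.BilinForm.orthogonal B W) : V) := by
      intro a b
      have : (a : V) + b = e (a, b) := by simp [e]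
      rw [this]
      simp [G, e, isom_smul_def]
    have hGB : G ∈ Isom B := by
      intro x y
      obtain ⟨a, b, rfl⟩ := hdec x
      obtain ⟨a', b', rfl⟩ := hdec y
      rw [hG, hG, apply_decomp hB, apply_decomp hB, isom_apply_smul, isom_apply_smul]
    have hmap : ∀ v ∈ W, (⟨G, hGB⟩ : Isom B) • v ∈ W := by
      intro v hv
      have := hG ⟨v, hv⟩ 0
      simp only [ZeroMemClass.coe_zero, add_zero] at this
      show G v ∈ W
      rw [this]
      have h0 : g2 • (0 : LinearMap.BilinForm.orthogonal B W) = 0 := smul_zero g2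
      rw [h0, ZeroMemClass.coe_zero, add_zero]
      exact (g1 • (⟨v, hv⟩ : W)).2
    refine ⟨⟨⟨G, hGB⟩, mem_setStab_of_map hmap⟩, Prod.ext (isom_ext fun a => Subtype.ext ?_)
      (isom_ext fun b => Subtype.ext ?_)⟩
    · have := hG a 0
      simp only [ZeroMemClass.coe_zero, add_zero] at this
      refine this.trans ?_
      have h0 : g2 • (0 : LinearMap.BilinForm.orthogonal B W) = 0 := smul_zero g2
      rw [h0, ZeroMemClass.coe_zero, add_zero]
    · have := hG 0 b
      simp only [ZeroMemClass.coe_zero, zero_add] at this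
      refine this.trans ?_
      have h0 : g1 • (0 : W) = 0 := smul_zero g1
      rw [h0, ZeroMemClass.coe_zero, zero_add]

/-- The matrix stabiliser as a stabiliser inside the isometry group. -/
def stdStabEquiv {F : Type*} [Field F] (m : ℕ) (W : Submodule F (Fin m ⊕ Fin m → F)) :
    Cfsg.stabilizing (Cfsg.spToMat m F) (W : Set (Fin m ⊕ Fin m → F)) ≃* setStab (stdForm m F) W where
  toFun A := ⟨spEquiv m F A.1, A.2⟩
  invFun g := ⟨(spEquiv m F).symm g.1, fun v => by
    show v ∈ W ↔ ((spEquiv m F).symm g.1 : Matrix (Fin m ⊕ Fin m) (Fin m ⊕ Fin m) F).mulVec v ∈ W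
    rw [spEquiv_symm_mulVec]; exact g.2 v⟩
  left_inv A := Subtype.ext ((spEquiv m F).symm_apply_apply _)
  right_inv g := Subtype.ext ((spEquiv m F).apply_symm_apply _)
  map_mul' A A' := Subtype.ext (map_mul (spEquiv m F) A.1 A'.1)

section counting

/-- Linearly independent pairwise orthogonal tuples. -/
def isoTuples (B : V →ₗ[F] V →ₗ[F] F) (k : ℕ) : Set (Fin k → V) :=
  {v | LinearIndependent F v ∧ ∀ i j, B (v i) (v j) = 0}

theorem card_isoTuples [Finite F] [FiniteDimensional F V] (hB : IsSympForm B) {q : ℕ}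
    (hq : Nat.card F = q) (k : ℕ) :
    Nat.card (isoTuples B k) = ∏ i ∈ Finset.range k, (q ^ (finrank F V - i) - q ^ i) := by
  have : Finite V := Module.finite_of_finite F
  have hrefl : LinearMap.BilinForm.IsRefl B := fun x y h => hB.comm_eq_zero.1 h
  have hnd : LinearMap.BilinForm.Nondegenerate B :=
    ⟨fun x hx => hB.nondeg x hx, fun y hy => hB.nondeg y fun x => hB.comm_eq_zero.1 (hy x)⟩
  induction k with
  | zero =>
    rw [Finset.prod_range_zero, Nat.card_eq_one_iff_unique]
    exact ⟨⟨fun a b => Subtype.ext (Subsingleton.elim _ _)⟩,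
      ⟨⟨fun i => i.elim0, linearIndependent_empty_type, fun i => i.elim0⟩⟩⟩
  | succ k ih =>
    classical
    let U : (Fin k → V) → Submodule F V := fun u =>
      LinearMap.BilinForm.orthogonal B (Submodule.span F (Set.range u))
    let e : isoTuples B (k + 1) ≃ Σ u : isoTuples B k,
        ((U u.1 : Set V) \ (Submodule.span F (Set.range u.1) : Set V) : Set V) :=
      { toFun := fun v => ⟨⟨Fin.init v.1, (linearIndependent_finSucc'.1 v.2.1).1,
            fun i j => v.2.2 _ _⟩, v.1 (Fin.last k), by
          intro w hw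
          refine Submodule.span_induction ?_ ?_ (fun a b _ _ ha hb => ?_) (fun c a _ ha => ?_) hw
          · rintro _ ⟨i, rfl⟩; exact v.2.2 _ _
          · simp
          · simp only [map_add, LinearMap.add_apply] at ha hb ⊢
            rw [ha, hb, add_zero]
          · simp only [map_smul, LinearMap.smul_apply] at ha ⊢
            rw [ha, smul_zero],
          (linearIndependent_finSucc'.1 v.2.1).2⟩
        invFun := fun s => ⟨Fin.snoc s.1.1 s.2.1,
          linearIndependent_finSnoc.2 ⟨s.1.2.1, s.2.2.2⟩, fun i j => by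
            have hx : ∀ l, B (s.1.1 l) s.2.1 = 0 := fun l =>
              s.2.2.1 _ (Submodule.subset_span ⟨l, rfl⟩)
            induction i using Fin.lastCases <;> induction j using Fin.lastCases <;>
              simp only [Fin.snoc_last, Fin.snoc_castSucc]
            · exact hB.self _
            · exact hB.comm_eq_zero.1 (hx _)
            · exact hx _
            · exact s.1.2.2 _ _⟩
        left_inv := fun v => Subtype.ext (Fin.snoc_init_self _)
        right_inv := fun s => by
          refine Sigma.subtype_ext (Subtype.ext ?_) ?_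
          · exact Fin.init_snoc (α := fun _ => V) s.2.1 s.1.1
          · exact Fin.snoc_last (α := fun _ => V) s.2.1 s.1.1 }
    have hfib : ∀ u : isoTuples B k, Nat.card ((U u.1 : Set V) \
        (Submodule.span F (Set.range u.1) : Set V) : Set V) = q ^ (finrank F V - k) - q ^ k := by
      intro u
      have hsub : (Submodule.span F (Set.range u.1) : Set V) ⊆ U u.1 := by
        intro x hx w hw
        refine Submodule.span_induction ?_ ?_ (fun a b _ _ ha hb => ?_) (fun c a _ ha => ?_) hw
        · rintro _ ⟨i, rfl⟩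
          refine Submodule.span_induction ?_ ?_ (fun a b _ _ ha hb => ?_) (fun c a _ ha => ?_) hx
          · rintro _ ⟨j, rfl⟩; exact u.2.2 i j
          · simp
          · simp only [map_add] at ha hb ⊢
            rw [ha, hb, add_zero]
          · simp only [map_smul] at ha ⊢
            rw [ha, smul_zero]
        · simp
        · simp only [map_add, LinearMap.add_apply] at ha hb ⊢
          rw [ha, hb, add_zero]
        · simp only [map_smul, LinearMap.smul_apply] at ha ⊢
          rw [ha, smul_zero]
      rw [Nat.card_coe_set_eq, Set.ncard_sdiff hsub, ← Nat.card_coe_set_eq, ← Nat.card_coe_set_eq,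
        SetLike.coe_sort_coe, SetLike.coe_sort_coe, Module.natCard_eq_pow_finrank (K := F) (V := U u.1),
        Module.natCard_eq_pow_finrank (K := F) (V := Submodule.span F (Set.range u.1)), hq,
        LinearMap.BilinForm.finrank_orthogonal hnd, finrank_span_eq_card u.2.1,
        Fintype.card_fin]
    have : Fintype (isoTuples B k) := Fintype.ofFinite _
    rw [Nat.card_congr e, Nat.card_sigma, Finset.sum_congr rfl fun u _ => hfib u, Finset.sum_const,
      smul_eq_mul, Finset.card_univ, ← Nat.card_eq_fintype_card, ih, Finset.prod_range_succ]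

theorem orbit_eq [FiniteDimensional F V] (hB : IsSympForm B) {k : ℕ} {b : Fin k → V}
    (hb : b ∈ isoTuples B k) : MulAction.orbit (Isom B) b = isoTuples B k := by
  ext v
  constructor
  · rintro ⟨g, rfl⟩
    refine ⟨?_, fun i j => ?_⟩
    · exact hb.1.map' (g : V ≃ₗ[F] V).toLinearMap (g : V ≃ₗ[F] V).ker
    · show B (g • b i) (g • b j) = 0
      rw [isom_apply_smul]; exact hb.2 i j
  · intro hv
    obtain ⟨g, hg, hgb⟩ := (ofAlt B
      ⟨fun x hx => hB.nondeg x hx, fun y hy => hB.nondeg y fun x => hB.comm_eq_zero.1 (hy x)⟩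
      hB.self).witt_family b v hb.1 hv.1
      (fun i j => (hb.2 i j).trans (hv.2 i j).symm) (fun _ => rfl)
    exact ⟨⟨g, hg.1⟩, funext hgb⟩

/-- Orbit counting: `|Stab W| · #(isotropic tuples) = |Isom B| · #(bases of W)`. -/
theorem card_setStab_mul [Finite F] [FiniteDimensional F V] (hB : IsSympForm B)
    {W : Submodule F V} {k : ℕ} (hk : finrank F W = k) (hW : ∀ u ∈ W, ∀ v ∈ W, B u v = 0) :
    Nat.card (setStab B W) * Nat.card (isoTuples B k) =
      Nat.card (Isom B) * Nat.card {s : Fin k → W // LinearIndependent F s} := by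
  have : Finite V := Module.finite_of_finite F
  obtain ⟨bW⟩ : Nonempty (Basis (Fin k) F W) := ⟨Module.finBasisOfFinrankEq F W hk⟩
  let b : Fin k → V := fun i => (bW i : V)
  have hbli : LinearIndependent F b := bW.linearIndependent.map' W.subtype W.ker_subtype
  have hb : b ∈ isoTuples B k := ⟨hbli, fun i j => hW _ (bW i).2 _ (bW j).2⟩
  have hspan : ∀ x ∈ W, x ∈ Submodule.span F (Set.range b) := by
    intro x hx
    have h1 : (⟨x, hx⟩ : W) ∈ Submodule.span F (Set.range bW) := by
      rw [bW.span_eq]; trivial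
    have h2 := Submodule.mem_map_of_mem (f := W.subtype) h1
    rw [Submodule.map_span, ← Set.range_comp] at h2
    exact h2
  have hstab : ∀ g : Isom B, (∀ i, g • b i ∈ W) → g ∈ setStab B W := fun g hg =>
    mem_setStab_of_map fun x hx => by
      refine Submodule.span_induction ?_ ?_ (fun a c _ _ ha hc => ?_) (fun c a _ ha => ?_) (hspan x hx)
      · rintro _ ⟨i, rfl⟩; exact hg i
      · rw [show g • (0 : V) = 0 from map_zero (g : V ≃ₗ[F] V)]; exact W.zero_mem
      · rw [smul_add']; exact W.add_mem ha hc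
      · rw [show g • (c • a) = c • (g • a) from map_smul (g : V ≃ₗ[F] V) c a]
        exact W.smul_mem c ha
  have h1 : MulAction.orbit (setStab B W) b = {v | LinearIndependent F v ∧ ∀ i, v i ∈ W} := by
    ext v
    constructor
    · rintro ⟨g, rfl⟩
      exact ⟨hbli.map' ((g : Isom B) : V ≃ₗ[F] V).toLinearMap ((g : Isom B) : V ≃ₗ[F] V).ker,
        fun i => (g.2 (b i)).1 (bW i).2⟩
    · rintro ⟨hv, hvW⟩
      obtain ⟨g, hg⟩ : v ∈ MulAction.orbit (Isom B) b := by
        rw [orbit_eq hB hb]
        exact ⟨hv, fun i j => hW _ (hvW i) _ (hvW j)⟩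
      exact ⟨⟨g, hstab g fun i => by rw [show g • b i = v i from congrFun hg i]; exact hvW i⟩, hg⟩
  let e : ({v | LinearIndependent F v ∧ ∀ i, v i ∈ W} : Set (Fin k → V)) ≃
      {s : Fin k → W // LinearIndependent F s} :=
    { toFun := fun v => ⟨fun i => ⟨v.1 i, v.2.2 i⟩, LinearIndependent.of_comp W.subtype v.2.1⟩
      invFun := fun s => ⟨fun i => (s.1 i : V), s.2.map' W.subtype W.ker_subtype, fun i => (s.1 i).2⟩
      left_inv := fun v => rfl
      right_inv := fun s => rfl }
  let f : MulAction.stabilizer (setStab B W) b ≃ MulAction.stabilizer (Isom B) b :=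
    { toFun := fun g => ⟨g.1.1, g.2⟩
      invFun := fun g => ⟨⟨g.1, hstab g.1 fun i => by
        rw [show g.1 • b i = b i from congrFun g.2 i]; exact (bW i).2⟩, g.2⟩
      left_inv := fun g => rfl
      right_inv := fun g => rfl }
  have hG := Subgroup.index_mul_card (MulAction.stabilizer (Isom B) b)
  have hH := Subgroup.index_mul_card (MulAction.stabilizer (setStab B W) b)
  rw [MulAction.index_stabilizer, orbit_eq hB hb, ← Nat.card_coe_set_eq] at hG
  rw [MulAction.index_stabilizer, h1, ← Nat.card_coe_set_eq, Nat.card_congr e,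
    Nat.card_congr f] at hH
  rw [← hG, ← hH]
  ring

end counting

end Cfsg.Agent.Lib.Forms.SpStab
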