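/-
The diagonal torus of the symplectic matrix group and its normaliser: signed monomial matrices.
-/
import Cfsg.Agent.Lib.Forms.SpParabolic

set_option autoImplicit false

namespace Cfsg.Agent.Lib.Forms.SpTorus

open Matrix

variable {F : Type*} [Field F] {m : ℕ}

/-- Exchange `e_i` and `f_i` where `s i` holds. -/
def flipFun (s : Fin m → Bool) : Fin m ⊕ Fin m → Fin m ⊕ Fin m :=
  Sum.elim (fun i => if s i then Sum.inr i else Sum.inl i)
    (fun i => if s i then Sum.inl i else Sum.inr i)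

theorem flipFun_invol (s : Fin m → Bool) : Function.Involutive (flipFun s) := by
  rintro (i | i) <;> cases hs : s i <;> simp [flipFun, hs]

/-- A signed permutation as a permutation of the coordinates. -/
def sperm (σ : Equiv.Perm (Fin m)) (s : Fin m → Bool) : Equiv.Perm (Fin m ⊕ Fin m) :=
  ((flipFun_invol s).toPerm (flipFun s)).trans (Equiv.sumCongr σ σ)

theorem sperm_inl (σ : Equiv.Perm (Fin m)) (s : Fin m → Bool) (i : Fin m) :
    sperm σ s (Sum.inl i) = if s i then Sum.inr (σ i) else Sum.inl (σ i) := by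
  cases hs : s i <;> simp [sperm, flipFun, hs]

theorem sperm_inr (σ : Equiv.Perm (Fin m)) (s : Fin m → Bool) (i : Fin m) :
    sperm σ s (Sum.inr i) = if s i then Sum.inl (σ i) else Sum.inr (σ i) := by
  cases hs : s i <;> simp [sperm, flipFun, hs]

/-- The coefficients of a signed monomial symplectic matrix. -/
def coeff (s : Fin m → Bool) (c : Fin m → Fˣ) : Fin m ⊕ Fin m → F :=
  Sum.elim (fun i => (c i : F)) (fun i => if s i then -((c i : F))⁻¹ else ((c i : F))⁻¹)

theorem coeff_ne_zero (s : Fin m → Bool) (c : Fin m → Fˣ) (x : Fin m ⊕ Fin m) :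
    coeff s c x ≠ 0 := by
  rcases x with i | i
  · exact (c i).ne_zero
  · cases hs : s i <;> simp [coeff, hs]

/-- Monomial matrices. -/
def mono (e : Equiv.Perm (Fin m ⊕ Fin m)) (f : Fin m ⊕ Fin m → F) :
    Matrix (Fin m ⊕ Fin m) (Fin m ⊕ Fin m) F :=
  Matrix.of fun r j => if r = e j then f j else 0

theorem mono_apply (e : Equiv.Perm (Fin m ⊕ Fin m)) (f : Fin m ⊕ Fin m → F) (r j : Fin m ⊕ Fin m) :
    mono e f r j = if r = e j then f j else 0 := rfl

theorem mono_form (e : Equiv.Perm (Fin m ⊕ Fin m)) (f : Fin m ⊕ Fin m → F)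
    (J : Matrix (Fin m ⊕ Fin m) (Fin m ⊕ Fin m) F) (j k : Fin m ⊕ Fin m) :
    ((mono e f)ᵀ * J * mono e f) j k = f j * J (e j) (e k) * f k := by
  rw [Matrix.mul_apply, Finset.sum_eq_single (e k)]
  · rw [Matrix.mul_apply, Finset.sum_eq_single (e j)]
    · simp [mono]
    · intro r _ hr; simp [mono, hr]
    · simp
  · intro r _ hr; simp [mono, hr]
  · simp

theorem mono_mem (σ : Equiv.Perm (Fin m)) (s : Fin m → Bool) (c : Fin m → Fˣ) :
    mono (sperm σ s) (coeff s c) ∈ symplecticGroup (Fin m) F := by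
  rw [SymplecticGroup.mem_iff']
  ext j k
  rw [mono_form]
  rcases j with j | j <;> rcases k with k | k <;> by_cases hjk : j = k
  all_goals first
    | (subst hjk; cases hs : s j <;> simp [sperm_inl, sperm_inr, coeff, hs, Matrix.J])
    | (cases hs : s j <;> cases hs' : s k <;>
        simp [sperm_inl, sperm_inr, coeff, hs, hs', Matrix.J, hjk])

/-- The torus of diagonal matrices, as the common stabiliser of the coordinate axes. -/
def torus (m : ℕ) (F : Type*) [Field F] : Subgroup (symplecticGroup (Fin m) F) :=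
  ⨅ i : Fin m ⊕ Fin m, Cfsg.stabilizing (Cfsg.spToMat m F)
    ((Submodule.span F {(Pi.single i (1 : F) : Fin m ⊕ Fin m → F)} :
      Submodule F (Fin m ⊕ Fin m → F)) : Set (Fin m ⊕ Fin m → F))

theorem mem_torus_iff (t : symplecticGroup (Fin m) F) :
    t ∈ torus m F ↔ ∀ i j, i ≠ j → (t : Matrix (Fin m ⊕ Fin m) (Fin m ⊕ Fin m) F) i j = 0 := by
  rw [torus, Subgroup.mem_iInf]
  constructor
  · intro h i j hij
    obtain ⟨c, hc⟩ := Submodule.mem_span_singleton.1
      ((h j _).1 (Submodule.mem_span_singleton_self _))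
    have := congrFun hc i
    simp [hij] at this
    exact this.symm
  · intro h j
    refine SpParabolic.mem_stabilizing_of_map _ _ t fun v hv => ?_
    obtain ⟨c, rfl⟩ := Submodule.mem_span_singleton.1 hv
    rw [Matrix.mulVec_smul]
    refine Submodule.smul_mem _ _ (Submodule.mem_span_singleton.2
      ⟨(t : Matrix (Fin m ⊕ Fin m) (Fin m ⊕ Fin m) F) j j, ?_⟩)
    funext i
    by_cases hij : i = j
    · subst hij; simp
    · simpa [hij] using (h i j hij).symm

theorem eq_diagonal {t : symplecticGroup (Fin m) F} (ht : t ∈ torus m F) :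
    (t : Matrix (Fin m ⊕ Fin m) (Fin m ⊕ Fin m) F) =
      diagonal fun i => (t : Matrix (Fin m ⊕ Fin m) (Fin m ⊕ Fin m) F) i i := by
  ext i j
  by_cases hij : i = j
  · subst hij; simp
  · simp [(mem_torus_iff t).1 ht i j hij, hij]

theorem diag_mem (d : Fin m → Fˣ) :
    diagonal (Sum.elim (fun l => (d l : F)) (fun l => ((d l : F))⁻¹)) ∈
      symplecticGroup (Fin m) F := by
  rw [SymplecticGroup.mem_iff']
  ext r s
  rw [Matrix.diagonal_transpose, Matrix.mul_diagonal, Matrix.diagonal_mul]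
  rcases r with r | r <;> rcases s with s | s <;> by_cases hrs : r = s
  all_goals first
    | (subst hrs; simp [Matrix.J])
    | (simp [Matrix.J, hrs])

/-- The diagonal characters are pairwise distinct. -/
theorem exists_sep {a : F} (ha0 : a ≠ 0) (ha2 : a * a ≠ 1) {i j : Fin m ⊕ Fin m} (hij : i ≠ j) :
    ∃ t ∈ torus m F, (t : Matrix (Fin m ⊕ Fin m) (Fin m ⊕ Fin m) F) i i ≠
      (t : Matrix (Fin m ⊕ Fin m) (Fin m ⊕ Fin m) F) j j := by
  let k : Fin m := Sum.elim id id i
  let d : Fin m → Fˣ := Function.update 1 k (Units.mk0 a ha0)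
  refine ⟨⟨_, diag_mem d⟩, (mem_torus_iff _).2 fun r s h => diagonal_apply_ne _ h, ?_⟩
  have ha1 : a ≠ 1 := fun h => ha2 (by rw [h, mul_one])
  have hai : a ≠ a⁻¹ := fun h => ha2 (by
    conv_lhs => arg 2; rw [h]
    exact mul_inv_cancel₀ ha0)
  simp only [diagonal_apply_eq]
  rcases i with i | i <;> rcases j with j | j <;>
    simp only [Sum.elim_inl, Sum.elim_inr, d, k, id] <;> by_cases hji : j = i
  all_goals first
    | (subst hji; exact absurd rfl hij)
    | (subst hji; simpa using hai)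
    | (subst hji; simpa using hai.symm)
    | (simpa [Function.update_of_ne hji] using ha1)

theorem mono_mem_normalizer (σ : Equiv.Perm (Fin m)) (s : Fin m → Bool) (c : Fin m → Fˣ) :
    (⟨_, mono_mem σ s c⟩ : symplecticGroup (Fin m) F) ∈
      Subgroup.normalizer (torus m F : Set (symplecticGroup (Fin m) F)) := by
  set g : symplecticGroup (Fin m) F := ⟨_, mono_mem σ s c⟩ with hg
  set e := sperm σ s
  have key : ∀ d : Fin m ⊕ Fin m → F,
      (g : Matrix (Fin m ⊕ Fin m) (Fin m ⊕ Fin m) F) * diagonal d =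
        diagonal (fun r => d (e.symm r)) * (g : Matrix (Fin m ⊕ Fin m) (Fin m ⊕ Fin m) F) := by
    intro d; ext r j
    rw [Matrix.mul_diagonal, Matrix.diagonal_mul]
    show mono e (coeff s c) r j * d j = _ * mono e (coeff s c) r j
    rw [mono_apply]
    by_cases h : r = e j
    · subst h; rw [if_pos rfl, e.symm_apply_apply, mul_comm]
    · rw [if_neg h]; ring
  have hinv : (g : Matrix (Fin m ⊕ Fin m) (Fin m ⊕ Fin m) F) * (g⁻¹ : symplecticGroup (Fin m) F) = 1 := by
    rw [← Submonoid.coe_mul, mul_inv_cancel, Submonoid.coe_one]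
  have hinv' : ((g⁻¹ : symplecticGroup (Fin m) F) : Matrix (Fin m ⊕ Fin m) (Fin m ⊕ Fin m) F) * g = 1 := by
    rw [← Submonoid.coe_mul, inv_mul_cancel, Submonoid.coe_one]
  rw [Subgroup.mem_normalizer_iff]
  intro t
  constructor
  · intro ht
    apply (mem_torus_iff _).2
    intro r u hru
    rw [Submonoid.coe_mul, Submonoid.coe_mul, eq_diagonal ht, key, Matrix.mul_assoc, hinv,
      Matrix.mul_one]
    exact diagonal_apply_ne _ hru
  · intro ht
    apply (mem_torus_iff _).2
    intro r u hru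
    have h1 := key (fun j => ((g * t * g⁻¹ : symplecticGroup (Fin m) F) :
      Matrix (Fin m ⊕ Fin m) (Fin m ⊕ Fin m) F) (e j) (e j))
    simp only [Equiv.apply_symm_apply] at h1
    rw [← eq_diagonal ht, Submonoid.coe_mul, Submonoid.coe_mul] at h1
    simp only [Matrix.mul_assoc, hinv', Matrix.mul_one] at h1
    have h3 := congrArg (fun A => ((g⁻¹ : symplecticGroup (Fin m) F) :
      Matrix (Fin m ⊕ Fin m) (Fin m ⊕ Fin m) F) * A) h1
    simp only [← Matrix.mul_assoc, hinv', Matrix.one_mul] at h3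
    rw [← h3]
    exact diagonal_apply_ne _ hru

theorem exists_col {a : F} (ha0 : a ≠ 0) (ha2 : a * a ≠ 1) {g : symplecticGroup (Fin m) F}
    (hg : g ∈ Subgroup.normalizer (torus m F : Set (symplecticGroup (Fin m) F))) (j : Fin m ⊕ Fin m) :
    ∃ r, (g : Matrix (Fin m ⊕ Fin m) (Fin m ⊕ Fin m) F) r j ≠ 0 ∧
      ∀ r', (g : Matrix (Fin m ⊕ Fin m) (Fin m ⊕ Fin m) F) r' j ≠ 0 → r' = r := by
  rw [Subgroup.mem_normalizer_iff] at hg
  obtain ⟨r, hr⟩ : ∃ r, (g : Matrix (Fin m ⊕ Fin m) (Fin m ⊕ Fin m) F) r j ≠ 0 := by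
    by_contra hc
    push Not at hc
    have h1 : ((g⁻¹ * g : symplecticGroup (Fin m) F) :
        Matrix (Fin m ⊕ Fin m) (Fin m ⊕ Fin m) F) j j = 0 := by
      rw [Submonoid.coe_mul, Matrix.mul_apply]; simp [hc]
    rw [inv_mul_cancel] at h1
    simp at h1
  refine ⟨r, hr, fun r' hr' => ?_⟩
  by_contra hne
  obtain ⟨t, ht, htne⟩ := exists_sep ha0 ha2 hne
  have h1 : g⁻¹ * t * g ∈ torus m F := by
    apply (hg _).2
    simpa [mul_assoc] using ht
  have h2 : (t : Matrix (Fin m ⊕ Fin m) (Fin m ⊕ Fin m) F) * g =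
      (g : Matrix (Fin m ⊕ Fin m) (Fin m ⊕ Fin m) F) *
        ((g⁻¹ * t * g : symplecticGroup (Fin m) F) : Matrix (Fin m ⊕ Fin m) (Fin m ⊕ Fin m) F) := by
    rw [← Submonoid.coe_mul, ← Submonoid.coe_mul]
    congr 1
    group
  rw [eq_diagonal ht, eq_diagonal h1] at h2
  have e1 := congrFun (congrFun h2 r) j
  have e2 := congrFun (congrFun h2 r') j
  rw [Matrix.diagonal_mul, Matrix.mul_diagonal, mul_comm] at e1 e2
  exact htne ((mul_left_cancel₀ hr' e2).trans (mul_left_cancel₀ hr e1).symm)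

theorem exists_mono {a : F} (ha0 : a ≠ 0) (ha2 : a * a ≠ 1) {g : symplecticGroup (Fin m) F}
    (hg : g ∈ Subgroup.normalizer (torus m F : Set (symplecticGroup (Fin m) F))) :
    ∃ σ s c, mono (sperm σ s) (coeff s c) = (g : Matrix (Fin m ⊕ Fin m) (Fin m ⊕ Fin m) F) := by
  choose π hπ hπu using exists_col ha0 ha2 hg
  have hz : ∀ r j, r ≠ π j → (g : Matrix (Fin m ⊕ Fin m) (Fin m ⊕ Fin m) F) r j = 0 := fun r j h => by
    by_contra h'; exact h (hπu j r h')
  have hform : ∀ j k, (g : Matrix (Fin m ⊕ Fin m) (Fin m ⊕ Fin m) F) (π j) j * Matrix.J (Fin m) F (π j) (π k) * (g : Matrix (Fin m ⊕ Fin m) (Fin m ⊕ Fin m) F) (π k) k =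
      Matrix.J (Fin m) F j k := by
    intro j k
    have h1 := congrFun (congrFun (SymplecticGroup.mem_iff'.1 g.2) j) k
    rw [Matrix.mul_apply, Finset.sum_eq_single (π k) (fun s _ hs => by rw [hz s k hs, mul_zero])
      (by simp), Matrix.mul_apply, Finset.sum_eq_single (π j)
      (fun r _ hr => by rw [Matrix.transpose_apply, hz r j hr, zero_mul]) (by simp)] at h1
    exact h1
  have hπinj : Function.Injective π := by
    intro x y hxy
    by_contra hne
    let v : Fin m ⊕ Fin m → F := (g : Matrix (Fin m ⊕ Fin m) (Fin m ⊕ Fin m) F) (π x) y • Pi.single x 1 - (g : Matrix (Fin m ⊕ Fin m) (Fin m ⊕ Fin m) F) (π x) x • Pi.single y 1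
    have hv : (g : Matrix (Fin m ⊕ Fin m) (Fin m ⊕ Fin m) F) *ᵥ v = 0 := by
      funext r
      simp only [v, Matrix.mulVec_sub, Matrix.mulVec_smul, Matrix.mulVec_single_one, Pi.sub_apply,
        Pi.smul_apply, smul_eq_mul, Matrix.col_apply, Pi.zero_apply]
      by_cases h : r = π x
      · subst h; ring
      · rw [hz r x h, hz r y (hxy ▸ h)]; ring
    have h0 : v = 0 := by
      have := congrArg (fun w => ((g⁻¹ : symplecticGroup (Fin m) F) :
        Matrix (Fin m ⊕ Fin m) (Fin m ⊕ Fin m) F) *ᵥ w) hv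
      simpa [Matrix.mulVec_mulVec, ← Submonoid.coe_mul] using this
    have := congrFun h0 y
    simp [v, hne, Ne.symm hne] at this
    exact hπ x this
  let s : Fin m → Bool := fun i => (π (Sum.inl i)).isRight
  let q : Fin m → Fin m := fun i => Sum.elim id id (π (Sum.inl i))
  have hl : ∀ i, π (Sum.inl i) = if s i then Sum.inr (q i) else Sum.inl (q i) := by
    intro i
    simp only [s, q]
    cases π (Sum.inl i) <;> simp
  have hr : ∀ i, π (Sum.inr i) = if s i then Sum.inl (q i) else Sum.inr (q i) := by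
    intro i
    have h1 := hform (Sum.inl i) (Sum.inr i)
    rw [hl i] at h1
    cases hs : s i <;> cases hx : π (Sum.inr i) with
    | inl y =>
      simp [hs, hx, Matrix.J, Matrix.one_apply] at h1 ⊢
      try (by_contra hne; simp [hne, Ne.symm hne] at h1)
    | inr y =>
      simp [hs, hx, Matrix.J, Matrix.one_apply] at h1 ⊢
      try (by_contra hne; simp [hne, Ne.symm hne] at h1)
  have hq : Function.Injective q := by
    intro i i' h
    by_cases hs : s i = s i'
    · have := hπinj (a₁ := Sum.inl i) (a₂ := Sum.inl i') (by rw [hl, hl, h, hs])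
      exact Sum.inl_injective this
    · have h1 : π (Sum.inl i) = π (Sum.inr i') := by
        rw [hl, hr, h]
        cases hs1 : s i <;> cases hs2 : s i' <;> simp [hs1, hs2] at hs ⊢
      exact absurd (hπinj h1) Sum.inl_ne_inr
  let σ := Equiv.ofBijective q hq.bijective_of_finite
  let c : Fin m → Fˣ := fun i => Units.mk0 _ (hπ (Sum.inl i))
  have hpi : ∀ x, sperm σ s x = π x := by
    rintro (i | i)
    · rw [sperm_inl]; exact (hl i).symm
    · rw [sperm_inr]; exact (hr i).symm
  refine ⟨σ, s, c, ?_⟩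
  ext r x
  rw [mono_apply, hpi]
  by_cases hrx : r = π x
  · subst hrx
    rw [if_pos rfl]
    rcases x with i | i
    · rfl
    · have h1 := hform (Sum.inl i) (Sum.inr i)
      have hc := hπ (Sum.inl i)
      simp only [coeff, c, Sum.elim_inr, Units.val_mk0]
      rw [hl i, hr i] at h1
      rw [hl i] at hc ⊢
      rw [hr i]
      cases hs : s i <;> simp [hs, Matrix.J] at h1 hc ⊢ <;> field_simp <;> linear_combination -h1
  · rw [if_neg hrx, hz r x hrx]

theorem card_normalizer [Fintype F] {a : F} (ha0 : a ≠ 0) (ha2 : a * a ≠ 1) :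
    Nat.card (Subgroup.normalizer (torus m F : Set (symplecticGroup (Fin m) F))) =
      2 ^ m * Nat.factorial m * (Fintype.card F - 1) ^ m := by
  classical
  let Ψ : (Equiv.Perm (Fin m) × (Fin m → Bool)) × (Fin m → Fˣ) →
      Subgroup.normalizer (torus m F : Set (symplecticGroup (Fin m) F)) :=
    fun p => ⟨⟨_, mono_mem p.1.1 p.1.2 p.2⟩, mono_mem_normalizer p.1.1 p.1.2 p.2⟩
  have hbij : Function.Bijective Ψ := by
    constructor
    · intro p p' h
      have h0 : mono (sperm p.1.1 p.1.2) (coeff p.1.2 p.2) =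
          mono (sperm p'.1.1 p'.1.2) (coeff p'.1.2 p'.2) :=
        congrArg (fun x : Subgroup.normalizer (torus m F : Set (symplecticGroup (Fin m) F)) =>
          (x.1 : Matrix (Fin m ⊕ Fin m) (Fin m ⊕ Fin m) F)) h
      have hl : ∀ i, sperm p.1.1 p.1.2 (Sum.inl i) = sperm p'.1.1 p'.1.2 (Sum.inl i) ∧
          coeff p.1.2 p.2 (Sum.inl i) = coeff p'.1.2 p'.2 (Sum.inl i) := by
        intro i
        have h1 := congrFun (congrFun h0 (sperm p.1.1 p.1.2 (Sum.inl i))) (Sum.inl i)
        rw [mono_apply, mono_apply, if_pos rfl] at h1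
        split at h1
        · next h2 => exact ⟨h2, h1⟩
        · exact absurd h1 (coeff_ne_zero _ _ _)
      have hp : ∀ i, p.1.2 i = p'.1.2 i ∧ p.1.1 i = p'.1.1 i := by
        intro i
        have h1 := (hl i).1
        rw [sperm_inl, sperm_inl] at h1
        cases hs : p.1.2 i <;> cases hs' : p'.1.2 i <;> simp [hs, hs'] at h1 ⊢ <;> exact h1
      exact Prod.ext (Prod.ext (Equiv.ext fun i => (hp i).2) (funext fun i => (hp i).1))
        (funext fun i => Units.ext (hl i).2)
    · rintro ⟨g, hg⟩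
      obtain ⟨σ, s, c, hσ⟩ := exists_mono ha0 ha2 hg
      exact ⟨((σ, s), c), Subtype.ext (Subtype.ext hσ)⟩
  rw [← Nat.card_congr (Equiv.ofBijective Ψ hbij)]
  rw [Nat.card_eq_fintype_card]
  simp only [Fintype.card_prod, Fintype.card_fun, Fintype.card_perm, Fintype.card_units,
    Fintype.card_bool, Fintype.card_fin]
  ring

end Cfsg.Agent.Lib.Forms.SpTorus
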