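/-
Canonical frames of `O_3(3)` and `GU_2(2)` as first tensor factors.
-/
import Cfsg.Agent.Lib.Forms.TensorFrame
import Cfsg.Agent.Lib.Subspaces.UnitaryGen

set_option autoImplicit false

namespace Cfsg.Agent.Lib.Forms.TensorFactor

open Matrix Cfsg.Agent.Lib.Subspaces.Transvection Cfsg.Agent.Lib.Subspaces.FormVec

variable {F : Type*} [Field F]

theorem qfun_of_symmetric (h2 : (2 : F) ≠ 0) {n : ℕ} {f : (Fin n → F) → (Fin n → F) → F}
    (hf : Cfsg.Geo.IsSymmetricForm f) :
    Cfsg.Geo.IsNondegenerateQuadraticForm (fun v => f v v) := by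
  have hb := hf.bilinear
  have hpol : ∀ x y, QuadraticMap.polar (fun v => f v v) x y = 2 * f x y := fun x y => by
    rw [QuadraticMap.polar, hb.add_left, hb.add_right, hb.add_right, hf.symm y x]; ring
  refine ⟨fun c v => by show f (c • v) (c • v) = _; rw [hb.smul_left, hb.smul_right]; ring,
    ⟨fun x y v => ?_, fun c x v => ?_, fun v x y => ?_, fun c v x => ?_⟩, fun v hv => ?_⟩
  · rw [hpol, hpol, hpol, hb.add_left]; ring
  · rw [hpol, hpol, hb.smul_left]; ring
  · rw [hpol, hpol, hpol, hb.add_right]; ring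
  · rw [hpol, hpol, hb.smul_right]; ring
  · obtain ⟨⟨x, hx⟩, ⟨y, hy⟩⟩ := hf.nondegenerate v hv
    exact ⟨⟨x, by rw [hpol]; exact mul_ne_zero h2 hx⟩, ⟨y, by rw [hpol]; exact mul_ne_zero h2 hy⟩⟩

theorem sym_three [Fintype F] (h3 : Fintype.card F = 3) {f : (Fin 3 → F) → (Fin 3 → F) → F}
    (hf : Cfsg.Geo.IsSymmetricForm f) :
    ∃ u : Fin 3 → Fin 3 → F, (∀ i, u i ≠ 0) ∧ (∀ i, f (u i) (u i) ≠ 0) ∧
      (∀ i j, i ≠ j → f (u i) (u j) = 0) ∧
      ∀ (a : GL (Fin 3) F) (lam : F), lam ≠ 0 →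
        (∀ x x', f ((a : Matrix (Fin 3) (Fin 3) F) *ᵥ x) ((a : Matrix (Fin 3) (Fin 3) F) *ᵥ x') =
          lam * f x x') →
        ∀ i, ∃ (j : Fin 3) (c : F), (a : Matrix (Fin 3) (Fin 3) F) *ᵥ u i = c • u j := by
  have h30 := FrameRefine.three_eq_zero h3
  have h2 : (2 : F) ≠ 0 := fun h => one_ne_zero (by linear_combination h30 - h : (1 : F) = 0)
  have hQ := qfun_of_symmetric h2 hf
  have hb := hf.bilinear
  have hpol : ∀ x y, QuadraticMap.polar (fun v => f v v) x y = 2 * f x y := fun x y => by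
    rw [QuadraticMap.polar, hb.add_left, hb.add_right, hb.add_right, hf.symm y x]; ring
  obtain ⟨u, -, huQ, huo, hP⟩ := FrameRefine.frame_three hQ h3 (W := ⊤)
    (by rw [finrank_top, Module.finrank_fin_fun])
    (fun w _ hw => by
      obtain ⟨⟨x, hx⟩, ⟨y, hy⟩⟩ := hQ.nondegenerate w hw
      exact ⟨⟨x, trivial, hx⟩, ⟨y, trivial, hy⟩⟩)
  have hu0 : ∀ i, u i ≠ 0 := fun i h => huQ i (by
    show f (u i) (u i) = 0
    rw [h, form_zero_left (isLinearLeft_of_bilinear hb)])
  refine ⟨u, hu0, huQ, fun i j h => ?_, fun a lam hlam ha i => ?_⟩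
  · have := huo i j h
    rw [hpol] at this
    exact (mul_eq_zero.mp this).resolve_left h2
  · -- the multiplier is a square, hence one
    have hG : ∀ x y, f x y = x ⬝ᵥ (Cfsg.Geo.gramMatrix f *ᵥ y) := fun x y => by
      rw [TensorFrame.eq_formOfGram (σ := id) (isLinearLeft_of_bilinear hb) hb.add_right
        hb.smul_right x y, Cfsg.Geo.formOfGram]
      simp only [dotProduct, mulVec, id, Finset.mul_sum, mul_assoc]
    set G := Cfsg.Geo.gramMatrix f
    have hGdet : G.det ≠ 0 := fun h => by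
      obtain ⟨v, hv, hv'⟩ := Matrix.exists_mulVec_eq_zero_iff.mpr h
      obtain ⟨⟨x, hx⟩, -⟩ := hf.nondegenerate v hv
      exact hx (by rw [hG, hv', dotProduct_zero])
    have hA : (a : Matrix (Fin 3) (Fin 3) F)ᵀ * G * (a : Matrix (Fin 3) (Fin 3) F) = lam • G := by
      ext p q
      have h := ha (Pi.single p 1) (Pi.single q 1)
      rw [hG, hG, Matrix.mulVec_mulVec, dotProduct_comm, Matrix.dotProduct_mulVec] at h
      have e1 : ((a : Matrix (Fin 3) (Fin 3) F)ᵀ * G * (a : Matrix (Fin 3) (Fin 3) F)) p q =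
          ((a : Matrix (Fin 3) (Fin 3) F) *ᵥ Pi.single p 1) ⬝ᵥ
            ((G * (a : Matrix (Fin 3) (Fin 3) F)) *ᵥ Pi.single q 1) := by
        rw [Matrix.mul_assoc]
        simp [Matrix.mul_apply, dotProduct, Matrix.mulVec_single_one, Matrix.transpose_apply]
      rw [e1, dotProduct_comm, Matrix.dotProduct_mulVec, h]
      simp [Matrix.smul_apply]
    have hd := congrArg Matrix.det hA
    rw [Matrix.det_mul, Matrix.det_mul, Matrix.det_transpose, Matrix.det_smul, Fintype.card_fin]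
      at hd
    have hl : lam = 1 := by
      have hd' : (a : Matrix (Fin 3) (Fin 3) F).det * (a : Matrix (Fin 3) (Fin 3) F).det = lam ^ 3 :=
        mul_right_cancel₀ hGdet (by linear_combination hd)
      have ha0 : (a : Matrix (Fin 3) (Fin 3) F).det ≠ 0 := fun e => by
        rw [e, zero_mul] at hd'
        exact pow_ne_zero 3 hlam hd'.symm
      rw [FrameRefine.sq_eq_one h3 ha0] at hd'
      linear_combination -hd' - lam * FrameRefine.sq_eq_one h3 hlam
    exact hP _ trivial i (by show f _ _ = f _ _; rw [ha, hl, one_mul])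

theorem herm_two [Fintype F] (hF : Fintype.card F = 2 ^ 2) {f : (Fin 2 → F) → (Fin 2 → F) → F}
    (hf : Cfsg.Geo.IsUnitaryFormPow 2 f) :
    ∃ u : Fin 2 → Fin 2 → F, (∀ i, u i ≠ 0) ∧ (∀ i, f (u i) (u i) ≠ 0) ∧
      (∀ i j, i ≠ j → f (u i) (u j) = 0) ∧
      ∀ (a : GL (Fin 2) F) (lam : F), lam ≠ 0 →
        (∀ x x', f ((a : Matrix (Fin 2) (Fin 2) F) *ᵥ x) ((a : Matrix (Fin 2) (Fin 2) F) *ᵥ x') =
          lam * f x x') →
        ∀ i, ∃ (j : Fin 2) (c : F), (a : Matrix (Fin 2) (Fin 2) F) *ᵥ u i = c • u j := by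
  classical
  let σ := Cfsg.Agent.Lib.Subspaces.UnitaryGen.powAut hF
  have hσ : ∀ x : F, σ x = x ^ 2 := Cfsg.Agent.Lib.Subspaces.UnitaryGen.powAut_apply hF
  have h4 : ∀ a : F, a ≠ 0 → a ^ 3 = 1 := fun a ha => by
    have := FiniteField.pow_card_sub_one_eq_one a ha
    rw [hF] at this
    simpa using this
  have hfix : ∀ a : F, a ≠ 0 → a ^ 2 = a → a = 1 := fun a ha h => by
    have h' := h4 a ha
    rw [pow_succ, h, ← pow_two, h] at h'
    exact h'
  have hfU : Cfsg.Geo.IsUnitaryForm σ f := by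
    refine ⟨?_, fun a => ?_, hf.add_left, hf.smul_left, fun v w => ?_, hf.nondegenerate⟩
    · intro h
      have hall : ∀ x : F, x ^ 2 = x := fun x => by rw [← hσ, h]; rfl
      obtain ⟨x, hx⟩ := Finset.exists_mem_notMem_of_card_lt_card (s := ({0, 1} : Finset F))
        (t := Finset.univ) (lt_of_le_of_lt Finset.card_le_two (by rw [Finset.card_univ, hF]; norm_num))
      simp at hx
      exact hx.2 (hfix x hx.1 (hall x))
    · rw [hσ, hσ, ← pow_mul, show 2 * 2 = Fintype.card F by rw [hF]; norm_num,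
        FiniteField.pow_card]
    · rw [hσ]; exact hf.herm v w
  have hone : ∀ v, f v v ≠ 0 → f v v = 1 := fun v hv => hfix _ hv (hf.herm v v).symm
  obtain ⟨u0, -, hu0⟩ := Cfsg.Agent.Lib.Subspaces.UnitaryForm.exists_anisotropic hfU
    (![] : Fin 0 → Fin 2 → F) (by simp)
  have hu01 := hone u0 hu0
  have hu0ne : u0 ≠ 0 := fun h => hu0 (by rw [h, form_zero_left (isLinearLeft_of_unitary hfU)])
  obtain ⟨y, hy⟩ : ∃ y, y ∉ Submodule.span F {u0} := by
    by_contra hcon
    push Not at hcon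
    have h := Submodule.finrank_mono (show (⊤ : Submodule F (Fin 2 → F)) ≤ Submodule.span F {u0}
      from fun x _ => hcon x)
    rw [finrank_top, Module.finrank_fin_fun, finrank_span_singleton hu0ne] at h
    omega
  set u1 := y - f y u0 • u0 with hu1def
  have h10 : f u1 u0 = 0 := by
    rw [hu1def, form_sub_left (isLinearLeft_of_unitary hfU), hf.smul_left, hu01, mul_one, sub_self]
  have hu1ne : u1 ≠ 0 := fun h => hy (by
    rw [sub_eq_zero.mp h]; exact Submodule.smul_mem _ _ (Submodule.mem_span_singleton_self _))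
  have h01 : f u0 u1 = 0 := Cfsg.Agent.Lib.Subspaces.UnitaryForm.swap_eq_zero hfU h10
  let u : Fin 2 → Fin 2 → F := ![u0, u1]
  have hli : ∀ x, ∃ r s : F, x = r • u0 + s • u1 := by
    intro x
    have hlt : Submodule.span F {u0} < Submodule.span F {u0, u1} := by
      refine lt_of_le_of_ne (Submodule.span_mono (by simp)) fun h => hy ?_
      have hu1m : u1 ∈ Submodule.span F {u0} := h ▸ Submodule.subset_span (by simp)
      simpa [hu1def] using (Submodule.span F {u0}).add_mem hu1m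
        (Submodule.smul_mem _ (f y u0) (Submodule.mem_span_singleton_self u0))
    have hd := Submodule.finrank_lt_finrank_of_lt hlt
    rw [finrank_span_singleton hu0ne] at hd
    have htop : Submodule.span F {u0, u1} = ⊤ := Submodule.eq_top_of_finrank_eq (by
      have := (Submodule.span F {u0, u1}).finrank_le
      rw [Module.finrank_fin_fun] at this ⊢
      omega)
    obtain ⟨r, s, h⟩ := Submodule.mem_span_pair.mp (show x ∈ Submodule.span F {u0, u1} by
      rw [htop]; trivial)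
    exact ⟨r, s, h.symm⟩
  have hu11 : f u1 u1 = 1 := by
    refine hone _ fun h => ?_
    obtain ⟨⟨x, hx⟩, -⟩ := hf.nondegenerate u1 hu1ne
    obtain ⟨r, s, rfl⟩ := hli x
    exact hx (by rw [hf.add_left, hf.smul_left, hf.smul_left, h01, h]; ring)
  refine ⟨u, ?_, ?_, ?_, fun a lam hlam ha i => ?_⟩
  · intro i; fin_cases i
    exacts [hu0ne, hu1ne]
  · intro i; fin_cases i
    · show f u0 u0 ≠ 0; exact hu0
    · show f u1 u1 ≠ 0; rw [hu11]; exact one_ne_zero
  · intro i j h
    fin_cases i <;> fin_cases j <;> first | exact absurd rfl h | exact h01 | exact h10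
  · have hl : lam = 1 := by
      have h := ha u0 u0
      rw [hu01, mul_one] at h
      rw [← h]
      exact hone _ (by rw [h]; exact hlam)
    set v := (a : Matrix (Fin 2) (Fin 2) F) *ᵥ u i
    have hv : f v v = 1 := by
      rw [ha, hl, one_mul]
      fin_cases i
      exacts [hu01, hu11]
    obtain ⟨r, s, hrs⟩ := hli v
    by_cases hr : r = 0
    · exact ⟨1, s, by rw [hrs, hr, zero_smul, zero_add]; rfl⟩
    by_cases hs : s = 0
    · exact ⟨0, r, by rw [hrs, hs, zero_smul, add_zero]; rfl⟩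
    exfalso
    rw [hrs, hfU.add_left, hfU.smul_left, hfU.smul_left,
      Cfsg.Agent.Lib.Subspaces.UnitaryForm.add_right hfU,
      Cfsg.Agent.Lib.Subspaces.UnitaryForm.add_right hfU,
      Cfsg.Agent.Lib.Subspaces.UnitaryForm.smul_right hfU,
      Cfsg.Agent.Lib.Subspaces.UnitaryForm.smul_right hfU,
      Cfsg.Agent.Lib.Subspaces.UnitaryForm.smul_right hfU,
      Cfsg.Agent.Lib.Subspaces.UnitaryForm.smul_right hfU, hσ, hσ, hu01, hu11, h01, h10] at hv
    exact one_ne_zero (α := F) (by linear_combination hv - h4 r hr - h4 s hs)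

theorem sym_data [Finite F] (h2 : (2 : F) ≠ 0) {n : ℕ} (hn : 4 < n)
    {f : (Fin n → F) → (Fin n → F) → F} (hf : Cfsg.Geo.IsSymmetricForm f) :
    ∃ p q y : Fin n → F, f p p = 0 ∧ p ≠ 0 ∧ f q p = 0 ∧ q ∉ Submodule.span F {p} ∧ f y p ≠ 0 := by
  have hQ := qfun_of_symmetric h2 hf
  have hb := hf.bilinear
  have hpol : ∀ x y, QuadraticMap.polar (fun v => f v v) x y = 2 * f x y := fun x y => by
    rw [QuadraticMap.polar, hb.add_left, hb.add_right, hb.add_right, hf.symm y x]; ring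
  obtain ⟨p, hpQ, -, hpz⟩ := Cfsg.Agent.Lib.Subspaces.OrthForm.exists_singular hQ h2
    (![] : Fin 0 → Fin n → F) (z := Pi.single (⟨0, by omega⟩ : Fin n) 1)
    (by simp) (by simp; omega)
  rw [hpol] at hpz
  have hp0 : p ≠ 0 := fun h => by
    rw [h, form_zero_left (isLinearLeft_of_bilinear hb), mul_zero] at hpz
    exact zero_ne_one hpz
  obtain ⟨q, hq, hqp⟩ := exists_common_zero_not_mem (Submodule.span F {p})
    (fun _ : Fin 1 => formVec f p)
    (by rw [finrank_span_singleton hp0, Fintype.card_fin]; omega)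
  refine ⟨p, q, Pi.single (⟨0, by omega⟩ : Fin n) 1, hpQ, hp0, ?_, hq, fun h => ?_⟩
  · rw [← formVec_dot (isLinearLeft_of_bilinear hb)]; exact hqp 0
  · rw [hf.symm, h, mul_zero] at hpz
    exact zero_ne_one hpz

end Cfsg.Agent.Lib.Forms.TensorFactor
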