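/-
`GL_2(2)` normalises a field of order four: stabilisers of tensor decompositions with such a first
factor lie in an extension field normaliser.
-/
import Cfsg.Agent.Lib.Forms.TensorFrame

set_option autoImplicit false

namespace Cfsg.Agent.Lib.Forms.TensorField

open Matrix Cfsg.Agent.Lib.Subspaces.Transvection Cfsg.Agent.Lib.Forms.TensorFrame
open scoped Kronecker

variable {ι : Type} [Fintype ι] [DecidableEq ι] {F : Type*} [Field F]

/-- A matrix of order three. -/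
def om (F : Type*) [Field F] : Matrix (Fin 2) (Fin 2) F := !![0, 1; 1, 1]

theorem om_cube (h2 : (2 : F) = 0) : om F * (om F * om F) = 1 := by
  ext i j
  fin_cases i <;> fin_cases j <;> simp [om, Matrix.mul_apply, Fin.sum_univ_two] <;>
    linear_combination h2

theorem om_det_ne (h2 : (2 : F) = 0) : (om F).det ≠ 0 := fun h => by
  have := congrArg Matrix.det (om_cube h2)
  rw [Matrix.det_mul, Matrix.det_mul, h, zero_mul, Matrix.det_one] at this
  exact zero_ne_one this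

theorem conj_om [Fintype F] (hq : Fintype.card F = 2) {a : Matrix (Fin 2) (Fin 2) F}
    (ha : a.det ≠ 0) : a * om F = om F * a ∨ a * om F = om F * om F * a := by
  let φ : ZMod 2 ≃+* F := ZMod.ringEquivOfPrime F Nat.prime_two hq
  have hdec : ∀ b : Matrix (Fin 2) (Fin 2) (ZMod 2), b.det ≠ 0 →
      b * om (ZMod 2) = om (ZMod 2) * b ∨ b * om (ZMod 2) = om (ZMod 2) * om (ZMod 2) * b := by
    intro b
    revert b
    unfold om
    decide +kernel
  have hom : φ.toRingHom.mapMatrix (om (ZMod 2)) = om F := by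
    ext i j
    fin_cases i <;> fin_cases j <;> simp [om]
  obtain ⟨b, rfl⟩ : ∃ b, φ.toRingHom.mapMatrix b = a :=
    ⟨φ.symm.toRingHom.mapMatrix a, by ext i j; simp⟩
  have hb : b.det ≠ 0 := fun h => ha (by rw [← RingHom.map_det, h, map_zero])
  rw [← hom, ← map_mul, ← map_mul, ← map_mul, ← map_mul]
  exact (hdec b hb).imp (congrArg _) (congrArg _)

variable {n₂ : ℕ} (e : ι ≃ Fin 2 × Fin n₂) (P : GL ι F)

theorem pure_single (i : Fin 2) (j : Fin n₂) :
    pure e P (Pi.single i 1) (Pi.single j 1) =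
      (P : Matrix ι ι F) *ᵥ Pi.single (e.symm (i, j)) 1 := by
  rw [TensorFrame.pure]
  congr 1
  funext k
  obtain ⟨⟨a, b⟩, rfl⟩ := e.symm.surjective k
  by_cases ha : a = i <;> by_cases hb : b = j <;> simp [ha, hb, Pi.single_apply]

theorem gl_ext_pure {g h : GL ι F}
    (hgh : ∀ x y, (g : Matrix ι ι F) *ᵥ pure e P x y = (h : Matrix ι ι F) *ᵥ pure e P x y) :
    g = h := by
  have h1 : g * P = h * P := Units.ext (Matrix.ext_of_mulVec_single fun k => by
    obtain ⟨⟨a, b⟩, rfl⟩ := e.symm.surjective k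
    have := hgh (Pi.single a 1) (Pi.single b 1)
    rw [pure_single] at this
    rw [Units.val_mul, Units.val_mul, ← Matrix.mulVec_mulVec, ← Matrix.mulVec_mulVec]
    exact this)
  exact mul_right_cancel h1

/-- The element acting as `om ⊗ 1`. -/
theorem exists_W (h2 : (2 : F) = 0) : ∃ W : GL ι F,
    ∀ x y, (W : Matrix ι ι F) *ᵥ pure e P x y = pure e P (om F *ᵥ x) y := by
  let a : GL (Fin 2) F := Matrix.GeneralLinearGroup.mkOfDetNeZero (om F) (om_det_ne h2)
  let k : GL (Fin 2 × Fin n₂) F :=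
    Matrix.GeneralLinearGroup.mkOfDetNeZero (om F ⊗ₖ (1 : Matrix (Fin n₂) (Fin n₂) F)) (by
      rw [Matrix.det_kronecker, Matrix.det_one, one_pow, mul_one]
      exact pow_ne_zero _ (om_det_ne h2))
  refine ⟨(Cfsg.Geo.glReindex e.symm k) |> fun g => P * g * P⁻¹, fun x y => ?_⟩
  show ((P * _ * P⁻¹ : GL ι F) : Matrix ι ι F) *ᵥ ((P : Matrix ι ι F) *ᵥ _) = _
  rw [gl_mul_mulVec, gl_mul_mulVec, gl_inv_mulVec, TensorFrame.pure]
  congr 1
  show ((Matrix.reindexAlgEquiv F F e.symm) (om F ⊗ₖ (1 : Matrix (Fin n₂) (Fin n₂) F))) *ᵥ _ = _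
  rw [Matrix.coe_reindexAlgEquiv, Matrix.reindex_apply, Equiv.symm_symm,
    Matrix.submatrix_mulVec_equiv]
  congr 1
  funext p
  simp only [mulVec, dotProduct, Matrix.kroneckerMap_apply, Fintype.sum_prod_type,
    Function.comp_apply, Equiv.apply_symm_apply, Finset.sum_mul]
  refine Finset.sum_congr rfl fun i _ => ?_
  rw [Finset.sum_eq_single p.2] <;> simp +contextual [mul_assoc, Matrix.one_apply_ne, Ne.symm]

/-- The overgroup. -/
theorem exists_between [Fintype F] (hq : Fintype.card F = 2) {H X : Subgroup (GL ι F)} (hHX : H ≤ X)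
    (hH : ∀ g ∈ H, g ∈ Cfsg.Geo.tensorProductSubgroup 2 n₂ e P)
    {g₁ : GL ι F} (hg₁ : g₁ ∈ X) {N N' : (Fin n₂ → F) → (Fin n₂ → F)}
    (hg₁e : ∀ x y, (g₁ : Matrix ι ι F) *ᵥ pure e P x y =
      pure e P x y + pure e P (om F *ᵥ x) (N y) + pure e P (om F *ᵥ (om F *ᵥ x)) (N' y))
    {y₀ y₁ : Fin n₂ → F} (hy₀ : y₀ ≠ 0) (hN₀ : N y₀ = 0) (hN₀' : N' y₀ = 0) (hN₁ : N y₁ ≠ 0)
    (hN₁' : N' y₁ = 0)
    {g₂ : GL ι F} (hg₂ : g₂ ∈ X) {E : Matrix (Fin 2) (Fin 2) F} (hE : ∃ x, E *ᵥ (om F *ᵥ x) ≠ om F *ᵥ (E *ᵥ x))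
    {M : (Fin n₂ → F) → (Fin n₂ → F)}
    (hg₂e : ∀ x y, (g₂ : Matrix ι ι F) *ᵥ pure e P x y = pure e P x y + pure e P (E *ᵥ x) (M y))
    {z₀ z₁ : Fin n₂ → F} (hz₀ : z₀ ≠ 0) (hM₀ : M z₀ = 0) (hM₁ : M z₁ ≠ 0) :
    ∃ K : Subgroup (GL ι F), H < K ∧ K < X := by
  have h2 : (2 : F) = 0 := by
    have := FiniteField.cast_card_eq_zero F
    rw [hq] at this
    simpa using this
  obtain ⟨W, hW⟩ := exists_W e P h2
  have hW3 : W * (W * W) = 1 := gl_ext_pure e P fun x y => by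
    rw [gl_mul_mulVec, gl_mul_mulVec, hW, hW, hW, mulVec_mulVec, mulVec_mulVec, 
      mul_assoc, om_cube h2]
    simp
  let S : Set (GL ι F) := {W, W * W}
  have hpair : ∀ {u u' : Fin 2 → F} {y : Fin n₂ → F}, y ≠ 0 →
      pure e P u y = pure e P u' y → u = u' := by
    intro u u' y hy h
    obtain ⟨j, hj⟩ := Function.ne_iff.mp hy
    funext i
    exact mul_right_cancel₀ hj (pure_inj e P h i j)
  have hnorm : ∀ g : GL ι F, (∀ h ∈ S, g * h * g⁻¹ ∈ S) → g ∈ Subgroup.normalizer S := by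
    intro g hg
    have hinj : Set.InjOn (fun h => g * h * g⁻¹) S := fun a _ b _ h => by simpa using h
    have hbij := ((Set.toFinite S).injOn_iff_bijOn_of_mapsTo (f := fun h => g * h * g⁻¹) hg).mp hinj
    refine Subgroup.mem_set_normalizer_iff.mpr fun h => ⟨hg h, fun hh => ?_⟩
    obtain ⟨h', hh', he⟩ := hbij.surjOn hh
    have : h' = h := by simpa using he
    exact this ▸ hh'
  have hconj2 : ∀ g : GL ι F, g * W * g⁻¹ ∈ S → g ∈ Subgroup.normalizer S := by
    intro g hg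
    refine hnorm g ?_
    rintro h (rfl | rfl)
    · exact hg
    · rw [show g * (W * W) * g⁻¹ = (g * W * g⁻¹) * (g * W * g⁻¹) by group]
      rcases hg with h | h <;> rw [h]
      · exact Or.inr rfl
      · exact Or.inl (show W * W * (W * W) = W by
          rw [show W * W * (W * W) = W * (W * W) * W by group, hW3, one_mul])
  refine exists_between_of (K := Subgroup.normalizer S ⊓ X) (fun g hg => ⟨?_, hHX hg⟩) inf_le_right
    ⟨g₁, ⟨?_, hg₁⟩, fun hmem => ?_⟩ ⟨g₂, hg₂, fun hmem => ?_⟩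
  · obtain ⟨a, b, hab⟩ := exists_of_mem_tensor e P (hH g hg)
    have hadet : (a : Matrix (Fin 2) (Fin 2) F).det ≠ 0 := by
      rw [← Matrix.GeneralLinearGroup.val_det_apply]; exact Units.ne_zero _
    refine hconj2 g ?_
    rcases conj_om hq hadet with h | h
    · refine Or.inl (mul_inv_eq_iff_eq_mul.mpr (gl_ext_pure e P fun x y => ?_))
      rw [gl_mul_mulVec, gl_mul_mulVec, hW, hab, hab, hW, mulVec_mulVec, mulVec_mulVec, h]
    · refine Or.inr (show g * W * g⁻¹ = W * W from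
        mul_inv_eq_iff_eq_mul.mpr (gl_ext_pure e P fun x y => ?_))
      rw [gl_mul_mulVec, gl_mul_mulVec, gl_mul_mulVec, hW, hab, hab, hW, hW, mulVec_mulVec,
        mulVec_mulVec, mulVec_mulVec, h, mul_assoc]
  · refine hconj2 g₁ (Or.inl (mul_inv_eq_iff_eq_mul.mpr (gl_ext_pure e P fun x y => ?_)))
    rw [gl_mul_mulVec, gl_mul_mulVec, hW, hg₁e, hg₁e, mulVec_add, mulVec_add, hW, hW, hW]
  · obtain ⟨a, b, hab⟩ := exists_of_mem_tensor e P (hH g₁ hmem)
    have h0 : ∀ x, pure e P ((a : Matrix (Fin 2) (Fin 2) F) *ᵥ x)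
        ((b : Matrix (Fin n₂) (Fin n₂) F) *ᵥ y₀) = pure e P x y₀ := fun x => by
      rw [← hab, hg₁e, hN₀, hN₀']
      have hz : ∀ u, pure e P u (0 : Fin n₂ → F) = 0 := fun u => by
        rw [show (0 : Fin n₂ → F) = (0 : F) • 0 by simp, pure_smul_right, zero_smul]
      rw [hz, hz, add_zero, add_zero]
    obtain ⟨j, hj⟩ := Function.ne_iff.mp hy₀
    obtain ⟨j', hj'⟩ := Function.ne_iff.mp hN₁
    simp only [Pi.zero_apply] at hj hj'
    have hz' : ∀ u, pure e P u (N' y₁) = 0 := fun u => by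
      rw [hN₁', show (0 : Fin n₂ → F) = (0 : F) • 0 by simp, pure_smul_right, zero_smul]
    set ν := ((b : Matrix (Fin n₂) (Fin n₂) F) *ᵥ y₀) j
    set x0 : Fin 2 → F := Pi.single 0 1 with hx0
    have h1 := pure_inj e P (h0 x0) 0 j
    have h1' := pure_inj e P (h0 x0) 1 j
    simp [hx0] at h1 h1'
    have hν : ν ≠ 0 := fun h => hj (by rw [← h1]; exact mul_eq_zero_of_right _ h)
    have ha1 : (a : Matrix (Fin 2) (Fin 2) F) 1 0 = 0 := h1'.resolve_right hν
    have h := hab x0 y₁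
    rw [hg₁e, hz', add_zero] at h
    have h' : pure e P (om F *ᵥ x0) (N y₁) =
        pure e P ((a : Matrix (Fin 2) (Fin 2) F) *ᵥ x0) ((b : Matrix (Fin n₂) (Fin n₂) F) *ᵥ y₁) -
          pure e P x0 y₁ := by rw [← h]; abel
    rw [eq_sub_iff_add_eq] at h'
    have h2' := congrFun (gl_mulVec_injective P (show (P : Matrix ι ι F) *ᵥ _ = (P : Matrix ι ι F) *ᵥ _
      from (mulVec_add _ _ _).trans h')) (e.symm (1, j'))
    simp [hx0, om, ha1] at h2'
    exact hj' h2'
  · obtain ⟨x, hx⟩ := hE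
    have hcom : ∀ W' : GL ι F, g₂ * W * g₂⁻¹ = W' → ∀ u y, (g₂ : Matrix ι ι F) *ᵥ
        ((W : Matrix ι ι F) *ᵥ pure e P u y) =
        (W' : Matrix ι ι F) *ᵥ ((g₂ : Matrix ι ι F) *ᵥ pure e P u y) := fun W' h u y => by
      rw [← gl_mul_mulVec, ← gl_mul_mulVec, ← h, inv_mul_cancel_right]
    have hz : ∀ u, pure e P u (0 : Fin n₂ → F) = 0 := fun u => by
      rw [show (0 : Fin n₂ → F) = (0 : F) • 0 by simp, pure_smul_right, zero_smul]
    have hS := (Subgroup.mem_set_normalizer_iff.mp hmem.1 W).1 (Or.inl rfl)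
    rcases hS with h | h
    · have h1 := hcom W h x z₁
      rw [hW, hg₂e, hg₂e, mulVec_add, hW, hW, add_right_inj] at h1
      exact hx (hpair hM₁ h1)
    · have h1 := hcom (W * W) h (Pi.single 0 1) z₀
      rw [hW, hg₂e, hg₂e, hM₀, hz, hz, add_zero, add_zero, gl_mul_mulVec, hW, hW] at h1
      have := congrFun (hpair hz₀ h1) 0
      simp [om, mulVec, dotProduct, Fin.sum_univ_two] at this

end Cfsg.Agent.Lib.Forms.TensorField
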